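import Cfsg.Agent.Omega.SQEnd.KBase

/-!
# `KD` from `K / W ≅ SL₂(k)` and `W U j` of odd index in `K`
-/

set_option autoImplicit false

universe u v w

namespace Cfsg.Agent.Omega.SQEnd

open Subgroup Cfsg.Agent.Omega.BTwo Cfsg.Agent.Lib.SL2Mat

variable {G : Type u} [Group G] [Finite G] {ι : Type v} {V : Subgroup G} {R : ι → Subgroup G} {i j : ι} {k : Type w}
  [Field k] [Finite k] [CharP k 2] {K : Subgroup G}

/-- **entry**: `K / W i ≅ SL₂(k)` and `W i U j` contains a Sylow 2-subgroup of `K` -/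
theorem exists_kd (b : BTC V R) (hij : i ≠ j) {ψ : K →* Matrix.SpecialLinearGroup (Fin 2) k}
    (hψ : Function.Surjective ψ) (hker : ∀ g : K, ψ g = 1 ↔ (g : G) ∈ WW V (R i)) (hWK : WW V (R i) ≤ K)
    (hUK : UU V R j ≤ K) (hKR : K ≤ centralizer (R i : Set G))
    (hNK : normalizer (R i : Set G) ≤ normalizer (K : Set G))
    (hodd : Odd ((WW V (R i) ⊔ UU V R j).relIndex K)) : ∃ φ, KD V R i j K φ (k := k) := by
  have : Fact (Nat.Prime 2) := ⟨Nat.prime_two⟩
  set S := WW V (R i) ⊔ UU V R j with hS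
  have hSK : S ≤ K := sup_le hWK hUK
  have hSY : S ≤ WW V (R i) ⊔ YY V R := sup_le le_sup_left ((UU_le_YY j).trans le_sup_right)
  have hY2 : IsPGroup 2 (YY V R) := by
    rintro ⟨y, hy⟩
    refine ⟨2, Subtype.ext ?_⟩
    change y ^ 4 = 1
    have h1 := b.D_sq (b.Y_sq hy)
    have e : y ^ 4 = y * y * (y * y) := by simp only [pow_succ, pow_zero, one_mul, mul_assoc]
    rw [e, h1]
  have hS2 : IsPGroup 2 S :=
    ((b.W_isPGroup i).to_sup_of_normal_right' hY2 ((b.W_le_NV i).trans b.NV_le_NY)).to_le hSY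
  have h2 : IsPGroup 2 (S.subgroupOf K) := hS2.comap_of_injective _ K.subtype_injective
  have hdvd : ((S.subgroupOf K).map ψ).index ∣ (S.subgroupOf K).index := index_map_dvd _ hψ
  let P : Sylow 2 (Matrix.SpecialLinearGroup (Fin 2) k) := (h2.map ψ).toSylow fun h =>
    (Nat.not_even_iff_odd.2 hodd) (even_iff_two_dvd.2 (h.trans hdvd))
  have hP : ∀ x, x ∈ P ↔ ∃ g : K, (g : G) ∈ S ∧ ψ g = x := fun x => by
    constructor
    · rintro ⟨g, hg, e⟩
      exact ⟨g, hg, e⟩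
    · rintro ⟨g, hg, e⟩
      exact ⟨g, hg, e⟩
  obtain ⟨s, hs⟩ := MulAction.exists_smul_eq (Matrix.SpecialLinearGroup (Fin 2) k) P (Lib.AutSL2.sylU k 2)
  have hU : ∀ x, x ∈ Lib.AutSL2.sylU k 2 ↔ ∃ y : k, up y = x := fun x => Iff.rfl
  refine ⟨(MulAut.conj s).toMonoidHom.comp ψ, ?_⟩
  have hφ : ∀ g : K, ((MulAut.conj s).toMonoidHom.comp ψ) g = s * ψ g * s⁻¹ := fun g => rfl
  refine
    { ne := hij
      WK := hWK
      UK := hUK
      KR := fun g hg a ha => (mem_centralizer_iff.1 (hKR hg) a ha).symm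
      NK := hNK
      surj := fun x => ?_
      ker := fun g => ?_
      uni := fun g => ?_ }
  · obtain ⟨g, hg⟩ := hψ (s⁻¹ * x * s)
    exact ⟨g, by rw [hφ, hg]; group⟩
  · rw [hφ, ← hker, mul_inv_eq_one]
    constructor
    · intro h
      exact mul_left_cancel (h.trans (mul_one s).symm)
    · intro h
      rw [h, mul_one]
  · rw [hφ]
    have h3 : (∃ x : k, (s * ψ g * s⁻¹ : Matrix.SpecialLinearGroup (Fin 2) k).1 = !![1, x; 0, 1]) ↔
        s * ψ g * s⁻¹ ∈ Lib.AutSL2.sylU k 2 := by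
      rw [hU]
      exact exists_congr fun x => eq_up_iff.trans eq_comm
    rw [h3, ← hs, Lib.AutSL2.mem_smul_sylow, hP]
    have e : s⁻¹ * (s * ψ g * s⁻¹) * s = ψ g := by group
    rw [e]
    constructor
    · exact fun h => ⟨g, h, rfl⟩
    · rintro ⟨g', hg', e'⟩
      have h4 : ψ (g'⁻¹ * g) = 1 := by rw [map_mul, map_inv, e', inv_mul_cancel]
      have h5 := mul_mem hg' ((le_sup_left : WW V (R i) ≤ S) ((hker _).1 h4))
      have e2 : (g' : G) * ((g'⁻¹ * g : K) : G) = g := by push_cast; group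
      rwa [e2] at h5

end Cfsg.Agent.Omega.SQEnd
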