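import Cfsg.Agent.Omega.SQEnd.OfBT
import Mathlib.LinearAlgebra.Matrix.SpecialLinearGroup

/-!
# The input of the end of `b = 2`: `K ⊴ N(R i)`, `K / W i = SL₂(k)`, `W i U j / W i` a Sylow 2-subgroup
-/

set_option autoImplicit false

universe u v w

namespace Cfsg.Agent.Omega.SQEnd

open Subgroup Cfsg.Agent.Omega.BTwo

variable {G : Type u} [Group G] {ι : Type v}

/-- `K ⊴ N(R i)`, `[K, R i] = 1`, `φ : K → SL₂(k)` with kernel `W i`; `W i U j` is the preimage of the upper unitriangular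
group. -/
structure KD (V : Subgroup G) (R : ι → Subgroup G) (i j : ι) {k : Type w} [Field k] (K : Subgroup G)
    (φ : K →* Matrix.SpecialLinearGroup (Fin 2) k) : Prop where
  ne : i ≠ j
  WK : WW V (R i) ≤ K
  UK : UU V R j ≤ K
  KR : ∀ g ∈ K, ∀ a ∈ R i, g * a = a * g
  NK : normalizer (R i : Set G) ≤ normalizer (K : Set G)
  surj : Function.Surjective φ
  ker : ∀ g : K, φ g = 1 ↔ (g : G) ∈ WW V (R i)
  uni : ∀ g : K, (g : G) ∈ WW V (R i) ⊔ UU V R j ↔
    ∃ x : k, (φ g : Matrix (Fin 2) (Fin 2) k) = !![1, x; 0, 1]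

end Cfsg.Agent.Omega.SQEnd
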