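import Cfsg.Agent.Omega.BTwo.YPair
import Cfsg.Agent.Omega.BTwo.Cen

/-!
# (E6) of TEXT 3 (bb OMEGA #12947): a 2-element of `N(R i)` centralising `K / W i` lies in `W i`
-/

set_option autoImplicit false
set_option linter.unusedSectionVars false

namespace Cfsg.Agent.Omega.SQEnd

open Subgroup Cfsg.Agent.Omega.BTwo

universe u v w

variable {G : Type u} [Group G] {ι : Type w} {V : Subgroup G} {R : ι → Subgroup G} {i j : ι} {F : Type v} [Field F]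
  {v : F → F → G} {w1 w2 : F → G} {N : Type u} [AddCommGroup N] [Module F N] {P1 P2 : G → N}

/-- `x` acts on `V` and on `Y / D` by the matrix `(a, b; c, d)` of determinant one -/
def Mat (V : Subgroup G) (R : ι → Subgroup G) (v : F → F → G) (P1 P2 : G → N) (x : G) (a b c d : F) : Prop :=
  a * d - b * c = 1 ∧ (∀ β γ, x * v β γ * x⁻¹ = v (a * β + b * γ) (c * β + d * γ)) ∧
    ∀ z ∈ YY V R, P1 (x * z * x⁻¹) = a • P1 z + b • P2 z ∧ P2 (x * z * x⁻¹) = c • P1 z + d • P2 z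

theorem Mat.mul {x x' : G} {a b c d a' b' c' d' : F}
    (hx'Y : ∀ z ∈ YY V R, x' * z * x'⁻¹ ∈ YY V R)
    (h : Mat V R v P1 P2 x a b c d) (h' : Mat V R v P1 P2 x' a' b' c' d') :
    Mat V R v P1 P2 (x * x') (a * a' + b * c') (a * b' + b * d') (c * a' + d * c') (c * b' + d * d') := by
  obtain ⟨e1, h1, h2⟩ := h
  obtain ⟨e1', h1', h2'⟩ := h'
  refine ⟨?_, ?_, ?_⟩
  · calc (a * a' + b * c') * (c * b' + d * d') - (a * b' + b * d') * (c * a' + d * c')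
        = (a * d - b * c) * (a' * d' - b' * c') := by ring
      _ = 1 := by rw [e1, e1', one_mul]
  · intro β γ
    have e : x * x' * v β γ * (x * x')⁻¹ = x * (x' * v β γ * x'⁻¹) * x⁻¹ := by group
    rw [e, h1', h1]
    congr 1 <;> ring
  · intro z hz
    have e : x * x' * z * (x * x')⁻¹ = x * (x' * z * x'⁻¹) * x⁻¹ := by group
    obtain ⟨k1, k2⟩ := h2 _ (hx'Y z hz)
    obtain ⟨k3, k4⟩ := h2' z hz
    rw [e, k1, k2, k3, k4]
    constructor
    · rw [smul_add, smul_add, smul_smul, smul_smul, smul_smul, smul_smul, add_smul, add_smul]; abel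
    · rw [smul_add, smul_add, smul_smul, smul_smul, smul_smul, smul_smul, add_smul, add_smul]; abel

theorem Mat.inv {x : G} {a b c d : F} (hxY : ∀ z ∈ YY V R, x⁻¹ * z * x⁻¹⁻¹ ∈ YY V R)
    (h : Mat V R v P1 P2 x a b c d) : Mat V R v P1 P2 x⁻¹ d (-b) (-c) a := by
  obtain ⟨e1, h1, h2⟩ := h
  refine ⟨by rw [← e1]; ring, ?_, ?_⟩
  · intro β γ
    have k := h1 (d * β + -b * γ) (-c * β + a * γ)
    have k1 : a * (d * β + -b * γ) + b * (-c * β + a * γ) = β := by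
      calc a * (d * β + -b * γ) + b * (-c * β + a * γ) = (a * d - b * c) * β := by ring
        _ = β := by rw [e1, one_mul]
    have k2 : c * (d * β + -b * γ) + d * (-c * β + a * γ) = γ := by
      calc c * (d * β + -b * γ) + d * (-c * β + a * γ) = (a * d - b * c) * γ := by ring
        _ = γ := by rw [e1, one_mul]
    rw [k1, k2] at k
    rw [← k]; group
  · intro z hz
    obtain ⟨k1, k2⟩ := h2 _ (hxY z hz)
    have e : x * (x⁻¹ * z * x⁻¹⁻¹) * x⁻¹ = z := by group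
    rw [e] at k1 k2
    rw [k1, k2]
    constructor
    · rw [smul_add, smul_add, smul_smul, smul_smul, smul_smul, smul_smul]
      have e2 : (d * a) • P1 (x⁻¹ * z * x⁻¹⁻¹) + (d * b) • P2 (x⁻¹ * z * x⁻¹⁻¹) +
          ((-b * c) • P1 (x⁻¹ * z * x⁻¹⁻¹) + (-b * d) • P2 (x⁻¹ * z * x⁻¹⁻¹)) =
          (a * d - b * c) • P1 (x⁻¹ * z * x⁻¹⁻¹) := by
        have e3 : (a * d - b * c) • P1 (x⁻¹ * z * x⁻¹⁻¹) =
            (d * a) • P1 (x⁻¹ * z * x⁻¹⁻¹) + (-b * c) • P1 (x⁻¹ * z * x⁻¹⁻¹) := by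
          rw [← add_smul]; congr 1; ring
        have e4 : (-b * d) • P2 (x⁻¹ * z * x⁻¹⁻¹) = -((d * b) • P2 (x⁻¹ * z * x⁻¹⁻¹)) := by
          rw [← neg_smul]; congr 1; ring
        rw [e3, e4]; abel
      rw [e2, e1, one_smul]
    · rw [smul_add, smul_add, smul_smul, smul_smul, smul_smul, smul_smul]
      have e2 : (-c * a) • P1 (x⁻¹ * z * x⁻¹⁻¹) + (-c * b) • P2 (x⁻¹ * z * x⁻¹⁻¹) +
          ((a * c) • P1 (x⁻¹ * z * x⁻¹⁻¹) + (a * d) • P2 (x⁻¹ * z * x⁻¹⁻¹)) =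
          (a * d - b * c) • P2 (x⁻¹ * z * x⁻¹⁻¹) := by
        have e3 : (a * d - b * c) • P2 (x⁻¹ * z * x⁻¹⁻¹) =
            (a * d) • P2 (x⁻¹ * z * x⁻¹⁻¹) + (-c * b) • P2 (x⁻¹ * z * x⁻¹⁻¹) := by
          rw [← add_smul]; congr 1; ring
        have e4 : (-c * a) • P1 (x⁻¹ * z * x⁻¹⁻¹) = -((a * c) • P1 (x⁻¹ * z * x⁻¹⁻¹)) := by
          rw [← neg_smul]; congr 1; ring
        rw [e3, e4]; abel
      rw [e2, e1, one_smul]

section

variable (b : BT V R) (c : Coord V R i j v w1 w2) (y : YPair V R i j w1 w2 N P1 P2)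
include b c y

/-- every element of `X` acts on `V` and on `Y / D` by the same matrix of determinant one -/
theorem exists_mat {x : G} (hx : x ∈ XX V R) : ∃ a b' c' d : F, Mat V R v P1 P2 x a b' c' d := by
  have hXY : ∀ x ∈ XX V R, ∀ z ∈ YY V R, x * z * x⁻¹ ∈ YY V R := fun x hx z hz =>
    y.X_Y b c hx hz
  let T : Subgroup G :=
    { carrier := {x | x ∈ XX V R ∧ ∃ a b' c' d : F, Mat V R v P1 P2 x a b' c' d}
      one_mem' := ⟨one_mem _, 1, 0, 0, 1, by ring, fun β γ => by simp, fun z _ => by simp⟩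
      mul_mem' := by
        rintro x x' ⟨hx, a, b', c', d, h⟩ ⟨hx', a', b'', c'', d', h'⟩
        exact ⟨mul_mem hx hx', _, _, _, _, Mat.mul (hXY x' hx') h h'⟩
      inv_mem' := by
        rintro x ⟨hx, a, b', c', d, h⟩
        exact ⟨inv_mem hx, _, _, _, _, Mat.inv (hXY _ (inv_mem hx)) h⟩ }
  have hwd : ∀ k : ι, ∀ x ∈ WW V (R k), ∀ x' ∈ WW V (R k), (∀ z ∈ V, x * z * x⁻¹ = x' * z * x'⁻¹) →
      ∀ z ∈ YY V R, P1 (x * z * x⁻¹) = P1 (x' * z * x'⁻¹) ∧ P2 (x * z * x⁻¹) = P2 (x' * z * x'⁻¹) := by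
    intro k x hx x' hx' h z hz
    have h1 := b.same hx hx' h hz
    have h2 := hXY x (W_le_X V R k hx) z hz
    have h3 := hXY x' (W_le_X V R k hx') z hz
    obtain ⟨k1, k2⟩ := (y.mem_D _ (mul_mem h2 (inv_mem h3))).1 h1
    rw [y.mul1 _ h2 _ (inv_mem h3), y.inv1 h3, ← sub_eq_add_neg, sub_eq_zero] at k1
    rw [y.mul2 _ h2 _ (inv_mem h3), y.inv2 h3, ← sub_eq_add_neg, sub_eq_zero] at k2
    exact ⟨k1, k2⟩
  have hT : XX V R ≤ T := by
    rw [b.X_eq c.ne]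
    refine sup_le ?_ ?_
    · intro x hx
      obtain ⟨a, ha⟩ := c.W1_act x hx
      refine ⟨W_le_X V R i hx, 1, a, 0, 1, by ring, fun β γ => ?_, fun z hz => ?_⟩
      · rw [ha]; congr 1 <;> ring
      · obtain ⟨k1, k2⟩ := hwd i x hx _ (c.w1_mem a) (fun s hs => by
          obtain ⟨β, γ, rfl⟩ := (c.mem_V s).1 hs
          rw [ha, c.w1_act]) z hz
        rw [k1, k2, y.w11 a z hz, y.w12 a z hz, one_smul, zero_smul, one_smul, zero_add]
        exact ⟨rfl, rfl⟩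
    · intro x hx
      obtain ⟨a, ha⟩ := c.W2_act x hx
      refine ⟨W_le_X V R j hx, 1, 0, a, 1, by ring, fun β γ => ?_, fun z hz => ?_⟩
      · rw [ha]; congr 1 <;> ring
      · obtain ⟨k1, k2⟩ := hwd j x hx _ (c.w2_mem a) (fun s hs => by
          obtain ⟨β, γ, rfl⟩ := (c.mem_V s).1 hs
          rw [ha, c.w2_act]) z hz
        rw [k1, k2, y.w21 a z hz, y.w22 a z hz, one_smul, zero_smul, one_smul, add_zero, add_comm]
        exact ⟨rfl, rfl⟩
  exact (hT hx).2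

/-- elements of `X ∩ N(R i)` have an upper triangular matrix -/
theorem Mat.upper {x : G} {a b' c' d : F} (hm : Mat V R v P1 P2 x a b' c' d)
    (hx : x ∈ normalizer (R i : Set G)) : c' = 0 ∧ a * d = 1 := by
  have _ := b
  have _ := y
  obtain ⟨h0, h1, -⟩ := hm
  have h2 : x * v 1 0 * x⁻¹ ∈ R i := conj_mem_of_normalizer hx ((c.mem_R1 _).2 ⟨1, rfl⟩)
  rw [h1, c.mem_R1] at h2
  obtain ⟨β, hβ⟩ := h2
  have h3 := (c.v_inj hβ).2
  rw [mul_one, mul_zero, add_zero] at h3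
  refine ⟨h3.symm, ?_⟩
  rw [← h3, mul_zero, sub_zero] at h0
  exact h0

omit b y in
/-- **step 3**: a 2-element of `N(R i)` commuting with the action of the torus on `R i` centralises `R i` -/
theorem cen_R_of_comm [CharP F 2] {g : G} (hg : g ∈ normalizer (R i : Set G)) {n : ℕ} (h2 : g ^ 2 ^ n = 1)
    (hT : ∀ t : F, t ≠ 0 → ∀ β, (g * hh w1 w2 t * g⁻¹) * v β 0 * (g * hh w1 w2 t * g⁻¹)⁻¹ = v (t * β) 0) :
    ∀ β, g * v β 0 * g⁻¹ = v β 0 := by
  have h1 : g * v 1 0 * g⁻¹ ∈ R i := conj_mem_of_normalizer hg ((c.mem_R1 _).2 ⟨1, rfl⟩)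
  obtain ⟨l, hl⟩ := (c.mem_R1 _).1 h1
  have key : ∀ β, g * v β 0 * g⁻¹ = v (l * β) 0 := by
    intro β
    by_cases hβ : β = 0
    · rw [hβ, mul_zero, c.v_zero]; group
    · have h3 := hT β hβ l
      rw [hl] at h3
      have h4 := c.hh_act hβ 1 0
      rw [mul_one, mul_zero] at h4
      calc g * v β 0 * g⁻¹ = g * (hh w1 w2 β * v 1 0 * (hh w1 w2 β)⁻¹) * g⁻¹ := by rw [h4]
        _ = (g * hh w1 w2 β * g⁻¹) * (g * v 1 0 * g⁻¹) * (g * hh w1 w2 β * g⁻¹)⁻¹ := by group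
        _ = v (β * l) 0 := h3
        _ = v (l * β) 0 := by rw [mul_comm]
  have hpow : ∀ k : ℕ, ∀ β, g ^ k * v β 0 * (g ^ k)⁻¹ = v (l ^ k * β) 0 := by
    intro k
    induction k with
    | zero => intro β; simp
    | succ k ih =>
      intro β
      have e : g ^ (k + 1) * v β 0 * (g ^ (k + 1))⁻¹ = g * (g ^ k * v β 0 * (g ^ k)⁻¹) * g⁻¹ := by
        rw [pow_succ']; group
      rw [e, ih, key, pow_succ', mul_assoc]
  have hl1 : l ^ 2 ^ n = 1 := by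
    have h3 := hpow (2 ^ n) 1
    rw [h2, one_mul, inv_one, mul_one, mul_one] at h3
    exact (c.v_inj h3).1.symm
  have hl2 : l = 1 := by
    have h3 : (l - 1) ^ 2 ^ n = 0 := by
      haveI : Fact (Nat.Prime 2) := ⟨Nat.prime_two⟩
      rw [sub_pow_char_pow, hl1, one_pow, sub_self]
    exact sub_eq_zero.1 (pow_eq_zero_iff (by positivity) |>.1 h3)
  intro β
  rw [key, hl2, one_mul]

/-- **step 2**: a 2-element of `N(V)` centralising `R i` is trivial on `V / R i` -/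
theorem comm_V_of_cen [CharP F 2] {g : G} (hgV : g ∈ normalizer (V : Set G))
    (hg : ∀ β, g * v β 0 * g⁻¹ = v β 0) {n : ℕ} (h2 : g ^ 2 ^ n = 1) :
    ∀ s ∈ V, g * s * g⁻¹ * s⁻¹ ∈ R i := by
  have hV : ∀ γ, ∃ x : F × F, g * v 0 γ * g⁻¹ = v x.1 x.2 := by
    intro γ
    obtain ⟨a, d, h⟩ := (c.mem_V _).1 (conj_mem_of_normalizer hgV (c.v_mem 0 γ))
    exact ⟨(a, d), h.symm⟩
  choose φ hφ using hV
  have hsc : ∀ t : F, t ≠ 0 → ∀ γ, (φ (t⁻¹ * γ)).2 = t⁻¹ * (φ γ).2 := by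
    intro t ht γ
    set x := hh w1 w2 t * g * (hh w1 w2 t)⁻¹ * g⁻¹ with hx
    have hNX : g ∈ normalizer (XX V R : Set G) := b.NV_le_NX hgV
    have hxX : x ∈ XX V R := by
      have e : x = hh w1 w2 t * (g * (hh w1 w2 t)⁻¹ * g⁻¹) := by rw [hx]; group
      rw [e]
      exact mul_mem (c.hh_mem_X b t) (conj_mem_of_normalizer hNX (inv_mem (c.hh_mem_X b t)))
    have hxR : ∀ β, x * v β 0 * x⁻¹ = v β 0 := by
      intro β
      have e : x * v β 0 * x⁻¹ = hh w1 w2 t * (g * ((hh w1 w2 t)⁻¹ * (g⁻¹ * v β 0 * g) * hh w1 w2 t) * g⁻¹) *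
          (hh w1 w2 t)⁻¹ := by rw [hx]; group
      have e1 : g⁻¹ * v β 0 * g = v β 0 := by
        nth_rewrite 1 [← hg β]; group
      have e2 := c.hh_act_inv ht β 0
      rw [mul_zero] at e2
      rw [e, e1, e2, hg]
      have e3 := c.hh_act ht (t⁻¹ * β) 0
      rw [mul_zero, ← mul_assoc, mul_inv_cancel₀ ht, one_mul] at e3
      exact e3
    obtain ⟨a, b', c', d, hm⟩ := exists_mat b c y hxX
    have h3 := hxR 1
    rw [hm.2.1] at h3
    obtain ⟨h4, h5⟩ := c.v_inj h3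
    rw [mul_one, mul_zero, add_zero] at h4 h5
    have h6 := hm.1
    rw [h4, h5, mul_zero, sub_zero, one_mul] at h6
    -- compare
    have k1 : hh w1 w2 t * (g * v 0 γ * g⁻¹) * (hh w1 w2 t)⁻¹ = v (t * (φ γ).1) (t⁻¹ * (φ γ).2) := by
      rw [hφ, c.hh_act ht]
    have k2 : hh w1 w2 t * (g * v 0 γ * g⁻¹) * (hh w1 w2 t)⁻¹ =
        x * (g * (hh w1 w2 t * v 0 γ * (hh w1 w2 t)⁻¹) * g⁻¹) * x⁻¹ := by rw [hx]; group
    rw [k1, c.hh_act ht, mul_zero, hφ, hm.2.1, h5, h6, zero_mul, zero_add, one_mul] at k2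
    exact (c.v_inj k2).2.symm
  set δ := (φ 1).2 with hδ
  have h0 : (φ 0).2 = 0 := by
    have h3 := hφ 0
    rw [c.v_zero, mul_one, mul_inv_cancel, ← c.v_zero] at h3
    exact (c.v_inj h3).2.symm
  have hφ2 : ∀ γ, (φ γ).2 = δ * γ := by
    intro γ
    by_cases hγ : γ = 0
    · rw [hγ, h0, mul_zero]
    · have h3 := hsc γ⁻¹ (inv_ne_zero hγ) 1
      rw [inv_inv, mul_one] at h3
      rw [h3, mul_comm]
  have hall : ∀ β γ, g * v β γ * g⁻¹ = v (β + (φ γ).1) (δ * γ) := by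
    intro β γ
    have h3 := c.v_add β 0 0 γ
    rw [add_zero, zero_add] at h3
    have h4 := c.v_add β 0 (φ γ).1 (δ * γ)
    rw [zero_add] at h4
    rw [h3, h4]
    have e : g * (v β 0 * v 0 γ) * g⁻¹ = (g * v β 0 * g⁻¹) * (g * v 0 γ * g⁻¹) := by group
    rw [e, hg, hφ, hφ2]
  have hpow : ∀ k : ℕ, ∀ β γ, ∃ β', g ^ k * v β γ * (g ^ k)⁻¹ = v β' (δ ^ k * γ) := by
    intro k
    induction k with
    | zero => intro β γ; exact ⟨β, by simp⟩
    | succ k ih =>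
      intro β γ
      obtain ⟨β', h⟩ := ih β γ
      have e : g ^ (k + 1) * v β γ * (g ^ (k + 1))⁻¹ = g * (g ^ k * v β γ * (g ^ k)⁻¹) * g⁻¹ := by
        rw [pow_succ']; group
      refine ⟨β' + (φ (δ ^ k * γ)).1, ?_⟩
      rw [e, h, hall, pow_succ', mul_assoc]
  have hl1 : δ ^ 2 ^ n = 1 := by
    obtain ⟨β', h3⟩ := hpow (2 ^ n) 0 1
    rw [h2, one_mul, inv_one, mul_one, mul_one] at h3
    exact (c.v_inj h3).2.symm
  have hl2 : δ = 1 := by
    have h3 : (δ - 1) ^ 2 ^ n = 0 := by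
      haveI : Fact (Nat.Prime 2) := ⟨Nat.prime_two⟩
      rw [sub_pow_char_pow, hl1, one_pow, sub_self]
    exact sub_eq_zero.1 (pow_eq_zero_iff (by positivity) |>.1 h3)
  intro s hs
  obtain ⟨β, γ, rfl⟩ := (c.mem_V s).1 hs
  rw [hall, hl2, one_mul]
  have h3 := c.v_add (φ γ).1 0 β γ
  rw [zero_add] at h3
  rw [add_comm, h3, mul_inv_cancel_right]
  exact (c.mem_R1 _).2 ⟨_, rfl⟩

end

/-- **(E6)**: a 2-element of `N(R i)` centralising `K / W i` lies in `W i` -/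
theorem cent_K_two [Finite G] [CharP F 2] (b : BTC V R) (c : Coord V R i j v w1 w2)
    (y : YPair V R i j w1 w2 N P1 P2) (hQ : QQ (R i) = WW V (R i)) (hN : ∃ n : N, n ≠ 0) {K : Subgroup G}
    (hKN : K ≤ normalizer (R i : Set G)) (WK : WW V (R i) ≤ K) (AK : UU V R j ≤ K)
    (frat : ∀ g ∈ normalizer (R i : Set G), ∃ x ∈ K, x⁻¹ * g ∈ normalizer (V : Set G))
    (NA : ∀ g ∈ normalizer (R i : Set G), g ∈ normalizer ((WW V (R i) ⊔ UU V R j : Subgroup G) : Set G) →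
      g ∈ normalizer (V : Set G))
    {g : G} (hg : g ∈ normalizer (R i : Set G)) (hgK : ∀ k ∈ K, g * k * g⁻¹ * k⁻¹ ∈ WW V (R i))
    {n : ℕ} (h2 : g ^ 2 ^ n = 1) : g ∈ WW V (R i) := by
  have bt := b.toBT
  have hgW : g ∈ normalizer (WW V (R i) : Set G) := normalizer_le_WW V (R i) hg
  -- `g` normalises `W A`
  have hgWA : g ∈ normalizer ((WW V (R i) ⊔ UU V R j : Subgroup G) : Set G) := by
    refine mem_normalizer_of_conj fun x hx => ?_
    have h3 : cj g (WW V (R i) ⊔ UU V R j) ≤ WW V (R i) ⊔ UU V R j := by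
      rw [cj_sup, cj_eq_self_iff.2 hgW]
      refine sup_le le_sup_left ?_
      rw [cj_le_iff]
      intro u hu
      have e : g * u * g⁻¹ = (g * u * g⁻¹ * u⁻¹) * u := by group
      rw [e]
      exact mul_mem (mem_sup_left (hgK u (AK hu))) (mem_sup_right hu)
    exact h3 (conj_mem_cj hx)
  have hgV := NA g hg hgWA
  have hYK : YY V R ≤ K := by
    rw [bt.Y_eq c.ne]
    exact sup_le ((UU_le_WW i).trans WK) AK
  have hgY := bt.NV_le_NY hgV
  -- `g` preserves `P2` on `Y`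
  have hP2 : ∀ z ∈ YY V R, P2 (g * z * g⁻¹) = P2 z := by
    intro z hz
    have h3 := conj_mem_of_normalizer hgY hz
    have h4 : g * z * g⁻¹ * z⁻¹ ∈ UU V R i :=
      mem_inf.2 ⟨hgK z (hYK hz), YY_le_cen (mul_mem h3 (inv_mem hz))⟩
    have h5 := (y.mem_U1 _ (UU_le_YY i h4)).1 h4
    rw [y.mul2 _ h3 _ (inv_mem hz), y.inv2 hz, ← sub_eq_add_neg, sub_eq_zero] at h5
    exact h5
  -- `g` centralises `R i`
  have hcR : ∀ β, g * v β 0 * g⁻¹ = v β 0 := by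
    refine cen_R_of_comm c hg h2 fun t ht β => ?_
    set x := g * hh w1 w2 t * g⁻¹ with hx
    have hxX : x ∈ XX V R := conj_mem_of_normalizer (bt.NV_le_NX hgV) (c.hh_mem_X bt t)
    have hxR : x ∈ normalizer (R i : Set G) :=
      mul_mem (mul_mem hg (cj_eq_self_iff.1 (c.hh_R1 bt ht))) (inv_mem hg)
    obtain ⟨a, b', c', d, hm⟩ := exists_mat bt c y hxX
    obtain ⟨hc0, had⟩ := Mat.upper bt c y hm hxR
    obtain ⟨n0, hn0⟩ := hN
    obtain ⟨u, hu, hu1, hu2⟩ := y.surj 0 n0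
    have hginv : g⁻¹ * u * g ∈ YY V R := conj_inv_mem_of_normalizer hgY hu
    have k1 : P2 (x * u * x⁻¹) = d • n0 := by
      rw [(hm.2.2 u hu).2, hc0, zero_smul, zero_add, hu2]
    have k2 : P2 (x * u * x⁻¹) = t⁻¹ • n0 := by
      have e : x * u * x⁻¹ = g * (hh w1 w2 t * (g⁻¹ * u * g) * (hh w1 w2 t)⁻¹) * g⁻¹ := by rw [hx]; group
      rw [e, hP2 _ (y.X_Y bt c (c.hh_mem_X bt t) hginv), (y.hh1 bt c ht hginv).2]
      have h5 := hP2 _ hginv
      have e2 : g * (g⁻¹ * u * g) * g⁻¹ = u := by group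
      rw [e2, hu2] at h5
      rw [← h5]
    have k3 : d = t⁻¹ := by
      have h5 : (d - t⁻¹) • n0 = 0 := by rw [sub_smul, ← k1, ← k2, sub_self]
      rcases smul_eq_zero.1 h5 with h6 | h6
      · exact sub_eq_zero.1 h6
      · exact absurd h6 hn0
    have k4 : a = t := by
      rw [k3] at had
      calc a = a * t⁻¹ * t := by rw [mul_assoc, inv_mul_cancel₀ ht, mul_one]
        _ = t := by rw [had, one_mul]
    rw [hm.2.1, hc0, k4, mul_zero, add_zero, zero_mul, mul_zero, add_zero]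
  have hcV := comm_V_of_cen bt c y hgV hcR h2
  -- `g` is trivial on `W / R`
  have hcR' : ∀ r ∈ R i, g * r * g⁻¹ = r := by
    intro r hr
    obtain ⟨β, rfl⟩ := (c.mem_R1 r).1 hr
    exact hcR β
  rw [← hQ, ← b.K_eq i]
  refine ⟨hg, ?_⟩
  let T : Subgroup G :=
    { carrier := {x | x ∈ WW V (R i) ∧ g * x * g⁻¹ * x⁻¹ ∈ R i}
      one_mem' := ⟨one_mem _, by
        have e : g * 1 * g⁻¹ * 1⁻¹ = 1 := by group
        rw [e]; exact one_mem _⟩
      mul_mem' := by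
        rintro x x' ⟨hx, h⟩ ⟨hx', h'⟩
        refine ⟨mul_mem hx hx', ?_⟩
        have e : g * (x * x') * g⁻¹ * (x * x')⁻¹ =
            (g * x * g⁻¹ * x⁻¹) * (x * (g * x' * g⁻¹ * x'⁻¹) * x⁻¹) := by group
        rw [e]
        exact mul_mem h (conj_mem_of_normalizer (b.W_le_N i hx) h')
      inv_mem' := by
        rintro x ⟨hx, h⟩
        refine ⟨inv_mem hx, ?_⟩
        have e : g * x⁻¹ * g⁻¹ * x⁻¹⁻¹ = (g * x⁻¹ * g⁻¹) * (g * x * g⁻¹ * x⁻¹)⁻¹ * (g * x⁻¹ * g⁻¹)⁻¹ *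
            1 := by group
        -- `[g, x⁻¹] = x⁻¹ [g,x]⁻¹ x`
        have e2 : g * x⁻¹ * g⁻¹ * x⁻¹⁻¹ = g * x⁻¹ * g⁻¹ * (g * x * g⁻¹ * x⁻¹)⁻¹ * (g * x⁻¹ * g⁻¹)⁻¹ := by
          group
        rw [e2]
        exact conj_mem_of_normalizer (mul_mem (mul_mem hg (inv_mem (b.W_le_N i hx))) (inv_mem hg)) (inv_mem h) }
  have hT : WW V (R i) ≤ T := by
    refine iSup_le fun h => ?_
    obtain ⟨k, hk, hkV⟩ := frat h h.2
    rintro _ ⟨s, hs, rfl⟩
    change (h : G) * s * (h : G)⁻¹ ∈ T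
    have hs' : (k⁻¹ * h) * s * (k⁻¹ * h)⁻¹ ∈ V := conj_mem_of_normalizer hkV hs
    set s' := (k⁻¹ * h) * s * (k⁻¹ * h)⁻¹ with hs'd
    have e : (h : G) * s * (h : G)⁻¹ = k * s' * k⁻¹ := by rw [hs'd]; group
    have hxW : k * s' * k⁻¹ ∈ WW V (R i) := cj_le_WW (hKN hk) (conj_mem_cj hs')
    rw [e]
    refine ⟨hxW, ?_⟩
    set x := k * s' * k⁻¹ with hxd
    set w := g * k * g⁻¹ * k⁻¹ with hwd
    have hw : w ∈ WW V (R i) := hgK k hk
    have hr := hcV s' hs'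
    set r := g * s' * g⁻¹ * s'⁻¹ with hrd
    have e2 : g * x * g⁻¹ * x⁻¹ = (w * (k * r * k⁻¹) * w⁻¹) * (w * x * w⁻¹ * x⁻¹) := by
      rw [hxd, hwd, hrd]; group
    rw [e2]
    exact mul_mem (conj_mem_of_normalizer (b.W_le_N i hw) (conj_mem_of_normalizer (hKN hk) hr))
      (b.WW_comm i hw hxW)
  exact fun x hx => (hT hx).2

end Cfsg.Agent.Omega.SQEnd
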