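import Cfsg.Agent.Omega.SQEnd.CentC
import Cfsg.Agent.Omega.SQEnd.CentK
import Cfsg.Agent.Omega.Hex.OfKD

/-!
# (E6), (E7) of bb OMEGA #12947 over `KIn`

* `cent_K_of`: a 2-element of `N(R i)` centralising `K / W i` lies in `W i`;
* `cent_C_of`: `C_{W i / R i}(C) = 1` if `|k| > 4`.
-/

set_option autoImplicit false
set_option linter.unusedSectionVars false

universe u v w

namespace Cfsg.Agent.Omega.SQEnd

open Subgroup Cfsg.Agent.Omega.BTwo Cfsg.Agent.Omega.Hex Cfsg.Agent.Lib.SL2Mat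

variable {G : Type u} [Group G] [Finite G] {ι : Type v} {V : Subgroup G} {R : ι → Subgroup G} {i j : ι}
  {k : Type w} [Field k] [Finite k] [CharP k 2] {K : Subgroup G} {φ : K →* Matrix.SpecialLinearGroup (Fin 2) k}
  {F : Type*} [Field F] [Finite F] [CharP F 2] {v : F → F → G} {w1 w2 : F → G}

omit [Finite G] [Finite F] in
theorem V_not_le_R (c : Coord V R i j v w1 w2) : ¬ V ≤ R i := by
  intro h
  have h1 : v 0 1 ∈ R i := h ((c.mem_V _).2 ⟨0, 1, rfl⟩)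
  obtain ⟨x, hx⟩ := (c.mem_R1 _).1 h1
  exact zero_ne_one (c.v_inj hx).2

theorem U_not_le_D (n : KIn V R i j K φ) (b : BT V R) : ¬ UU V R i ≤ DD V R := by
  intro h
  have h1 := n.relIndex_D b
  rw [relIndex_eq_one.2 h] at h1
  have : 1 < Nat.card k := Finite.one_lt_card
  omega

/-- **(E6)** -/
theorem cent_K_of (n : KIn V R i j K φ) (b : BTC V R) (c : Coord V R i j v w1 w2)
    (hQ : QQ (R i) = WW V (R i)) : ∀ t ∈ normalizer (R i : Set G), (∃ m : ℕ, t ^ 2 ^ m = 1) →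
      (∀ g ∈ K, t * g * t⁻¹ * g⁻¹ ∈ WW V (R i)) → t ∈ WW V (R i) := by
  rintro t ht ⟨m, hm⟩ htK
  obtain ⟨N, _, _, P1, P2, y⟩ := c.exists_yPair b.toBT
  have hN : ∃ n : N, n ≠ 0 := by
    by_contra hcon
    push Not at hcon
    have h1 := n.relIndex_D b.toBT
    rw [y.index_D_U] at h1
    haveI : Subsingleton N := ⟨fun a a' => by rw [hcon a, hcon a']⟩
    have h2 : Nat.card N ≤ 1 := Finite.card_le_one_iff_subsingleton.2 inferInstance
    have : 1 < Nat.card k := Finite.one_lt_card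
    omega
  exact cent_K_two b c y hQ hN (n.K_le_NR b.toBT) n.kd.WK n.UK (fun g hg => n.frat b.toBT hg)
    (fun g hg hg' => cj_eq_self_iff.1 (n.NA g hg (cj_eq_self_iff.2 hg'))) ht htK hm

/-- the Bruhat decomposition of `K` -/
theorem bru_of (n : KIn V R i j K φ) (b : BT V R) {C : Subgroup G} {w : G} (hw : w ∈ K)
    (hwV : w ∉ normalizer (V : Set G))
    (hC : ∀ g ∈ K, g ∈ normalizer (V : Set G) → ∃ s ∈ WW V (R i) ⊔ UU V R j, s⁻¹ * g ∈ C) :
    ∀ g ∈ K, g ∈ WW V (R i) ⊔ UU V R j ⊔ C ∨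
      ∃ a ∈ UU V R j, ∃ x ∈ WW V (R i) ⊔ UU V R j ⊔ C, g = a * w * x := by
  intro g hg
  have key : ∀ g ∈ K, g ∈ normalizer (V : Set G) → g ∈ WW V (R i) ⊔ UU V R j ⊔ C := by
    intro g hg hgV
    obtain ⟨s, hs, h⟩ := hC g hg hgV
    have := mul_mem (mem_sup_left (T := C) hs) (mem_sup_right h)
    rwa [mul_inv_cancel_left] at this
  by_cases h0 : ent (φ ⟨g, hg⟩) 1 0 = 0
  · exact Or.inl (key g hg (n.mem_NV_of b (g := ⟨g, hg⟩) h0))
  · right
    obtain ⟨y, hy, e⟩ := n.exists_trans b (x := ⟨w, hw⟩) (x' := ⟨g, hg⟩)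
      (fun h1 => hwV (n.mem_NV_of b (g := ⟨w, hw⟩) h1)) h0
    have hyK := n.Y_le b hy
    obtain ⟨u, hu, a, ha, rfl⟩ := b.exists_mul_Y n.kd.ne hy
    have hx := key _ (mul_mem (inv_mem (mul_mem hyK hw)) hg) e
    have haW : a⁻¹ * u * a ∈ WW V (R i) :=
      conj_inv_mem_of_normalizer (b.cen_le_NW i (UU_le_cen j ha)) (UU_le_WW i hu)
    have hwW : w⁻¹ * (a⁻¹ * u * a) * w ∈ WW V (R i) :=
      conj_inv_mem_of_normalizer (normalizer_le_WW V (R i) (n.K_le_NR b hw)) haW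
    refine ⟨a, ha, (w⁻¹ * (a⁻¹ * u * a) * w) * ((u * a * w)⁻¹ * g),
      mul_mem (mem_sup_left (mem_sup_left hwW)) hx, ?_⟩
    group

/-- **(E7)** -/
theorem cent_C_of (n : KIn V R i j K φ) (b : BTC V R) (c : Coord V R i j v w1 w2) {L C Z T : Subgroup G} {w : G}
    (h : Cfg (R i) (WW V (R i)) V (UU V R i) (DD V R) (UU V R j) K L C Z T w) (TX : T ≤ XX V R)
    (hwV : w ∉ normalizer (V : Set G))
    (hC : ∀ g ∈ K, g ∈ normalizer (V : Set G) → ∃ s ∈ WW V (R i) ⊔ UU V R j, s⁻¹ * g ∈ C)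
    (hF : 4 ≤ Nat.card F) (hk : 4 < Nat.card k) :
    ∀ m ∈ WW V (R i), (∀ x ∈ C, x * m * x⁻¹ * m⁻¹ ∈ R i) → m ∈ R i := by
  intro m hm hmC
  obtain ⟨N, _, _, P1, P2, y⟩ := c.exists_yPair b.toBT
  refine h.cent_C (fun a ha x hx => (mem_centralizer_iff.1 (UU_le_cen j ha) x hx).symm)
    (fun g hg => b.W_sq i hg) (b.U_isPGroup j) (V_not_le_R c) (U_not_le_D n b.toBT)
    (bru_of n b.toBT h.wK hwV hC) ?_ hm hmC
  by_cases hT : ∃ t ∈ T, t * t * t ≠ 1
  · exact Or.inl hT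
  right
  push Not at hT
  -- every `γ ≠ 0` has `γ ^ 3 = 1`
  have hγ : ∀ γ : F, γ ≠ 0 → γ ^ 3 = 1 := by
    intro γ hγ
    have hn : ∀ γ : F, γ ≠ 0 → v 0 γ ∉ R i := by
      intro γ hγ h1
      obtain ⟨x, hx⟩ := (c.mem_R1 _).1 h1
      exact hγ (c.v_inj hx).2.symm
    obtain ⟨t, ht, h1⟩ := h.t2 _ ((c.mem_V _).2 ⟨0, 1, rfl⟩) (hn 1 one_ne_zero) _ ((c.mem_V _).2 ⟨0, γ, rfl⟩)
      (hn γ hγ)
    obtain ⟨a, b', c', d, hM⟩ := exists_mat b.toBT c y (TX ht)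
    have h2 : t * v 1 0 * t⁻¹ ∈ R i :=
      conj_mem_of_normalizer (h.LR (h.TL ht)) ((c.mem_R1 _).2 ⟨1, rfl⟩)
    rw [hM.2.1] at h2
    obtain ⟨x, hx⟩ := (c.mem_R1 _).1 h2
    have hc' : c' = 0 := by
      have := (c.v_inj hx).2
      rw [mul_one, mul_zero, add_zero] at this
      exact this.symm
    have hact : ∀ β γ, t * v β γ * t⁻¹ = v (a * β + b' * γ) (d * γ) := by
      intro β γ
      rw [hM.2.1, hc', zero_mul, zero_add]
    -- `d = γ`
    have hd : d = γ := by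
      obtain ⟨x, hx⟩ := (c.mem_R1 _).1 h1
      have e : (t * v 0 1 * t⁻¹) * v x 0 = v 0 γ := by rw [hx, mul_inv_cancel_left]
      rw [hact, ← c.v_add, add_zero] at e
      have e2 := (c.v_inj e).2
      rwa [mul_one] at e2
    have h3 : v 0 1 = t * (t * (t * v 0 1 * t⁻¹) * t⁻¹) * t⁻¹ := by
      have e : t * (t * (t * v 0 1 * t⁻¹) * t⁻¹) * t⁻¹ = (t * t * t) * v 0 1 * (t * t * t)⁻¹ := by group
      rw [e, hT t ht, one_mul, inv_one, mul_one]
    rw [hact, hact, hact] at h3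
    have h4 := (c.v_inj h3).2
    rw [← hd, pow_succ, pow_succ, pow_one, mul_assoc]
    rw [mul_one] at h4
    exact h4.symm
  have hq : Nat.card F - 1 ∣ 3 := by
    classical
    letI : Fintype F := Fintype.ofFinite F
    rw [Nat.card_eq_fintype_card, ← FiniteField.forall_pow_eq_one_iff]
    intro x
    refine Units.ext ?_
    rw [Units.val_pow_eq_pow_val, Units.val_one]
    exact hγ x x.ne_zero
  have hq4 : Nat.card F = 4 := by
    rcases (Nat.dvd_prime Nat.prime_three).1 hq with h1 | h1 <;> omega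
  have h1 : Nat.card N = Nat.card k := by rw [← y.index_D_U, n.relIndex_D b.toBT]
  have h2 := y.card_M
  rw [b.card_U j i, y.index_D_U]
  rw [hq4] at h2
  rw [h1] at h2
  rw [h1, h2]
  rw [h2] at hk
  have h3 : 2 ≤ Module.finrank F N := by
    by_contra hcon
    have h4 : Module.finrank F N ≤ 1 := by omega
    have h5 := Nat.pow_le_pow_right (n := 4) (by norm_num) h4
    omega
  calc 16 = 4 ^ 2 := by norm_num
    _ ≤ _ := Nat.pow_le_pow_right (by norm_num) h3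

end Cfsg.Agent.Omega.SQEnd
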