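import Cfsg.Agent.Omega.BTwo.YTor
import Cfsg.Agent.Omega.BTwo.Cen

/-!
# The torus of `X`: (t1)-(t6) of `SQEnd.Cfg` from `BTC`, `Coord`, `YMod` (bb OMEGA #12947)

`x ∈ X` acts on `V` and on `Y / D` by one and the same matrix of determinant 1 (`Act`, `exists_act`); so an element `t`
of `X` normalising `R i` and `R j` acts as `diag(a, a⁻¹)` (`exists_tor`).
-/

set_option autoImplicit false
set_option linter.unusedSectionVars false

namespace Cfsg.Agent.Omega.SQEnd.Tor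

open Subgroup Cfsg.Agent.Omega.BTwo

universe u v w

variable {G : Type u} [Group G] {ι : Type w} {V : Subgroup G} {R : ι → Subgroup G} {i j : ι} {F : Type v}
  [Field F] {v : F → F → G} {w1 w2 : F → G} {M : Type u} [AddCommGroup M] [Module F M] {p1 p2 : G → M}

/-- `g` acts on `V` and on `Y / D` by the matrix `(α, β; γ, δ)` -/
def Act (V : Subgroup G) (R : ι → Subgroup G) (i j : ι) (v : F → F → G) (p1 p2 : G → M) (g : G)
    (α β γ δ : F) : Prop :=
  (∀ b c, g * v b c * g⁻¹ = v (α * b + β * c) (γ * b + δ * c)) ∧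
    ∀ z m n, Rep V R i j p1 p2 z m n → Rep V R i j p1 p2 (g * z * g⁻¹) (α • m + β • n) (γ • m + δ • n)

theorem Act.mul {g g' : G} {α β γ δ α' β' γ' δ' : F} (h : Act V R i j v p1 p2 g α β γ δ)
    (h' : Act V R i j v p1 p2 g' α' β' γ' δ') :
    Act V R i j v p1 p2 (g * g') (α * α' + β * γ') (α * β' + β * δ') (γ * α' + δ * γ') (γ * β' + δ * δ') := by
  constructor
  · intro b c
    have e : g * g' * v b c * (g * g')⁻¹ = g * (g' * v b c * g'⁻¹) * g⁻¹ := by group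
    rw [e, h'.1, h.1]
    congr 1 <;> ring
  · intro z m n hz
    have e : g * g' * z * (g * g')⁻¹ = g * (g' * z * g'⁻¹) * g⁻¹ := by group
    have h1 := h.2 _ _ _ (h'.2 _ _ _ hz)
    rw [e]
    convert h1 using 1
    · module
    · module

section

variable (y : YMod (DD V R) (UU V R i) (UU V R j) w1 w2 M p1 p2) (b : BT V R) (c : Coord V R i j v w1 w2)
include y b c

omit c in
theorem rep_D_mul {d z : G} {m n : M} (hd : d ∈ DD V R) (h : Rep V R i j p1 p2 z m n) :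
    Rep V R i j p1 p2 (d * z) m n := by
  obtain ⟨x1, h1, x2, h2, rfl, e1, e2⟩ := h
  exact ⟨d * x1, mul_mem (b.D_le_U i hd) h1, x2, h2, by group, by rw [y.p1_D_mul hd (b.D_le_U i hd) h1, e1], e2⟩

theorem Rep_mem {z : G} {m n : M} (h : Rep V R i j p1 p2 z m n) : z ∈ YY V R := by
  have _ := y
  have _ := b
  have _ := c
  obtain ⟨x1, h1, x2, h2, rfl, -, -⟩ := h
  exact mul_mem (UU_le_YY i h1) (UU_le_YY j h2)

theorem act_W1 {x : G} (hx : x ∈ WW V (R i)) : ∃ a, Act V R i j v p1 p2 x 1 a 0 1 ∧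
    ∀ b c, x * v b c * x⁻¹ = v (b + a * c) c := by
  obtain ⟨a, ha⟩ := c.W1_act x hx
  refine ⟨a, ⟨fun b c => ?_, fun z m n hz => ?_⟩, ha⟩
  · rw [ha, one_mul, zero_mul, zero_add, one_mul]
  · have h1 := y.rep_w1 b c a hz
    have h2 := b.same hx (c.w1_mem a) (fun g hg => by
      obtain ⟨e, f, rfl⟩ := (c.mem_V g).1 hg
      rw [ha, c.w1_act]) (Rep_mem y b c hz)
    have h3 := rep_D_mul y b h2 h1
    rw [inv_mul_cancel_right] at h3
    rwa [one_smul, zero_smul, zero_add, one_smul]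

theorem act_W2 {x : G} (hx : x ∈ WW V (R j)) : ∃ a, Act V R i j v p1 p2 x 1 0 a 1 ∧
    ∀ b c, x * v b c * x⁻¹ = v b (c + a * b) := by
  obtain ⟨a, ha⟩ := c.W2_act x hx
  refine ⟨a, ⟨fun b c => ?_, fun z m n hz => ?_⟩, ha⟩
  · rw [ha, one_mul, zero_mul, add_zero, one_mul, add_comm c]
  · have h1 := y.rep_w2 b c a hz
    have h2 := b.same hx (c.w2_mem a) (fun g hg => by
      obtain ⟨e, f, rfl⟩ := (c.mem_V g).1 hg
      rw [ha, c.w2_act]) (Rep_mem y b c hz)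
    have h3 := rep_D_mul y b h2 h1
    rw [inv_mul_cancel_right] at h3
    rwa [one_smul, zero_smul, add_zero, one_smul, add_comm (a • m)]

/-- every element of `X` acts by a matrix of determinant 1 -/
theorem exists_act {x : G} (hx : x ∈ XX V R) :
    ∃ α β γ δ : F, α * δ - β * γ = 1 ∧ Act V R i j v p1 p2 x α β γ δ := by
  have h1 : XX V R = closure ((WW V (R i) : Set G) ∪ WW V (R j)) := by
    rw [b.X_eq c.ne, Subgroup.closure_union, closure_eq, closure_eq]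
  rw [h1] at hx
  have key : ∀ g ∈ (WW V (R i) : Set G) ∪ WW V (R j), ∀ g', (∃ α β γ δ : F, α * δ - β * γ = 1 ∧
      Act V R i j v p1 p2 g' α β γ δ) → ∃ α β γ δ : F, α * δ - β * γ = 1 ∧
      Act V R i j v p1 p2 (g * g') α β γ δ := by
    rintro g (hg | hg) g' ⟨α, β, γ, δ, hdet, h⟩
    · obtain ⟨a, ha, -⟩ := act_W1 y b c hg
      exact ⟨_, _, _, _, by linear_combination hdet, ha.mul h⟩
    · obtain ⟨a, ha, -⟩ := act_W2 y b c hg
      exact ⟨_, _, _, _, by linear_combination hdet, ha.mul h⟩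
  induction hx using closure_induction_left with
  | one =>
    refine ⟨1, 0, 0, 1, by ring, ⟨fun b c => ?_, fun z m n hz => ?_⟩⟩
    · have e : (1 : G) * v b c * 1⁻¹ = v b c := by group
      rw [e]
      congr 1 <;> ring
    · have e : (1 : G) * z * 1⁻¹ = z := by group
      rw [e]
      convert hz using 1
      · module
      · module
  | mul_left x hx z _ ih => exact key x hx z ih
  | inv_mul_cancel x hx z _ ih =>
    refine key x⁻¹ ?_ z ih
    rcases hx with hx | hx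
    · exact Or.inl ((WW V (R i)).inv_mem hx)
    · exact Or.inr ((WW V (R j)).inv_mem hx)

/-- **an element of `X` normalising `R i` and `R j`** acts as `diag(a, a⁻¹)` on `V` and on `Y / D`. -/
theorem exists_tor {t : G} (ht : t ∈ XX V R) (hti : t ∈ normalizer (R i : Set G))
    (htj : t ∈ normalizer (R j : Set G)) : ∃ a : F, a ≠ 0 ∧
      (∀ b c, t * v b c * t⁻¹ = v (a * b) (a⁻¹ * c)) ∧
      (∀ x ∈ UU V R i, t * x * t⁻¹ ∈ UU V R i ∧ p1 (t * x * t⁻¹) = a • p1 x) ∧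
      (∀ x ∈ UU V R j, t * x * t⁻¹ ∈ UU V R j ∧ p2 (t * x * t⁻¹) = a⁻¹ • p2 x) := by
  obtain ⟨α, β, γ, δ, hdet, h⟩ := exists_act y b c ht
  have hγ : γ = 0 := by
    have h1 : t * v 1 0 * t⁻¹ ∈ R i := conj_mem_of_normalizer hti ((c.mem_R1 _).2 ⟨1, rfl⟩)
    rw [h.1] at h1
    obtain ⟨e, he⟩ := (c.mem_R1 _).1 h1
    have := (c.v_inj he).2
    linear_combination -this
  have hβ : β = 0 := by
    have h1 : t * v 0 1 * t⁻¹ ∈ R j := conj_mem_of_normalizer htj ((c.mem_R2 _).2 ⟨1, rfl⟩)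
    rw [h.1] at h1
    obtain ⟨e, he⟩ := (c.mem_R2 _).1 h1
    have := (c.v_inj he).1
    linear_combination -this
  subst hγ hβ
  rw [mul_zero, sub_zero] at hdet
  have hα : α ≠ 0 := by
    rintro rfl
    rw [zero_mul] at hdet
    exact zero_ne_one hdet
  have hδ : δ = α⁻¹ := (eq_inv_of_mul_eq_one_right hdet)
  subst hδ
  have htV := b.X_le_NV ht
  have hUi : ∀ x ∈ UU V R i, t * x * t⁻¹ ∈ UU V R i := fun x hx => by
    have := conj_mem_cj (g := t) hx
    rwa [b.cj_UU htV (cj_eq_self_iff.2 hti)] at this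
  have hUj : ∀ x ∈ UU V R j, t * x * t⁻¹ ∈ UU V R j := fun x hx => by
    have := conj_mem_cj (g := t) hx
    rwa [b.cj_UU htV (cj_eq_self_iff.2 htj)] at this
  refine ⟨α, hα, fun d e => ?_, fun x hx => ⟨hUi x hx, ?_⟩, fun x hx => ⟨hUj x hx, ?_⟩⟩
  · rw [h.1, zero_mul, add_zero, zero_mul, zero_add]
  · have h1 := (y.rep_unique b c (y.rep_of_mem1 b c (hUi x hx)) (h.2 _ _ _ (y.rep_of_mem1 b c hx))).1
    rwa [smul_zero, add_zero] at h1
  · have h1 := (y.rep_unique b c (y.rep_of_mem2 b c (hUj x hx)) (h.2 _ _ _ (y.rep_of_mem2 b c hx))).2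
    rwa [smul_zero, zero_add] at h1

/-- `[m, a]` in coordinates -/
theorem p1_comm {m : G} {α : F} (hm : m ∈ WW V (R i)) (hα : ∀ b c, m * v b c * m⁻¹ = v (b + α * c) c) {x : G}
    (hx : x ∈ UU V R j) : m * x * m⁻¹ * x⁻¹ ∈ UU V R i ∧ p1 (m * x * m⁻¹ * x⁻¹) = α • p2 x := by
  have h0 : m * x * m⁻¹ * x⁻¹ ∈ UU V R i := b.WU' hm hx
  refine ⟨h0, ?_⟩
  have h2 := b.same hm (c.w1_mem α) (fun g hg => by
      obtain ⟨e, f, rfl⟩ := (c.mem_V g).1 hg
      rw [hα, c.w1_act]) (UU_le_YY j hx)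
  have h3 : w1 α * x * (w1 α)⁻¹ * x⁻¹ ∈ UU V R i := b.WU' (c.w1_mem α) hx
  rw [← y.act12 α x hx, ← y.p1_D_mul h2 (b.D_le_U i h2) h3]
  congr 1
  group

end

section final

variable (y : YMod (DD V R) (UU V R i) (UU V R j) w1 w2 M p1 p2) (b : BT V R) (c : Coord V R i j v w1 w2)
  {t : G} (ht : t ∈ XX V R) (hti : t ∈ normalizer (R i : Set G)) (htj : t ∈ normalizer (R j : Set G))
include y b c ht hti htj

/-- **(t3)** -/
theorem t3 : ∀ d ∈ DD V R, t * d * t⁻¹ * d⁻¹ ∈ V := fun _ hd => b.XD ht hd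

/-- **(t4)** -/
theorem t4 : ∀ m ∈ WW V (R i), ∀ a ∈ UU V R j,
    (m * (t⁻¹ * a * t) * m⁻¹ * (t⁻¹ * a * t)⁻¹)⁻¹ * (t * (m * a * m⁻¹ * a⁻¹) * t⁻¹) ∈ DD V R := by
  obtain ⟨s, hs, hV, h1, h2⟩ := exists_tor y b c ht hti htj
  intro m hm a ha
  obtain ⟨α, -, hα⟩ := act_W1 y b c hm
  have ha' : t⁻¹ * a * t ∈ UU V R j := by
    have := conj_mem_cj (g := t⁻¹) ha
    rw [b.cj_UU (inv_mem (b.X_le_NV ht)) (cj_eq_self_iff.2 (inv_mem htj)), inv_inv] at this
    exact this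
  have e : t * (t⁻¹ * a * t) * t⁻¹ = a := by group
  have h3 := (h2 _ ha').2
  rw [e] at h3
  obtain ⟨k1, k2⟩ := p1_comm y b c hm hα ha
  obtain ⟨l1, l2⟩ := p1_comm y b c hm hα ha'
  obtain ⟨n1, n2⟩ := h1 _ k1
  rw [← y.p1_eq_iff n1 l1, n2, k2, l2, h3, smul_smul, smul_smul]
  congr 1
  rw [mul_right_comm, mul_inv_cancel₀ hs, one_mul]

/-- **(t5)** -/
theorem t5 [CharP F 2] : ∀ x ∈ V, ∀ m ∈ WW V (R i),
    t * (x * m * x⁻¹ * m⁻¹) * t⁻¹ = (t⁻¹ * x * t) * m * (t⁻¹ * x * t)⁻¹ * m⁻¹ := by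
  obtain ⟨s, hs, hV, -, -⟩ := exists_tor y b c ht hti htj
  intro x hx m hm
  obtain ⟨α, -, hα⟩ := act_W1 y b c hm
  have key : ∀ d e, v d e * m * (v d e)⁻¹ * m⁻¹ = v (α * e) 0 := by
    intro d e
    have h1 := hα d e
    have e1 : v (d + α * e) e = v d e * v (α * e) 0 := by rw [← c.v_add, add_zero]
    have e2 : v (α * e) 0 * v (α * e) 0 = 1 := by
      rw [← c.v_add, CharTwo.add_self_eq_zero, CharTwo.add_self_eq_zero, c.v_zero]
    have e3 : m * v d e * m⁻¹ = v d e * v (α * e) 0 := h1.trans e1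
    calc v d e * m * (v d e)⁻¹ * m⁻¹ = v d e * (m * v d e * m⁻¹)⁻¹ := by group
      _ = v d e * (v (α * e) 0)⁻¹ * (v d e)⁻¹ := by rw [e3]; group
      _ = v d e * v (α * e) 0 * (v d e)⁻¹ := by rw [inv_eq_of_mul_eq_one_left e2]
      _ = v (α * e) 0 := by rw [b.V_comm _ (c.v_mem _ _) _ (c.v_mem _ _), mul_inv_cancel_right]
  obtain ⟨d, e, rfl⟩ := (c.mem_V x).1 hx
  have hi : t⁻¹ * v d e * t = v (s⁻¹ * d) (s * e) := by
    have h1 := hV (s⁻¹ * d) (s * e)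
    rw [← mul_assoc, ← mul_assoc, mul_inv_cancel₀ hs, inv_mul_cancel₀ hs, one_mul, one_mul] at h1
    rw [← h1]; group
  rw [hi, key, key, hV, mul_zero]
  congr 1
  ring

/-- `t` trivial on `R i` or on `U i / D` centralises `V` and `U i / D`. -/
theorem eq_one_or (htr : ∀ b c, t * v b c * t⁻¹ = v b c) (ho : Odd (orderOf t)) (hC : centralizer (WW V (R i) : Set G) ≤ R i) : t = 1 := by
  obtain ⟨s, hs, hV, h1, -⟩ := exists_tor y b c ht hti htj
  have hs1 : s = 1 := by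
    have := (c.v_inj ((hV 1 0).symm.trans (htr 1 0))).1
    rwa [mul_one] at this
  subst hs1
  have hcV : ∀ x ∈ V, t * x = x * t := by
    intro x hx
    obtain ⟨d, e, rfl⟩ := (c.mem_V x).1 hx
    exact mul_inv_eq_iff_eq_mul.1 (htr d e)
  have hDW : DD V R ≤ WW V (R i) := D_le_W V R i
  have hcD : ∀ d ∈ DD V R, t * d = d * t := by
    intro d hd
    have h2 := b.XD ht hd
    exact comm_of_odd ho ((b.W_isPGroup i).to_le (V_le_WW V (R i))) h2 (hcV _ h2)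
  have hcU : ∀ x ∈ UU V R i, t * x = x * t := by
    intro x hx
    have h2 : t * x * t⁻¹ * x⁻¹ ∈ DD V R := by
      obtain ⟨k1, k2⟩ := h1 x hx
      rw [one_smul] at k2
      have h3 := (y.p1_eq_iff hx k1).1 k2.symm
      have h4 : t * x * t⁻¹ * x⁻¹ = x * (x⁻¹ * (t * x * t⁻¹)) * x⁻¹ := by group
      rw [h4]
      have h5 := inv_mem h3
      have h6 : x⁻¹ * (t * x * t⁻¹) ∈ DD V R := by
        have : x⁻¹ * (t * x * t⁻¹) = ((t * x * t⁻¹)⁻¹ * x)⁻¹ := by group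
        rw [this]; exact h5
      exact conj_mem_of_normalizer (b.NV_le_ND (cen_le_NV V (UU_le_cen i hx))) h6
    exact comm_of_odd ho ((b.W_isPGroup i).to_le hDW) h2 (hcD _ h2)
  have hcW : ∀ x ∈ WW V (R i), t * x = x * t := by
    intro x hx
    have hxt : t * x * t⁻¹ ∈ WW V (R i) :=
      conj_mem_of_normalizer (normalizer_le_WW V (R i) hti) hx
    have h2 : t * x * t⁻¹ * x⁻¹ ∈ UU V R i := by
      refine mem_inf.2 ⟨mul_mem hxt (inv_mem hx), mem_centralizer_iff.2 fun z hz => ?_⟩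
      have hz' : x⁻¹ * z * x ∈ V := conj_inv_mem_of_normalizer (b.W_le_NV i hx) hz
      have e1 : t⁻¹ * (x⁻¹ * z * x) * t = x⁻¹ * z * x := by
        rw [mul_assoc, ← hcV _ hz', inv_mul_cancel_left]
      have e2 : t⁻¹ * z * t = z := by rw [mul_assoc, ← hcV _ hz, inv_mul_cancel_left]
      have e3 : x * (x⁻¹ * z * x) * x⁻¹ = z := by group
      have hz2 := hcV z hz
      calc z * (t * x * t⁻¹ * x⁻¹) = (z * t) * x * t⁻¹ * x⁻¹ := by group
        _ = t * z * x * t⁻¹ * x⁻¹ := by rw [← hz2]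
        _ = t * x * ((x⁻¹ * z * x) * t⁻¹) * x⁻¹ := by group
        _ = t * x * (t⁻¹ * (x⁻¹ * z * x)) * x⁻¹ := by
            have := hcV _ hz'
            have h7 : (x⁻¹ * z * x) * t⁻¹ = t⁻¹ * (x⁻¹ * z * x) := by
              rw [eq_inv_mul_iff_mul_eq, ← mul_assoc, this, mul_inv_cancel_right]
            rw [h7]
        _ = t * x * t⁻¹ * x⁻¹ * z := by group
    exact comm_of_odd ho ((b.W_isPGroup i).to_le (UU_le_WW i)) h2 (hcU _ h2)
  have h3 : t ∈ R i := hC (mem_centralizer_iff.2 fun x hx => (hcW x hx).symm)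
  obtain ⟨n, hn⟩ := (b.W_isPGroup i) ⟨t, V_le_WW V (R i) (b.R_le i h3)⟩
  have h4 : t ^ 2 ^ n = 1 := congrArg Subtype.val hn
  have h5 : Nat.Coprime (orderOf t) (2 ^ n) := (Nat.coprime_two_right.2 ho).pow_right n
  exact orderOf_eq_one_iff.1 (Nat.eq_one_of_dvd_coprimes h5 dvd_rfl (orderOf_dvd_of_pow_eq_one h4))

/-- **(t1)** -/
theorem t1 (ho : Odd (orderOf t))
    (hC : centralizer (WW V (R i) : Set G) ≤ R i) (h1 : t ≠ 1) : ∀ r ∈ R i, t * r * t⁻¹ = r → r = 1 := by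
  intro r hr h
  obtain ⟨s, hs, hV, -, -⟩ := exists_tor y b c ht hti htj
  by_contra hne
  obtain ⟨d, rfl⟩ := (c.mem_R1 r).1 hr
  rw [hV] at h
  have h2 := (c.v_inj h).1
  have hd : d ≠ 0 := by
    rintro rfl
    exact hne c.v_zero
  have hs1 : s = 1 := mul_right_cancel₀ hd (by rw [h2, one_mul])
  subst hs1
  exact h1 (eq_one_or y b c ht hti htj (fun e f => by rw [hV, inv_one, one_mul, one_mul]) ho hC)

/-- **(t6)** -/
theorem t6 (ho : Odd (orderOf t))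
    (hC : centralizer (WW V (R i) : Set G) ≤ R i) (h1 : t ≠ 1) :
    ∀ u ∈ UU V R i, t * u * t⁻¹ * u⁻¹ ∈ DD V R → u ∈ DD V R := by
  intro u hu h
  obtain ⟨s, hs, hV, h2, -⟩ := exists_tor y b c ht hti htj
  have hs1 : s ≠ 1 := by
    rintro rfl
    exact h1 (eq_one_or y b c ht hti htj (fun e f => by rw [hV, inv_one, one_mul, one_mul]) ho hC)
  have h3 : p1 (t * u * t⁻¹) = p1 u := by
    rw [← y.p1_D_mul h (b.D_le_U i h) hu]
    congr 1
    group
  rw [(h2 u hu).2] at h3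
  rw [← y.ker1 u hu]
  have h4 : (s - 1) • p1 u = 0 := by rw [sub_smul, one_smul, h3, sub_self]
  exact (smul_eq_zero.1 h4).resolve_left (sub_ne_zero.2 hs1)

end final

/-- **(t2)** : `T` covers `N_X(R i)` modulo `W i U j`. -/
theorem t2 [CharP F 2] (b : BT V R) (c : Coord V R i j v w1 w2) {T : Subgroup G}
    (hT : ∀ x ∈ XX V R, x ∈ normalizer (R i : Set G) → ∃ p ∈ WW V (R i) ⊔ UU V R j, ∃ t ∈ T, x = p * t) :
    ∀ x ∈ V, x ∉ R i → ∀ x' ∈ V, x' ∉ R i → ∃ t ∈ T, (t * x * t⁻¹)⁻¹ * x' ∈ R i := by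
  intro x hx hxR x' hx' hxR'
  obtain ⟨d, e, rfl⟩ := (c.mem_V x).1 hx
  obtain ⟨d', e', rfl⟩ := (c.mem_V x').1 hx'
  have he : e ≠ 0 := fun h => hxR ((c.mem_R1 _).2 ⟨d, by rw [h]⟩)
  have he' : e' ≠ 0 := fun h => hxR' ((c.mem_R1 _).2 ⟨d', by rw [h]⟩)
  set a := e * e'⁻¹ with ha
  have ha0 : a ≠ 0 := mul_ne_zero he (inv_ne_zero he')
  obtain ⟨p, hp, t, ht, e1⟩ := hT (hh w1 w2 a) (c.hh_mem_X b a) (cj_eq_self_iff.1 (c.hh_R1 b ha0))
  refine ⟨t, ht, ?_⟩
  -- `p` is trivial on `V / R i`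
  have hp' : ∀ z ∈ V, p * z * p⁻¹ * z⁻¹ ∈ R i := by
    have h1 : WW V (R i) ⊔ UU V R j ≤ cenMod (R i) V := by
      refine sup_le (fun g hg => ⟨b.W_le_N i hg, fun z hz => ?_⟩) fun g hg => ⟨b.cen_le_N i (UU_le_cen j hg), fun z hz => ?_⟩
      · exact b.WW_comm i hg (V_le_WW V (R i) hz)
      · have h2 := mem_centralizer_iff.1 (UU_le_cen j hg) z hz
        rw [← h2, mul_inv_cancel_right, mul_inv_cancel]
        exact one_mem _
    exact (h1 hp).2
  have hpN : p ∈ normalizer (V : Set G) := by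
    have h1 : WW V (R i) ⊔ UU V R j ≤ normalizer (V : Set G) :=
      sup_le (b.W_le_NV i) ((UU_le_cen j).trans (cen_le_NV V))
    exact h1 hp
  have e2 : t = p⁻¹ * hh w1 w2 a := by rw [e1]; group
  have hz : v (a * d) (a⁻¹ * e) ∈ V := c.v_mem _ _
  have h3 : t * v d e * t⁻¹ = p⁻¹ * v (a * d) (a⁻¹ * e) * p := by
    rw [e2, ← c.hh_act ha0]; group
  have hz' : p⁻¹ * v (a * d) (a⁻¹ * e) * p ∈ V := conj_inv_mem_of_normalizer hpN hz
  have h4 := hp' _ hz'
  have e3 : p * (p⁻¹ * v (a * d) (a⁻¹ * e) * p) * p⁻¹ = v (a * d) (a⁻¹ * e) := by group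
  rw [e3] at h4
  have e4 : a⁻¹ * e = e' := by
    rw [ha, mul_inv, inv_inv, mul_right_comm, inv_mul_cancel₀ he, one_mul]
  rw [h3]
  have h5 : (v (a * d) (a⁻¹ * e))⁻¹ * v d' e' ∈ R i := by
    rw [e4]
    refine (c.mem_R1 _).2 ⟨d' - a * d, ?_⟩
    rw [eq_inv_mul_iff_mul_eq, ← c.v_add, add_sub_cancel, add_zero]
  have e5 : (p⁻¹ * v (a * d) (a⁻¹ * e) * p)⁻¹ * v d' e' =
      ((p⁻¹ * v (a * d) (a⁻¹ * e) * p)⁻¹ * v (a * d) (a⁻¹ * e)) * ((v (a * d) (a⁻¹ * e))⁻¹ * v d' e') := by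
    group
  rw [e5]
  refine mul_mem ?_ h5
  rw [b.V_comm _ (inv_mem hz') _ hz]
  exact h4

/-- coordinates for another pair of points -/
theorem coord_conj (b : BT V R) (c : Coord V R i j v w1 w2) {g : G} (hg : g ∈ normalizer (V : Set G))
    {i' j' : ι} (hi : cj g (R i) = R i') (hj : cj g (R j) = R j') :
    Coord V R i' j' (fun a b => g * v a b * g⁻¹) (fun a => g * w1 a * g⁻¹) (fun a => g * w2 a * g⁻¹) where
  ne := by
    rintro rfl
    exact c.ne (b.R_index (cj_injective (hi.trans hj.symm)))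
  v_add := fun a b a' b' => by rw [c.v_add]; group
  v_one := fun a b h => c.v_one a b (by
    have := congrArg (fun x => g⁻¹ * x * g) h
    simpa [mul_assoc] using this)
  mem_V := fun x => by
    constructor
    · intro hx
      obtain ⟨a, b, e⟩ := (c.mem_V _).1 (conj_inv_mem_of_normalizer hg hx)
      exact ⟨a, b, by rw [e]; group⟩
    · rintro ⟨a, b, rfl⟩
      exact conj_mem_of_normalizer hg (c.v_mem a b)
  mem_R1 := fun x => by
    rw [← hi, mem_cj, c.mem_R1]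
    constructor
    · rintro ⟨a, e⟩
      exact ⟨a, by rw [e]; group⟩
    · rintro ⟨a, rfl⟩
      exact ⟨a, by group⟩
  mem_R2 := fun x => by
    rw [← hj, mem_cj, c.mem_R2]
    constructor
    · rintro ⟨a, e⟩
      exact ⟨a, by rw [e]; group⟩
    · rintro ⟨a, rfl⟩
      exact ⟨a, by group⟩
  w1_mem := fun a => by
    have := conj_mem_cj (g := g) (c.w1_mem a)
    rwa [b.cj_WW hi] at this
  w2_mem := fun a => by
    have := conj_mem_cj (g := g) (c.w2_mem a)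
    rwa [b.cj_WW hj] at this
  w1_act := fun a b d => by
    rw [← c.w1_act]; group
  w2_act := fun a b d => by
    rw [← c.w2_act]; group
  W1_act := fun x hx => by
    rw [← b.cj_WW hi] at hx
    obtain ⟨a, ha⟩ := c.W1_act _ (mem_cj.1 hx)
    exact ⟨a, fun b d => by rw [← ha]; group⟩
  W2_act := fun x hx => by
    rw [← b.cj_WW hj] at hx
    obtain ⟨a, ha⟩ := c.W2_act _ (mem_cj.1 hx)
    exact ⟨a, fun b d => by rw [← ha]; group⟩

/-- coordinates with the same first point `R i` and any second point -/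
theorem exists_coord (b : BT V R) (c : Coord V R i j v w1 w2) {k : ι} (hk : k ≠ i) :
    ∃ (v' : F → F → G) (w1' w2' : F → G), Coord V R i k v' w1' w2' := by
  obtain ⟨w, hw, e⟩ := b.trans i c.ne.symm hk
  exact ⟨_, _, _, coord_conj b c (b.W_le_NV i hw) (cj_eq_self_iff.2 (b.W_le_N i hw)) e⟩

end Cfsg.Agent.Omega.SQEnd.Tor
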