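import Cfsg.Agent.Omega.SQEnd.CfgOf
import Cfsg.Agent.Omega.Hex.GlobOf

/-!
# `GZero` from `BTC`, `Coord`, `KD`, `C(W) ≤ R`, `O₂(N(R)) = W`, `N_{N(R)}(W A) ≤ N(V)`, `|k| > 4`
-/

set_option autoImplicit false

universe u v w z

namespace Cfsg.Agent.Omega.SQEnd

open Subgroup Cfsg.Agent.Omega.BTwo Cfsg.Agent.Lib.SL2Mat Cfsg.Agent.Omega.Hex

variable {G : Type u} [Group G] [Finite G] {ι : Type v} {V : Subgroup G} {R : ι → Subgroup G} {i j : ι} {k : Type w}
  [Field k] {K : Subgroup G} {φ : K →* Matrix.SpecialLinearGroup (Fin 2) k} {F : Type z} [Field F] [Finite F]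
  [CharP F 2] {v : F → F → G} {w1 w2 : F → G}

/-- **`GZero`**, `|k| > 4` -/
theorem gZero (b : BTC V R) (c : Coord V R i j v w1 w2) (kd : KD V R i j K φ)
    (hC : centralizer (WW V (R i) : Set G) ≤ R i) (hQ : QQ (R i) = WW V (R i))
    (NAe : ∀ g ∈ normalizer (R i : Set G), cj g (WW V (R i) ⊔ UU V R j) = WW V (R i) ⊔ UU V R j → cj g V = V)
    (hF : 4 ≤ Nat.card F) (hk : 4 < Nat.card k) (hB : RootLemma.Bender.{u}) (hG : IsCharacteristicTwoType G)
    (S : Sylow 2 G) (hS : (S : Subgroup G) ≤ normalizer (R i : Set G)) : IIa4.GZero V R := by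
  have := kd.finite
  have := kd.charP b
  obtain ⟨L, w, h, hwV, -, -, -, hL⟩ := exists_cfgI b c kd hC NAe hF
  have n : KIn V R i j K φ := { kd := kd, NA := NAe }
  refine n.gZero b c hB hG hC hQ S hS hF hk h.toCfg ?_ inf_le_right hwV
  rw [PLoc.UZ, n.UZ_eq b.toBT]
  exact hL

end Cfsg.Agent.Omega.SQEnd
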