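import Cfsg.Agent.Omega.SQEnd.FourOf
import Cfsg.Agent.Omega.GTwoFour.Four
import Mathlib.FieldTheory.Finite.GaloisField

/-!
# The structure `Four` (input of ID24, type `G₂(4)`) from `BTC`, `Coord`, `KD`, `|F| = |k| = 4`
-/

set_option autoImplicit false

universe u v w z

namespace Cfsg.Agent.Omega.SQEnd

open Subgroup Cfsg.Agent.Omega.BTwo Cfsg.Agent.Lib.SL2Mat Cfsg.Agent.Omega.Hex

/-- a torus of order three -/
theorem card_of_chart {H F : Type*} [Group H] [Field F] [Finite F] (f : H → F) (h0 : ∀ x, f x ≠ 0)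
    (hinj : ∀ x y, f x = f y → x = y) (hs : ∀ a, a ≠ 0 → ∃ x, f x = a) : Nat.card H = Nat.card F - 1 := by
  have h1 : Nat.card H = Nat.card Fˣ := by
    refine Nat.card_eq_of_bijective (fun x => Units.mk0 (f x) (h0 x)) ⟨?_, ?_⟩
    · intro x y h
      exact hinj x y (congrArg Units.val h)
    · intro a
      obtain ⟨x, hx⟩ := hs a a.ne_zero
      exact ⟨x, Units.ext hx⟩
  rw [h1, Nat.card_units]

theorem exists_gen {G : Type*} [Group G] [Finite G] {C : Subgroup G} (h : Nat.card C = 3) :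
    ∃ g, C = zpowers g ∧ g ∈ C ∧ g ≠ 1 ∧ g * g * g = 1 := by
  have : Fact (Nat.Prime 3) := ⟨Nat.prime_three⟩
  obtain ⟨g, hg⟩ := (isCyclic_of_prime_card h).exists_generator
  have e : C = zpowers (g : G) := by
    apply le_antisymm
    · intro x hx
      obtain ⟨n, hn⟩ := mem_zpowers_iff.1 (hg ⟨x, hx⟩)
      refine mem_zpowers_iff.2 ⟨n, ?_⟩
      have := congrArg Subtype.val hn
      exact this
    · rw [zpowers_le]
      exact g.2
  refine ⟨g, e, g.2, ?_, ?_⟩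
  · intro h1
    rw [h1, zpowers_one_eq_bot] at e
    rw [e, card_bot] at h
    omega
  · have h1 : g ^ 3 = 1 := by rw [← h]; exact pow_card_eq_one'
    have h2 : (g : G) ^ 3 = 1 := congrArg Subtype.val h1
    rw [← h2, pow_succ, pow_two]

/-- transport of `SL₂` between two fields of the same order -/
theorem exists_sl {F : Type*} {k : Type*} [Field F] [Finite F] [Field k] [Finite k] (h : Nat.card k = Nat.card F)
    {X : Type*} [Group X] {N : X → Prop} (φ : X →* Matrix.SpecialLinearGroup (Fin 2) k)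
    (hs : Function.Surjective φ) (hk : ∀ x, φ x = 1 ↔ N x) :
    ∃ π : X →* Matrix.SpecialLinearGroup (Fin 2) F, Function.Surjective π ∧ ∀ x, π x = 1 ↔ N x := by
  have := Fintype.ofFinite F
  have := Fintype.ofFinite k
  rw [Nat.card_eq_fintype_card, Nat.card_eq_fintype_card] at h
  let e : k ≃+* F := FiniteField.ringEquivOfCardEq h
  have h1 : ∀ A : Matrix.SpecialLinearGroup (Fin 2) F,
      Matrix.SpecialLinearGroup.map (e : k →+* F) (Matrix.SpecialLinearGroup.map (e.symm : F →+* k) A) = A := by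
    intro A
    ext i j
    simp
  have h2 : ∀ A : Matrix.SpecialLinearGroup (Fin 2) k,
      Matrix.SpecialLinearGroup.map (e.symm : F →+* k) (Matrix.SpecialLinearGroup.map (e : k →+* F) A) = A := by
    intro A
    ext i j
    simp
  refine ⟨(Matrix.SpecialLinearGroup.map (e : k →+* F)).comp φ, ?_, fun x => ?_⟩
  · intro A
    obtain ⟨x, hx⟩ := hs (Matrix.SpecialLinearGroup.map (e.symm : F →+* k) A)
    exact ⟨x, by rw [MonoidHom.comp_apply, hx, h1]⟩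
  · rw [← hk]
    constructor
    · intro h3
      have h4 := congrArg (Matrix.SpecialLinearGroup.map (e.symm : F →+* k)) h3
      rwa [MonoidHom.comp_apply, h2, map_one] at h4
    · intro h3
      rw [MonoidHom.comp_apply, h3, map_one]

variable {G : Type u} [Group G] [Finite G] {ι : Type v} {V : Subgroup G} {R : ι → Subgroup G} {i j : ι} {k : Type w}
  [Field k] {K : Subgroup G} {φ : K →* Matrix.SpecialLinearGroup (Fin 2) k} {F : Type z} [Field F] [Finite F]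
  [CharP F 2] {v : F → F → G} {w1 w2 : F → G}

/-- `|L ∩ K| = |k| - 1` -/
theorem card_LK (b : BTC V R) (n : KIn V R i j K φ) [Finite k] [CharP k 2] {L : Subgroup G}
    (nt : NT (PLoc.UZ V R i) (PLoc.B0 V R i K)) (hL : Cpl (PLoc.UZ V R i) (PLoc.B0 V R i K) L)
    (LV : L ≤ normalizer (V : Set G)) : Nat.card (L ⊓ K : Subgroup G) = Nat.card k - 1 := by
  have hbot := inf_eq_bot_of_odd nt.two (nt.odd_cpl hL)
  have h0 : ∀ x : (L ⊓ K : Subgroup G), ent (φ ⟨x, (mem_inf.1 x.2).2⟩) 1 0 = 0 := fun x =>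
    (n.mem_NV_iff b.toBT (g := ⟨x, (mem_inf.1 x.2).2⟩)).1 (LV (mem_inf.1 x.2).1)
  refine card_of_chart (fun x => ent (φ ⟨x, (mem_inf.1 x.2).2⟩) 0 0) ?_ ?_ ?_
  · intro x hx
    have hd := det_eq (φ ⟨x, (mem_inf.1 x.2).2⟩)
    have hx' : ent (φ ⟨x, (mem_inf.1 x.2).2⟩) 0 0 = 0 := hx
    rw [h0 x, hx', zero_mul, mul_zero, sub_zero] at hd
    exact zero_ne_one hd
  · intro x y hxy
    have hxy' : ent (φ ⟨x, (mem_inf.1 x.2).2⟩) 0 0 = ent (φ ⟨y, (mem_inf.1 y.2).2⟩) 0 0 := hxy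
    have h1 : φ ((⟨x, (mem_inf.1 x.2).2⟩ : K)⁻¹ * ⟨y, (mem_inf.1 y.2).2⟩) ∈ upG k := by
      have hd := det_eq (φ ⟨x, (mem_inf.1 x.2).2⟩)
      rw [h0 x, mul_zero, sub_zero] at hd
      rw [map_mul, map_inv, mem_upG, ent_inv]
      simp only [ent_mul, mk_00, mk_01, mk_10, mk_11, h0 x, h0 y, ← hxy']
      constructor
      · linear_combination hd
      · ring
    have h2 : (x : G)⁻¹ * y ∈ PLoc.UZ V R i ⊓ L :=
      mem_inf.2 ⟨(n.mem_UZ b.toBT _).2 h1, mul_mem (inv_mem (mem_inf.1 x.2).1) (mem_inf.1 y.2).1⟩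
    rw [hbot, mem_bot, inv_mul_eq_one] at h2
    exact Subtype.ext h2
  · intro a ha
    obtain ⟨c, hc, h1, -, -⟩ := n.exists_c b.toBT nt hL ha
    exact ⟨⟨c, mem_inf.2 ⟨hc, c.2⟩⟩, h1⟩

theorem mem_UZ_of_rho (b : BTC V R) (c : Coord V R i j v w1 w2) {x : XX V R} :
    c.rho b.toBT x ∈ upG F ↔ (x : G) ∈ WW V (R i) ⊔ YY V R := by
  obtain ⟨N, _, _, P1, P2, y⟩ := c.exists_yPair b.toBT
  have h1 := y.comap_upG c b
  rw [← mem_comap, h1, mem_subgroupOf]

theorem rho_10 (b : BTC V R) (c : Coord V R i j v w1 w2) {x : XX V R} (hx : (x : G) ∈ normalizer (R i : Set G)) :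
    ent (c.rho b.toBT x) 1 0 = 0 := by
  have h1 := c.rho_spec b.toBT x 1 0
  have h2 : (x : G) * v 1 0 * (x : G)⁻¹ ∈ R i := conj_mem_of_normalizer hx ((c.mem_R1 _).2 ⟨1, rfl⟩)
  obtain ⟨y, hy⟩ := (c.mem_R1 _).1 h2
  rw [← hy] at h1
  have h3 := (c.v_inj h1).2
  rw [mul_one, mul_zero, add_zero] at h3
  exact h3.symm

/-- `|L ∩ X| = |F| - 1` -/
theorem card_LX (b : BTC V R) (c : Coord V R i j v w1 w2) {L : Subgroup G}
    (nt : NT (PLoc.UZ V R i) (PLoc.B0 V R i K)) (hL : Cpl (PLoc.UZ V R i) (PLoc.B0 V R i K) L)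
    (LR : L ≤ normalizer (R i : Set G)) : Nat.card (L ⊓ XX V R : Subgroup G) = Nat.card F - 1 := by
  have hbot := inf_eq_bot_of_odd nt.two (nt.odd_cpl hL)
  set ρ := c.rho b.toBT with hρ
  have h0 : ∀ x : (L ⊓ XX V R : Subgroup G), ent (ρ ⟨x, (mem_inf.1 x.2).2⟩) 1 0 = 0 := fun x =>
    rho_10 b c (LR (mem_inf.1 x.2).1)
  refine card_of_chart (fun x => ent (ρ ⟨x, (mem_inf.1 x.2).2⟩) 0 0) ?_ ?_ ?_
  · intro x hx
    have hd := det_eq (ρ ⟨x, (mem_inf.1 x.2).2⟩)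
    have hx' : ent (ρ ⟨x, (mem_inf.1 x.2).2⟩) 0 0 = 0 := hx
    rw [h0 x, hx', zero_mul, mul_zero, sub_zero] at hd
    exact zero_ne_one hd
  · intro x y hxy
    have hxy' : ent (ρ ⟨x, (mem_inf.1 x.2).2⟩) 0 0 = ent (ρ ⟨y, (mem_inf.1 y.2).2⟩) 0 0 := hxy
    have h1 : ρ ((⟨x, (mem_inf.1 x.2).2⟩ : XX V R)⁻¹ * ⟨y, (mem_inf.1 y.2).2⟩) ∈ upG F := by
      have hd := det_eq (ρ ⟨x, (mem_inf.1 x.2).2⟩)
      rw [h0 x, mul_zero, sub_zero] at hd
      rw [map_mul, map_inv, mem_upG, ent_inv]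
      simp only [ent_mul, mk_00, mk_01, mk_10, mk_11, h0 x, h0 y, ← hxy']
      constructor
      · linear_combination hd
      · ring
    have h2 : (x : G)⁻¹ * y ∈ PLoc.UZ V R i ⊓ L :=
      mem_inf.2 ⟨(mem_UZ_of_rho b c).1 h1, mul_mem (inv_mem (mem_inf.1 x.2).1) (mem_inf.1 y.2).1⟩
    rw [hbot, mem_bot, inv_mul_eq_one] at h2
    exact Subtype.ext h2
  · intro a ha
    have hh1 : hh w1 w2 a ∈ XX V R := c.hh_mem_X b.toBT a
    have hhR : hh w1 w2 a ∈ normalizer (R i : Set G) := cj_eq_self_iff.1 (c.hh_R1 b.toBT ha)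
    have hρa : ρ ⟨hh w1 w2 a, hh1⟩ = dg a ha := by
      refine c.rho_eq b.toBT ?_
      intro β γ
      show hh w1 w2 a * v β γ * (hh w1 w2 a)⁻¹ = _
      rw [c.hh_act ha]
      simp
    obtain ⟨u, hu, x, hx, e⟩ := nt.exists_mul hL ((le_sup_left : PLoc.A1 V R i ≤ _) (mem_inf.2 ⟨hh1, hhR⟩))
    have hUX : PLoc.UZ V R i ≤ XX V R := sup_le (W_le_X V R i) YY_le_XX
    have hxX : x ∈ XX V R := by
      have e1 : x = u⁻¹ * hh w1 w2 a := by rw [e]; group
      rw [e1]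
      exact mul_mem (inv_mem (hUX hu)) hh1
    obtain ⟨s, hs⟩ := (mem_UZ_of_rho b c (x := ⟨u, hUX hu⟩)).2 hu
    have e2 : (⟨hh w1 w2 a, hh1⟩ : XX V R) = ⟨u, hUX hu⟩ * ⟨x, hxX⟩ := Subtype.ext e
    have e3 : ρ ⟨x, hxX⟩ = (up s)⁻¹ * dg a ha := by
      rw [← hρa, e2, map_mul, hs]; group
    refine ⟨⟨x, mem_inf.2 ⟨hx, hxX⟩⟩, ?_⟩
    show ent (ρ ⟨x, hxX⟩) 0 0 = a
    rw [e3, up_inv]
    simp [ent_mul]

/-- **`Four`** and `Hex` for `|F| = |k| = 4` -/
theorem exists_four (b : BTC V R) (c : Coord V R i j v w1 w2) (kd : KD V R i j K φ)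
    (hC : centralizer (WW V (R i) : Set G) ≤ R i)
    (NAe : ∀ g ∈ normalizer (R i : Set G), cj g (WW V (R i) ⊔ UU V R j) = WW V (R i) ⊔ UU V R j → cj g V = V)
    (hF : Nat.card F = 4) (hk : Nat.card k = 4) (S : Sylow 2 G) (hSV : (S : Subgroup G) ≤ normalizer (V : Set G))
    (hSR : (S : Subgroup G) ≤ normalizer (R i : Set G)) :
    ∃ (P₁ P₂ B U X₁ X₂ : Subgroup G) (h₁ h₂ n₁ n₂ : G),
      Hex P₁ P₂ B U (zpowers h₁ ⊔ zpowers h₂) V (R i) (WW V (R i)) (YY V R) (DD V R) n₁ n₂ 4 4 ∧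
      B ⊓ centralizer (U : Set G) ≤ U ∧ U ≤ S ∧ (S : Subgroup G) ≤ B ∧
      GTwoFour.Id.Four F X₁ X₂ U V (R i) (WW V (R i)) (YY V R) (DD V R) h₁ h₂ ∧ X₁ ≤ P₁ ∧ X₂ ≤ P₂ ∧
      P₁ ≤ normalizer (V : Set G) ∧ P₂ ≤ normalizer (R i : Set G) := by
  have := kd.finite
  have := kd.charP b
  have l := ploc b c kd hC NAe hF.ge
  have n : KIn V R i j K φ := { kd := kd, NA := NAe }
  obtain ⟨L, w, hcfg, hwV, ld, -, -, hL'⟩ := exists_cfgI b c kd hC NAe hF.ge
  have hL : Cpl (PLoc.UZ V R i) (PLoc.B0 V R i K) L := by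
    rw [PLoc.UZ, n.UZ_eq b.toBT]
    exact hL'
  have hcomm := hcfg.toCfg.L_comm
  have hcK := card_LK b n l.nt hL ld.NV
  have hcX := card_LX b c l.nt hL ld.Ni
  rw [hk] at hcK
  rw [hF] at hcX
  obtain ⟨h₂, e₂, h₂m, h₂1, h₂3⟩ := exists_gen hcK
  obtain ⟨h₁, e₁, h₁m, h₁1, h₁3⟩ := exists_gen hcX
  obtain ⟨h₁L, h₁X⟩ := mem_inf.1 h₁m
  obtain ⟨h₂L, h₂K⟩ := mem_inf.1 h₂m
  have hLeq : L = zpowers h₁ ⊔ zpowers h₂ := by
    rw [← e₁, ← e₂]
    apply le_antisymm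
    · intro x hx
      obtain ⟨c', hc', hc'K, t, ht, htX, e⟩ := ld.CT x hx
      rw [e]
      exact mul_mem (mem_sup_right (mem_inf.2 ⟨hc', hc'K⟩)) (mem_sup_left (mem_inf.2 ⟨ht, htX⟩))
    · exact sup_le inf_le_left inf_le_left
  have hSF : (S : Subgroup G) ≤ PLoc.NF V R i := le_inf hSV hSR
  obtain ⟨n₁, -, n₂, -, h⟩ := l.hex S.isPGroup' hSF hL
  rw [card_R c, hF, hk] at h
  rw [hLeq] at h
  have cR4 : Nat.card (R i) = 4 := by rw [card_R c, hF]
  have cU : Nat.card (PLoc.UZ V R i) = 4096 := by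
    have h1 : Nat.card (WW V (R i)) * (WW V (R i)).relIndex (PLoc.UZ V R i) = Nat.card (PLoc.UZ V R i) :=
      card_mul_relIndex le_sup_left
    have h2 : (WW V (R i)).relIndex (PLoc.UZ V R i) = 4 := by
      rw [PLoc.UZ, relIndex_sup_of_le (l.Y₂.trans (l.X₂N.trans (normalizer_le_WW V (R i)))), ← inf_relIndex_right,
        l.W_inf_Y]
      have h3 := card_mul_relIndex (UU_le_YY (V := V) (R := R) i)
      rw [l.card_Y, hk, mul_comm] at h3
      exact Nat.eq_of_mul_eq_mul_right Nat.card_pos h3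
    rw [← h1, h2, l.card_W, l.card_UU, l.card_D, cR4, hk]
  have hnormX : ∀ x ∈ XX V R, ∀ a ∈ V, x * a * x⁻¹ ∈ V := fun x hx a ha =>
    conj_mem_of_normalizer (b.X_le_NV hx) ha
  refine ⟨_, _, _, PLoc.UZ V R i, XX V R, K, h₁, h₂, n₁, n₂, h, ?_, ?_, le_sup_right, ?_, le_sup_left, le_sup_left,
    h.nV, h.nR⟩
  · refine inf_le_right.trans ((centralizer_le ?_).trans (hC.trans (h.RV.trans (h.VD.trans (h.DW.trans h.WU)))))
    exact h.WU
  · have h1 : IsPGroup 2 (PLoc.UZ V R i ⊔ S : Subgroup G) :=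
      h.two.to_sup_of_normal_left' S.isPGroup' ((le_sup_right : (S : Subgroup G) ≤ PLoc.BB V R i K S).trans h.nU)
    exact le_sup_left.trans (S.is_maximal' h1 le_sup_right).le
  obtain ⟨x₁, hx₁, hx₁R⟩ := l.exists_x₁
  obtain ⟨N, _, _, P1, P2, y⟩ := c.exists_yPair b.toBT
  have h₁NR := ld.Ni h₁L
  have h₁NV := ld.NV h₁L
  have h₂NR := ld.Ni h₂L
  have h₂NV := ld.NV h₂L
  exact
    { cF := hF
      UX₁ := l.U_A1.trans inf_le_left
      UX₂ := l.U_A2.trans inf_le_left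
      sl₁ := by
        refine ⟨c.rho b.toBT, c.rho_surjective b.toBT, fun x => ?_⟩
        rw [← MonoidHom.mem_ker, y.ker_rho c b, mem_subgroupOf]
      sl₂ := exists_sl (by rw [hk, hF]) φ kd.surj kd.ker
      nV := hnormX
      nD := fun x hx a ha => conj_mem_of_normalizer (b.NV_le_ND (b.X_le_NV hx)) ha
      cR := kd.KR
      Rn := by
        by_contra hcon
        push Not at hcon
        exact hx₁R (mem_normalizer_of_conj fun r hr => hcon x₁ hx₁ r hr)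
      RV := h.RV
      VD := h.VD
      DW := h.DW
      DY := h.DY
      WU := h.WU
      YU := h.YU
      UWY := fun u hu => exists_mul_of_le (l.Y₂.trans (l.X₂N.trans (normalizer_le_WW V (R i)))) hu
      D_of := by
        rintro g hg ⟨r, hr, hrg⟩ d hd hdg
        obtain ⟨m, hm⟩ := b.perm g (b.X_le_NV hg) i
        have hmi : i ≠ m := by
          rintro rfl
          exact hrg (by rw [← hm]; exact conj_mem_cj hr)
        rw [b.D_eq' hmi]
        refine mem_inf.2 ⟨hd, ?_⟩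
        rw [← b.cj_WW hm, mem_cj]
        exact hdg
      kR := cR4
      kV := by rw [l.card_V, cR4]
      kD := by rw [l.card_D, cR4, hk]
      kWY := by rw [l.W_inf_Y, l.card_UU, l.card_D, cR4, hk]
      kW := by rw [l.card_W, l.card_UU, l.card_D, cR4, hk]
      kY := by rw [l.card_Y, l.card_UU, l.card_D, cR4, hk]
      kU := cU
      V_sq := b.V_sq
      YV := h.YV
      WW := fun a ha a' ha' => b.WW_comm i ha ha'
      gen := by
        intro M hM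
        refine iSup_le fun g => ?_
        obtain ⟨x, hx, e⟩ := l.exists_cj g.2
        rw [e]
        intro a ha
        rw [mem_cj] at ha
        have := hM x hx _ ha
        have e1 : x * (x⁻¹ * a * x) * x⁻¹ = a := by group
        rwa [e1] at this
      h₁X := h₁X
      h₂X := h₂K
      h₁ne := h₁1
      h₂ne := h₂1
      h₁3 := h₁3
      h₂3 := h₂3
      hh := hcomm _ h₁L _ h₂L
      h₁X₂ := fun x hx => conj_mem_of_normalizer (l.NX₂ h₁NR) hx
      h₁U := fun x hx => conj_mem_of_normalizer (l.NF_NU (mem_inf.2 ⟨h₁NV, h₁NR⟩)) hx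
      h₁W := fun x hx => conj_mem_of_normalizer (normalizer_le_WW V (R i) h₁NR) hx
      h₁R := fun x hx => conj_mem_of_normalizer h₁NR hx
      h₂X₁ := fun x hx => conj_mem_of_normalizer (b.NV_le_NX h₂NV) hx
      h₂U := fun x hx => conj_mem_of_normalizer (l.NF_NU (mem_inf.2 ⟨h₂NV, h₂NR⟩)) hx
      h₂Y := fun x hx => conj_mem_of_normalizer (b.NV_le_NY h₂NV) hx
      h₂V := fun x hx => conj_mem_of_normalizer h₂NV hx
      h₂D := fun x hx => conj_mem_of_normalizer (b.NV_le_ND h₂NV) hx }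

end Cfsg.Agent.Omega.SQEnd
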