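import Cfsg.Agent.Omega.SQEnd.ExcCore
import Cfsg.Agent.Omega.SQEnd.KTor
import Cfsg.Agent.Omega.BTwo.ModT

/-!
# LEMMA NA (bb OMEGA #12947) for all `k`: the exceptional case from `BTC`, `Coord`, `KD`
-/

set_option autoImplicit false
set_option linter.unusedSectionVars false

universe u v w z

namespace Cfsg.Agent.Omega.SQEnd

open Subgroup Cfsg.Agent.Omega.BTwo Cfsg.Agent.Lib.SL2Mat

namespace Exc

section sylow

/-- 2-elements are conjugate into subgroups of odd index -/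
theorem exists_conj_of_odd {H : Type*} [Group H] [Finite H] {P : Subgroup H} (hP : Odd P.index) {β : H} {n : ℕ}
    (hβ : β ^ 2 ^ n = 1) : ∃ y : H, y * β * y⁻¹ ∈ P := by
  have : Fact (Nat.Prime 2) := ⟨Nat.prime_two⟩
  obtain ⟨Q⟩ : Nonempty (Sylow 2 P) := inferInstance
  have h1 : IsPGroup 2 ((Q : Subgroup P).map P.subtype) := Q.isPGroup'.map _
  have h2 : ¬ 2 ∣ ((Q : Subgroup P).map P.subtype).index := by
    rw [index_map_of_injective _ P.subtype_injective, range_subtype]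
    intro h
    rcases (Nat.Prime.dvd_mul Nat.prime_two).1 h with h | h
    · exact Q.not_dvd_index h
    · rw [← Nat.not_even_iff_odd, even_iff_two_dvd] at hP
      exact hP h
  let S : Sylow 2 H := h1.toSylow h2
  have h3 : IsPGroup 2 (zpowers β) := by
    rintro ⟨_, i, rfl⟩
    refine ⟨n, Subtype.ext ?_⟩
    change ((β ^ i) ^ 2 ^ n : H) = 1
    rw [← zpow_natCast, ← zpow_mul, mul_comm, zpow_mul, zpow_natCast, hβ, one_zpow]
  obtain ⟨R, hR⟩ := h3.exists_le_sylow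
  obtain ⟨g, hg⟩ := MulAction.exists_smul_eq H R S
  refine ⟨g, ?_⟩
  have h4 : g * β * g⁻¹ ∈ (g • R : Sylow 2 H) := by
    have : g * β * g⁻¹ = MulAut.conj g β := rfl
    rw [this]
    exact Subgroup.smul_mem_pointwise_smul _ _ _ (hR (mem_zpowers β))
  rw [hg] at h4
  have h5 : g * β * g⁻¹ ∈ (Q : Subgroup P).map P.subtype := h4
  obtain ⟨x, -, hx⟩ := h5
  rw [← hx]
  exact x.2

end sylow

section rep

variable {G : Type u} [Group G] {ι : Type v} {V : Subgroup G} {R : ι → Subgroup G} {i j : ι} {k : Type w} [Field k]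
  {K : Subgroup G} {φ : K →* Matrix.SpecialLinearGroup (Fin 2) k} (kd : KD V R i j K φ)
include kd

/-- the automorphism of `K / W` induced by `h ∈ N(R i)` -/
noncomputable def th (h : NR R i) : MulAut (SLk k) :=
  (exists_aut kd.surj kd.ker (kd.NK h.2) (normalizer_le_WW V (R i) h.2)).choose

theorem th_spec (h : NR R i) (g g' : K) (e : (g' : G) = h * g * (h : G)⁻¹) : th kd h (φ g) = φ g' :=
  (exists_aut kd.surj kd.ker (kd.NK h.2) (normalizer_le_WW V (R i) h.2)).choose_spec g g' e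

theorem cK (h : NR R i) (g : K) : (h : G) * g * (h : G)⁻¹ ∈ K := conj_mem_of_normalizer (kd.NK h.2) g.2

/-- `θ : N(R i) → Aut (K / W)` -/
noncomputable def theta : NR R i →* MulAut (SLk k) :=
  MonoidHom.mk' (th kd) (by
    intro h h'
    apply MulEquiv.ext
    intro s
    obtain ⟨g, rfl⟩ := kd.surj s
    rw [MulAut.mul_apply, th_spec kd h' g ⟨_, cK kd h' g⟩ rfl,
      th_spec kd h ⟨_, cK kd h' g⟩ ⟨_, cK kd h ⟨_, cK kd h' g⟩⟩ rfl]
    apply th_spec
    push_cast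
    group)

theorem theta_spec (h : NR R i) (g g' : K) (e : (g' : G) = h * g * (h : G)⁻¹) : theta kd h (φ g) = φ g' :=
  th_spec kd h g g' e

/-- elements of `K` in `N(R i)` -/
def inN (g : K) : NR R i := ⟨g, kd.K_le_N g.2⟩

theorem theta_K (g : K) (s : SLk k) : theta kd (inN kd g) s = φ g * s * (φ g)⁻¹ := by
  obtain ⟨g', rfl⟩ := kd.surj s
  rw [theta_spec kd (inN kd g) g' (g * g' * g⁻¹) rfl, map_mul, map_mul, map_inv]

variable {M B : Type u} [AddCommGroup M] [AddCommGroup B] [DistribMulAction (NR R i) M]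
  [DistribMulAction (NR R i) B] {p : G → M} {r : G → B} {f : M →+ M →+ B}
  (m : ModFr V R i M B p r f) (b : BT V R)
include m b

theorem K_act {g g' : K} (h : φ g = φ g') (a : M) : inN kd g • a = inN kd g' • a := by
  have h1 : φ (g'⁻¹ * g) = 1 := by rw [map_mul, map_inv, h, inv_mul_cancel]
  have h2 := (kd.ker _).1 h1
  have h3 : inN kd g = inN kd g' * inN kd (g'⁻¹ * g) := Subtype.ext (by
    change (g : G) = g' * (g'⁻¹ * g : K)
    push_cast; group)
  rw [h3, mul_smul, m.W_act b (h := inN kd (g'⁻¹ * g)) h2]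

/-- `σ : SL₂(k) → End M` -/
noncomputable def sigma : SLk k →* AddMonoid.End M where
  toFun s := DistribSMul.toAddMonoidHom M (inN kd (Function.surjInv kd.surj s))
  map_one' := by
    apply AddMonoidHom.ext
    intro a
    change inN kd (Function.surjInv kd.surj 1) • a = a
    have h1 : φ (Function.surjInv kd.surj 1) = φ 1 := (Function.surjInv_eq kd.surj 1).trans (map_one φ).symm
    rw [K_act kd m b h1]
    exact one_smul _ a
  map_mul' s s' := by
    apply AddMonoidHom.ext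
    intro a
    change inN kd (Function.surjInv kd.surj (s * s')) • a =
      inN kd (Function.surjInv kd.surj s) • inN kd (Function.surjInv kd.surj s') • a
    have h1 : φ (Function.surjInv kd.surj (s * s')) =
        φ (Function.surjInv kd.surj s * Function.surjInv kd.surj s') := by
      rw [map_mul, Function.surjInv_eq kd.surj, Function.surjInv_eq kd.surj, Function.surjInv_eq kd.surj]
    rw [K_act kd m b h1, ← mul_smul]
    rfl

theorem sigma_act (g : K) (a : M) : sigma kd m b (φ g) a = inN kd g • a := by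
  change inN kd (Function.surjInv kd.surj (φ g)) • a = _
  exact K_act kd m b (Function.surjInv_eq _ _) a

theorem sigma_comp (h : NR R i) (s : SLk k) (a : M) :
    h • sigma kd m b s a = sigma kd m b (theta kd h s) (h • a) := by
  obtain ⟨g, rfl⟩ := kd.surj s
  rw [theta_spec kd h g ⟨_, cK kd h g⟩ rfl, sigma_act, sigma_act, ← mul_smul, ← mul_smul]
  congr 1
  apply Subtype.ext
  change (h : G) * g = (h * g * (h : G)⁻¹) * h
  group

theorem sigma_lift (s : SLk k) : ∃ g : NR R i, (∀ a : M, g • a = sigma kd m b s a) ∧ (∀ β : B, g • β = β) ∧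
    ∀ x, theta kd g x = s * x * s⁻¹ := by
  obtain ⟨g, rfl⟩ := kd.surj s
  refine ⟨inN kd g, fun a => (sigma_act kd m b g a).symm, fun β => m.act_B b ?_ β, fun x => theta_K kd g x⟩
  exact mem_centralizer_iff.2 fun a ha => (kd.KR g g.2 a ha).symm

/-- elements of `U j` -/
theorem exists_Uj (x : k) : ∃ a : NR R i, (a : G) ∈ UU V R j ∧ ∃ h : (a : G) ∈ K, φ ⟨a, h⟩ = up x := by
  obtain ⟨a, ha, h⟩ := kd.exists_U ((UU_le_cen j).trans (b.cen_le_NW i)) x
  exact ⟨⟨a, b.cen_le_N i (UU_le_cen j ha)⟩, ha, kd.UK ha, h _⟩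

end rep

section conf

variable {G : Type u} [Group G] {ι : Type v} {V : Subgroup G} {R : ι → Subgroup G} {i j : ι}
  {M B : Type u} [AddCommGroup M] [AddCommGroup B] [DistribMulAction (NR R i) M]
  [DistribMulAction (NR R i) B] {p : G → M} {r : G → B} {f : M →+ M →+ B}

/-- the exceptional configuration: `V` and `V^g` are different lines with `W A = W A^g` -/
structure XC (m : ModFr V R i M B p r f) (j : ι) (g : NR R i) : Prop where
  ij : i ≠ j
  eqA : cj (g : G) (WW V (R i) ⊔ UU V R j) = WW V (R i) ⊔ UU V R j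
  e0 : ∀ x ∈ m.sb V, g⁻¹ • x ∈ m.sb V → x = 0
  D0 : ∀ x ∈ m.sb (DD V R), g⁻¹ • x ∈ m.sb (DD V R) → x = 0
  ex1 : ∃ d ∈ m.sb (DD V R), g⁻¹ • d ∉ m.sb (UU V R i)
  ex2 : ∃ d, g⁻¹ • d ∈ m.sb (DD V R) ∧ d ∉ m.sb (UU V R i)

variable (m : ModFr V R i M B p r f)
include m

theorem inv_smul_p (g : NR R i) {x : G} (hx : x ∈ WW V (R i)) : g⁻¹ • p x = p ((g : G)⁻¹ * x * g) := by
  rw [m.p_act g⁻¹ x hx]
  congr 1
  push_cast
  group

theorem inv_smul_mem (b : BT V R) (g : NR R i) {X : Subgroup G} (hR : R i ≤ X) {x : G} (hx : x ∈ WW V (R i)) :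
    g⁻¹ • p x ∈ m.sb X ↔ x ∈ cj (g : G) X := by
  have _ := b
  rw [inv_smul_p m g hx, m.p_mem_iff (conj_inv_mem_of_normalizer (normalizer_le_WW V (R i) g.2) hx) hR]
  exact mem_cj.symm

/-- the exceptional configuration from the second alternative of LEMMA NA -/
theorem XC.of_alt [Finite G] (b : BTC V R) (hij : i ≠ j) (g : NR R i)
    (hA : cj (g : G) (WW V (R i) ⊔ UU V R j) = WW V (R i) ⊔ UU V R j)
    (h1 : V ⊓ cj (g : G) V ≤ R i) (h2 : DD V R ⊓ cj (g : G) (DD V R) ≤ R i)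
    (h3 : ¬ DD V R ≤ cj (g : G) (UU V R i)) (h4 : ¬ cj (g : G) (DD V R) ≤ UU V R i) : XC m j g where
  ij := hij
  eqA := hA
  e0 := by
    rintro _ ⟨x, hx, hxW, rfl⟩ h
    rw [inv_smul_mem m b.toBT g (b.R_le i) hxW] at h
    exact (m.p_ker x hxW).2 (h1 ⟨hx, h⟩)
  D0 := by
    rintro _ ⟨x, hx, hxW, rfl⟩ h
    rw [inv_smul_mem m b.toBT g ((b.R_le i).trans (V_le_D V R)) hxW] at h
    exact (m.p_ker x hxW).2 (h2 ⟨hx, h⟩)
  ex1 := by
    obtain ⟨d, hd, hd'⟩ := SetLike.not_le_iff_exists.1 h3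
    have hdW := D_le_W V R i hd
    refine ⟨p d, m.p_mem hdW hd, ?_⟩
    rw [inv_smul_mem m b.toBT g (b.R_le_U i) hdW]
    exact hd'
  ex2 := by
    obtain ⟨d, hd, hd'⟩ := SetLike.not_le_iff_exists.1 h4
    have hdW : d ∈ WW V (R i) := by
      have h5 := conj_mem_of_normalizer (normalizer_le_WW V (R i) g.2) (D_le_W V R i (mem_cj.1 hd))
      have e : (g : G) * ((g : G)⁻¹ * d * g) * (g : G)⁻¹ = d := by group
      rwa [e] at h5
    refine ⟨p d, ?_, ?_⟩
    · rw [inv_smul_mem m b.toBT g ((b.R_le i).trans (V_le_D V R)) hdW]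
      exact hd
    · rw [m.p_mem_iff hdW (b.R_le_U i)]
      exact hd'

omit m
variable {m : ModFr V R i M B p r f} {g : NR R i} (x : XC m j g) (b : BT V R)
include x b

/-- `A ∋ a = a'^g` on `M` -/
theorem XC.tr1 {a : NR R i} (ha : (a : G) ∈ UU V R j) :
    ∃ a' : NR R i, (a' : G) ∈ UU V R j ∧ ∀ q : M, a • q = g • a' • g⁻¹ • q := by
  have h1 : (a : G) ∈ cj (g : G) (WW V (R i) ⊔ UU V R j) := by
    rw [x.eqA]; exact (le_sup_right (a := WW V (R i)) ha)
  obtain ⟨w, hw, a', ha', e⟩ := exists_mul ((UU_le_cen j).trans (b.cen_le_NW i)) le_rfl (mem_cj.1 h1)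
  refine ⟨⟨a', b.cen_le_N i (UU_le_cen j ha')⟩, ha', fun q => ?_⟩
  have e2 : a = g * (⟨w, b.W_le_N i hw⟩ * ⟨a', b.cen_le_N i (UU_le_cen j ha')⟩ : NR R i) * g⁻¹ := Subtype.ext (by
    push_cast
    rw [← e]; group)
  rw [e2, mul_smul, mul_smul, mul_smul, m.W_act b (h := ⟨w, b.W_le_N i hw⟩) hw]

theorem XC.tr2 {a' : NR R i} (ha : (a' : G) ∈ UU V R j) :
    ∃ a : NR R i, (a : G) ∈ UU V R j ∧ ∀ q : M, g • a' • g⁻¹ • q = a • q := by
  have h1 : (g : G) * a' * (g : G)⁻¹ ∈ WW V (R i) ⊔ UU V R j := by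
    rw [← x.eqA]
    exact conj_mem_cj (le_sup_right (a := WW V (R i)) ha)
  obtain ⟨w, hw, a, ha', e⟩ := exists_mul ((UU_le_cen j).trans (b.cen_le_NW i)) le_rfl h1
  refine ⟨⟨a, b.cen_le_N i (UU_le_cen j ha')⟩, ha', fun q => ?_⟩
  have e2 : g * a' * g⁻¹ = (⟨w, b.W_le_N i hw⟩ * ⟨a, b.cen_le_N i (UU_le_cen j ha')⟩ : NR R i) := Subtype.ext (by
    push_cast
    rw [← e])
  rw [← mul_smul, ← mul_smul, e2, mul_smul, m.W_act b (h := ⟨w, b.W_le_N i hw⟩) hw]

/-- `A` centralises `e^g` -/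
theorem XC.fix_b {a : NR R i} (ha : (a : G) ∈ UU V R j) {q : M} (hq : g⁻¹ • q ∈ m.sb V) : a • q = q := by
  obtain ⟨a', ha', h⟩ := x.tr1 b ha
  rw [h, m.cen_e b (UU_le_cen j ha') hq, smul_inv_smul]

theorem XC.fix_e {a : NR R i} (ha : (a : G) ∈ UU V R j) {q : M} (hq : q ∈ m.sb V) : a • q = q := by
  have _ := x
  exact m.cen_e b (UU_le_cen j ha) hq

theorem XC.D_b {a : NR R i} (ha : (a : G) ∈ UU V R j) {q : M} (hq : g⁻¹ • q ∈ m.sb (DD V R)) :
    g⁻¹ • (a • q - q) ∈ m.sb V := by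
  obtain ⟨a', ha', h⟩ := x.tr1 b ha
  rw [h, smul_sub, inv_smul_smul]
  exact m.A_D b ha' hq

theorem XC.M_b {a : NR R i} (ha : (a : G) ∈ UU V R j) (q : M) : g⁻¹ • (a • q - q) ∈ m.sb (UU V R i) := by
  obtain ⟨a', ha', h⟩ := x.tr1 b ha
  rw [h, smul_sub, inv_smul_smul]
  exact m.A_M b ha' _

/-- `e^⊥ = e^g + D` -/
theorem XC.P_eq [Finite G] {q : M} (hq : q ∈ m.sb (UU V R i)) :
    ∃ ε d : M, q = ε + d ∧ g⁻¹ • ε ∈ m.sb V ∧ d ∈ m.sb (DD V R) := by
  obtain ⟨d, hd, hd'⟩ := x.ex2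
  obtain ⟨h, hh, h1⟩ := m.A_surj b x.ij hd' hq
  refine ⟨h • d - d, -(h • d - d - q), by abel, x.D_b b hh hd, neg_mem h1⟩

/-- `(e^g)^⊥ = e + D^g` -/
theorem XC.Pb_eq [Finite G] {q : M} (hq : g⁻¹ • q ∈ m.sb (UU V R i)) :
    ∃ ε d : M, q = ε + d ∧ ε ∈ m.sb V ∧ g⁻¹ • d ∈ m.sb (DD V R) := by
  obtain ⟨d, hd, hd'⟩ := x.ex1
  obtain ⟨h, hh, h1⟩ := m.A_surj b x.ij hd' hq
  obtain ⟨a, ha, h2⟩ := x.tr2 b hh
  refine ⟨a • d - d, q - (a • d - d), by abel, m.A_D b ha hd, ?_⟩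
  have e : g⁻¹ • (q - (a • d - d)) = -(h • g⁻¹ • d - g⁻¹ • d - g⁻¹ • q) := by
    rw [← h2, smul_sub, smul_sub, inv_smul_smul]; abel
  rw [e]
  exact neg_mem h1

/-- `[M, A, A] = 0` -/
theorem XC.quad [Finite G] {a a' : NR R i} (ha : (a : G) ∈ UU V R j) (ha' : (a' : G) ∈ UU V R j) (q : M) :
    a' • (a • q - q) = a • q - q := by
  obtain ⟨ε, d, h, h1, h2⟩ := x.P_eq b (m.A_M b ha q)
  obtain ⟨ε', d', h', h1', h2'⟩ := x.Pb_eq b (x.M_b b ha q)
  set q0 := a • q - q
  have k1 : a' • q0 - q0 ∈ m.sb V := by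
    rw [h, smul_add, x.fix_b b ha' h1]
    have e : ε + a' • d - (ε + d) = a' • d - d := by abel
    rw [e]
    exact m.A_D b ha' h2
  have k2 : g⁻¹ • (a' • q0 - q0) ∈ m.sb V := by
    rw [h', smul_add, x.fix_e b ha' h1']
    have e : ε' + a' • d' - (ε' + d') = a' • d' - d' := by abel
    rw [e]
    exact x.D_b b ha' h2'
  exact sub_eq_zero.1 (x.e0 _ k1 k2)

end conf

section inst

/-- a unipotent element of `N(V)` fixing `R i` and `V / R i` lies in `W i C(V)` -/
theorem exists_W {G : Type u} [Group G] {ι : Type v} {V : Subgroup G} {R : ι → Subgroup G} (b : BT V R) {i : ι} {g : G}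
    (hg : g ∈ normalizer (V : Set G)) (hR : ∀ a ∈ R i, g * a * g⁻¹ = a) (hV : ∀ x ∈ V, g * x * g⁻¹ * x⁻¹ ∈ R i) :
    ∃ w ∈ WW V (R i), w⁻¹ * g ∈ centralizer (V : Set G) := by
  obtain ⟨j, hj, -⟩ := b.third i i
  obtain ⟨k, hk⟩ := b.perm g hg j
  have hgR : cj g (R i) = R i := by
    apply le_antisymm
    · rintro _ ⟨a, ha, rfl⟩
      change g * a * g⁻¹ ∈ R i
      rw [hR a ha]; exact ha
    · intro a ha
      refine ⟨a, ha, ?_⟩
      change g * a * g⁻¹ = a
      exact hR a ha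
  have hki : k ≠ i := by
    rintro rfl
    rw [← hgR] at hk
    exact hj (b.R_index (cj_injective hk))
  obtain ⟨w, hw, h1⟩ := b.trans i hj hki
  refine ⟨w, hw, ?_⟩
  have hwc : ∀ a ∈ R i, w⁻¹ * a * w = a := by
    intro a ha
    have h2 := b.QR i w (b.W_le_Q i hw) a ha
    rw [mul_assoc, ← h2]; group
  have hwV : w ∈ normalizer (V : Set G) := b.W_le_NV i hw
  have hci : ∀ a ∈ R i, (w⁻¹ * g) * a * (w⁻¹ * g)⁻¹ = a := by
    intro a ha
    have e : (w⁻¹ * g) * a * (w⁻¹ * g)⁻¹ = w⁻¹ * (g * a * g⁻¹) * w := by group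
    rw [e, hR a ha, hwc a ha]
  have hcj : ∀ a ∈ R j, (w⁻¹ * g) * a * (w⁻¹ * g)⁻¹ = a := by
    intro a ha
    have h2 : (w⁻¹ * g) * a * (w⁻¹ * g)⁻¹ * a⁻¹ ∈ R i := by
      have e : (w⁻¹ * g) * a * (w⁻¹ * g)⁻¹ * a⁻¹ =
          (w⁻¹ * (g * a * g⁻¹ * a⁻¹) * w) * (w⁻¹ * a * w⁻¹⁻¹ * a⁻¹) := by group
      rw [e]
      have h3 := hV a (b.R_le j ha)
      rw [hwc _ h3]
      refine mul_mem h3 (b.QV i w⁻¹ (inv_mem (b.W_le_Q i hw)) a (b.R_le j ha))
    have h3 : (w⁻¹ * g) * a * (w⁻¹ * g)⁻¹ ∈ R j := by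
      have h4 : g * a * g⁻¹ ∈ cj w (R j) := by
        rw [h1, ← hk]; exact conj_mem_cj ha
      have h5 := mem_cj.1 h4
      have e : (w⁻¹ * g) * a * (w⁻¹ * g)⁻¹ = w⁻¹ * (g * a * g⁻¹) * w := by group
      rw [e]; exact h5
    have h4 := b.eq_one (Ne.symm hj) h2 (mul_mem h3 (inv_mem ha))
    rwa [mul_inv_eq_one] at h4
  rw [mem_centralizer_iff]
  intro q hq
  obtain ⟨a, ha, a', ha', rfl⟩ := b.exists_mul (Ne.symm hj) hq
  have h5 : (w⁻¹ * g) * (a * a') * (w⁻¹ * g)⁻¹ = a * a' := by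
    have e : (w⁻¹ * g) * (a * a') * (w⁻¹ * g)⁻¹ =
        ((w⁻¹ * g) * a * (w⁻¹ * g)⁻¹) * ((w⁻¹ * g) * a' * (w⁻¹ * g)⁻¹) := by group
    rw [e, hci a ha, hcj a' ha']
  rw [mul_inv_eq_iff_eq_mul] at h5
  exact h5.symm

end inst

section core

variable {G : Type u} [Group G] {ι : Type v} {V : Subgroup G} {R : ι → Subgroup G} {i j : ι} {k : Type w} [Field k]
  {K : Subgroup G} {φ : K →* Matrix.SpecialLinearGroup (Fin 2) k} (kd : KD V R i j K φ)
  {M B : Type u} [AddCommGroup M] [AddCommGroup B] [DistribMulAction (NR R i) M]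
  [DistribMulAction (NR R i) B] {p : G → M} {r : G → B} {f : M →+ M →+ B} (m : ModFr V R i M B p r f)
include kd m

section

variable (b : BT V R)
include b

/-- the action of `U j` through `σ` -/
theorem Uj_act {a : NR R i} (ha : (a : G) ∈ UU V R j) : ∃ x : k, φ ⟨a, kd.UK ha⟩ = up x ∧
    ∀ q : M, sigma kd m b (up x) q = a • q := by
  obtain ⟨x, hx⟩ := kd.exists_up ⟨a, kd.UK ha⟩ (le_sup_right (a := WW V (R i)) ha)
  refine ⟨x, hx, fun q => ?_⟩
  rw [← hx, sigma_act]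
  rfl

theorem up_act (x : k) : ∃ a : NR R i, ∃ ha : (a : G) ∈ UU V R j, φ ⟨a, kd.UK ha⟩ = up x ∧
    ∀ q : M, sigma kd m b (up x) q = a • q := by
  obtain ⟨a, ha, h, e⟩ := exists_Uj kd m b x
  refine ⟨a, ha, e, fun q => ?_⟩
  rw [← e, sigma_act]
  rfl

theorem mem_EE_iff {q : M} : q ∈ EE (sigma kd m b) ↔ ∀ a : NR R i, (a : G) ∈ UU V R j → a • q = q := by
  constructor
  · intro h a ha
    obtain ⟨x, -, hx⟩ := Uj_act kd m b ha
    rw [← hx, h]
  · intro h x
    obtain ⟨a, ha, -, hx⟩ := up_act kd m b x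
    rw [hx, h a ha]

/-- elements of `W i ⊔ U j` act as elements of `U j` -/
theorem S_act {a : NR R i} (ha : (a : G) ∈ WW V (R i) ⊔ UU V R j) : ∃ a' : NR R i, (a' : G) ∈ UU V R j ∧
    ∀ q : M, a • q = a' • q := by
  obtain ⟨w, hw, a', ha', e⟩ := exists_mul ((UU_le_cen j).trans (b.cen_le_NW i)) le_rfl ha
  refine ⟨⟨a', b.cen_le_N i (UU_le_cen j ha')⟩, ha', fun q => ?_⟩
  have e2 : a = ⟨w, b.W_le_N i hw⟩ * ⟨a', b.cen_le_N i (UU_le_cen j ha')⟩ := Subtype.ext e
  rw [e2, mul_smul, m.W_act b (h := ⟨w, b.W_le_N i hw⟩) hw]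

theorem not_D {a : NR R i} (ha : (a : G) ∈ UU V R j) {x : k} (hx : x ≠ 0) (h : φ ⟨a, kd.UK ha⟩ = up x) :
    (a : G) ∉ DD V R := by
  have _ := b
  have _ := m
  intro hD
  have h1 := (kd.ker ⟨a, kd.UK ha⟩).2 (D_le_W V R i hD)
  rw [h] at h1
  apply hx
  exact up_inj (h1.trans up_zero.symm)

end

section

variable {F : Type z} [Field F] [CharP F 2] {v : F → F → G} {w1 w2 : F → G} {N : Type u} [AddCommGroup N]
  [Module F N] {P1 P2 : G → N} [Finite G] (b : BTC V R) (c : Coord V R i j v w1 w2)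
  (y : YPair V R i j w1 w2 N P1 P2) {g : NR R i} (x : XC m j g)
include b c y x

/-- regularity -/
theorem reg_of (hN : Module.finrank F N = 1) {a : NR R i} (ha : (a : G) ∈ UU V R j) (haD : (a : G) ∉ DD V R) {q : M}
    (hq : a • q = q) : q ∈ EE (sigma kd m b.toBT) := by
  have hqP : q ∈ m.sb (UU V R i) := by
    by_contra hc
    exact haD (m.A_inj b.toBT x.ij ha hc (by rw [hq, sub_self]; exact zero_mem _))
  obtain ⟨ε, d, rfl, hε, hd⟩ := x.P_eq b.toBT hqP
  rw [smul_add, x.fix_b b.toBT ha hε] at hq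
  have hd1 : a • d = d := add_left_cancel hq
  rw [mem_EE_iff]
  obtain ⟨d', hd', hd'W, rfl⟩ := hd
  have h1 := m.A_lam c b.toBT y ha hd'
  rw [hd1, sub_self] at h1
  have h2 : y.lam b.toBT c d' (P2 (a : G)) = 0 := m.eF_inj c b.toBT (by rw [← h1, map_zero])
  have hP2 : P2 (a : G) ≠ 0 := by
    intro h
    apply haD
    rw [y.mem_D _ (UU_le_YY j ha)]
    exact ⟨(y.mem_U2 _ (UU_le_YY j ha)).1 ha, h⟩
  have h3 : ∀ n : N, y.lam b.toBT c d' n = 0 := by
    intro n
    obtain ⟨s, rfl⟩ := (finrank_eq_one_iff_of_nonzero' _ hP2).1 hN n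
    rw [map_smul, h2, smul_zero]
  intro a' ha'
  have h4 := m.A_lam c b.toBT y ha' hd'
  rw [h3, map_zero, sub_eq_zero] at h4
  rw [smul_add, x.fix_b b.toBT ha' hε, h4]

omit c y in
/-- `E ≤ e^⊥` -/
theorem EE_le_P (hA : ¬ UU V R j ≤ DD V R) : EE (sigma kd m b.toBT) ≤ m.sb (UU V R i) := by
  intro q hq
  rw [mem_EE_iff] at hq
  exact m.C_A b.toBT x.ij hA hq

omit c y in
/-- `C_M(K) = 0` -/
theorem cen_of (hC : centralizer (WW V (R i) : Set G) ≤ R i) (hA : ¬ UU V R j ≤ DD V R) {q : M}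
    (hq : ∀ s, sigma kd m b.toBT s q = q) : q = 0 := by
  let S : AddSubgroup M :=
    { carrier := {z | ∀ q, (∀ s, sigma kd m b.toBT s q = q) → f q z = 0}
      zero_mem' := fun q _ => map_zero _
      add_mem' := fun {z z'} h h' q hq => by rw [map_add, h q hq, h' q hq, add_zero]
      neg_mem' := fun {z} h q hq => by rw [map_neg, h q hq, neg_zero] }
  have hS : S = ⊤ := by
    apply m.gen
    · intro h z hz q hq
      have h1 : ∀ s, sigma kd m b.toBT s (h⁻¹ • q) = h⁻¹ • q := by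
        intro s
        have h2 := sigma_comp kd m b.toBT h⁻¹ (theta kd h s) q
        rw [hq] at h2
        have h3 : theta kd h⁻¹ (theta kd h s) = s := by
          have : (theta kd h⁻¹ * theta kd h) s = s := by rw [← map_mul, inv_mul_cancel, map_one]; rfl
          exact this
        rw [h3] at h2
        exact h2.symm
      have h2 := m.f_act b.toBT h (h⁻¹ • q) z
      rw [smul_inv_smul, hz _ h1, smul_zero] at h2
      exact h2
    · intro z hz q hq
      have h1 : q ∈ m.sb (UU V R i) := EE_le_P kd m b x hA (fun x => hq _)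
      exact (m.perp_iff b.toBT q).2 h1 z hz
  apply m.rad b hC
  intro z
  have h1 : z ∈ S := by rw [hS]; exact AddSubgroup.mem_top z
  exact h1 q hq

end

end core

section final

variable {G : Type u} [Group G] [Finite G] {ι : Type v} {V : Subgroup G} {R : ι → Subgroup G} {i j : ι}
  {k : Type w} [Field k] {K : Subgroup G} {φ : K →* Matrix.SpecialLinearGroup (Fin 2) k}
  {F : Type z} [Field F] [Finite F] [CharP F 2] {v : F → F → G} {w1 w2 : F → G}

/-- the number of elements of `k` is `|U j : D|` -/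
theorem card_k (b : BTC V R) (kd : KD V R i j K φ) : (DD V R).relIndex (UU V R j) = Nat.card k := by
  let f : UU V R j →* SLk k := φ.comp (inclusion kd.UK)
  have hker : f.ker = (DD V R).subgroupOf (UU V R j) := by
    ext u
    rw [MonoidHom.mem_ker, mem_subgroupOf]
    change φ ⟨(u : G), kd.UK u.2⟩ = 1 ↔ _
    rw [kd.ker, b.D_eq' kd.ne, mem_inf]
    exact ⟨fun h => ⟨h, UU_le_WW j u.2⟩, fun h => h.1⟩
  have hrange : f.range = Lib.AutSL2.upG k := by
    ext A
    constructor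
    · rintro ⟨u, rfl⟩
      obtain ⟨x, hx⟩ := kd.exists_up ⟨u, kd.UK u.2⟩ (le_sup_right (a := WW V (R i)) u.2)
      exact ⟨x, hx.symm⟩
    · rintro ⟨x, rfl⟩
      obtain ⟨a, ha, h⟩ := kd.exists_U ((UU_le_cen j).trans (b.cen_le_NW i)) x
      exact ⟨⟨a, ha⟩, h _⟩
  have h1 : (DD V R).relIndex (UU V R j) = f.ker.index := by rw [hker]; rfl
  rw [h1, index_ker, hrange]
  refine (Nat.card_eq_of_bijective (fun x : k => (⟨up x, ⟨x, rfl⟩⟩ : Lib.AutSL2.upG k)) ⟨?_, ?_⟩).symm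
  · intro x y h
    exact up_inj (congrArg Subtype.val h)
  · rintro ⟨_, x, rfl⟩
    exact ⟨x, rfl⟩

/-- `|V / R i| = |F|` -/
theorem card_e (b : BTC V R) (c : Coord V R i j v w1 w2) : (R i).relIndex V = Nat.card F := by
  obtain ⟨M, B, _, _, _, _, p, r, f, m⟩ := b.toBT.exists_mod i
  rw [← m.card_sb (V_le_WW V (R i))]
  refine (Nat.card_eq_of_bijective (fun γ : F => (⟨m.eF c b.toBT γ, (m.mem_e c b.toBT).2 ⟨γ, rfl⟩⟩ : m.sb V))
    ⟨?_, ?_⟩).symm
  · intro γ γ' h
    exact m.eF_inj c b.toBT (congrArg Subtype.val h)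
  · rintro ⟨a, ha⟩
    obtain ⟨γ, rfl⟩ := (m.mem_e c b.toBT).1 ha
    exact ⟨γ, rfl⟩

/-- products of torus elements act trivially on `E` -/
theorem tr_mul_mem (b : BTC V R) (c : Coord V R i j v w1 w2) {N : Type u} [AddCommGroup N] [Module F N]
    {P1 P2 : G → N} (y : YPair V R i j w1 w2 N P1 P2) (a a' : Fˣ) :
    hh w1 w2 (a : F) * hh w1 w2 (a' : F) * (hh w1 w2 ((a * a' : Fˣ) : F))⁻¹ ∈ YY V R := by
  rw [← y.cen_X_V c b]
  refine mem_inf.2 ⟨mul_mem (mul_mem (c.hh_mem_X b.toBT _) (c.hh_mem_X b.toBT _)) (inv_mem (c.hh_mem_X b.toBT _)),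
    mem_centralizer_iff.2 fun q hq => ?_⟩
  obtain ⟨β, γ, rfl⟩ := (c.mem_V q).1 hq
  have e : hh w1 w2 (a : F) * hh w1 w2 (a' : F) * (hh w1 w2 ((a * a' : Fˣ) : F))⁻¹ * v β γ *
      (hh w1 w2 (a : F) * hh w1 w2 (a' : F) * (hh w1 w2 ((a * a' : Fˣ) : F))⁻¹)⁻¹ =
      hh w1 w2 (a : F) * (hh w1 w2 (a' : F) * ((hh w1 w2 ((a * a' : Fˣ) : F))⁻¹ * v β γ *
        hh w1 w2 ((a * a' : Fˣ) : F)) * (hh w1 w2 (a' : F))⁻¹) * (hh w1 w2 (a : F))⁻¹ := by group
  have h1 : hh w1 w2 (a : F) * hh w1 w2 (a' : F) * (hh w1 w2 ((a * a' : Fˣ) : F))⁻¹ * v β γ *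
      (hh w1 w2 (a : F) * hh w1 w2 (a' : F) * (hh w1 w2 ((a * a' : Fˣ) : F))⁻¹)⁻¹ = v β γ := by
    rw [e, c.hh_act_inv (a * a').ne_zero, c.hh_act a'.ne_zero, c.hh_act a.ne_zero]
    congr 1
    · push_cast; field_simp
    · push_cast; field_simp
  rw [mul_inv_eq_iff_eq_mul] at h1
  exact h1.symm

/-- **the exceptional case of LEMMA NA** -/
theorem XC.false (b : BTC V R) (hC : centralizer (WW V (R i) : Set G) ≤ R i) (c : Coord V R i j v w1 w2)
    (kd : KD V R i j K φ) (hF : 4 ≤ Nat.card F)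
    (hS : Odd ((normalizer (V : Set G) ⊓ normalizer (R i : Set G)).relIndex (normalizer (R i : Set G))))
    {M B : Type u} [AddCommGroup M] [AddCommGroup B] [DistribMulAction (NR R i) M]
    [DistribMulAction (NR R i) B] {p : G → M} {r : G → B} {f : M →+ M →+ B} (m : ModFr V R i M B p r f)
    {g : NR R i} (x : XC m j g) (hcard : (DD V R).relIndex (UU V R i) ≤ (R i).relIndex V) : False := by
  have hfk := kd.finite
  have hchk := kd.charP b
  obtain ⟨N, _, _, P1, P2, y⟩ := c.exists_yPair b.toBT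
  have hNF : Nat.card N ≤ Nat.card F := by rw [← y.index_D_U, ← card_e b c]; exact hcard
  have hNk : Nat.card N = Nat.card k := by rw [← card_k b kd, ← b.card_U i j, y.index_D_U]
  have hfN := y.finite_M
  have hk1 : 1 < Nat.card k := Finite.one_lt_card
  have hrank : Module.finrank F N = 1 := by
    have h1 := y.card_M
    have hF1 : 1 < Nat.card F := by omega
    have h2 : Module.finrank F N ≠ 0 := by
      intro h
      rw [h, pow_zero] at h1
      omega
    have h3 : ¬ 2 ≤ Module.finrank F N := by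
      intro h
      have h4 : Nat.card F ^ 2 ≤ Nat.card F ^ Module.finrank F N := Nat.pow_le_pow_right (by omega) h
      rw [← h1] at h4
      have h5 : Nat.card F < Nat.card F ^ 2 := by nlinarith
      omega
    omega
  have hFk : Nat.card F = Nat.card k := by
    rw [← hNk, y.card_M, hrank, pow_one]
  have hA : ¬ UU V R j ≤ DD V R := by
    intro h
    obtain ⟨a, ha, h1, -⟩ := up_act kd m b.toBT (1 : k)
    exact not_D kd m b.toBT ha one_ne_zero h1 (h ha)
  obtain ⟨ω, hω1, hω2, hω3, hω4, -⟩ := m.exists_omega c b.toBT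
  -- representatives of the elements of `A`
  choose A hAU hAφ hAact using up_act kd m b.toBT
  have hP2 : ∀ (a : NR R i) (ha : (a : G) ∈ UU V R j) (t : k), φ ⟨a, kd.UK ha⟩ = up t →
      P2 (a : G) = P2 (A t : G) := by
    intro a ha t h
    have h1 : (A t : G)⁻¹ * a ∈ WW V (R i) := by
      have h2 : φ ((⟨(A t : G), kd.UK (hAU t)⟩ : K)⁻¹ * ⟨a, kd.UK ha⟩) = 1 := by
        rw [map_mul, map_inv, h, hAφ, inv_mul_cancel]
      exact (kd.ker _).1 h2
    have h2 : (A t : G)⁻¹ * a ∈ DD V R := by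
      rw [b.D_eq' kd.ne]
      exact mem_inf.2 ⟨h1, UU_le_WW j (mul_mem (inv_mem (hAU t)) ha)⟩
    exact ((y.eq_iff (UU_le_YY j ha) (UU_le_YY j (hAU t))).1 h2).2
  have hPinj : ∀ t t' : k, P2 (A t : G) = P2 (A t' : G) → t = t' := by
    intro t t' h
    have h1 : (A t' : G)⁻¹ * A t ∈ DD V R := by
      refine (y.eq_iff (UU_le_YY j (hAU t)) (UU_le_YY j (hAU t'))).2 ⟨?_, h⟩
      rw [(y.mem_U2 _ (UU_le_YY j (hAU t))).1 (hAU t), (y.mem_U2 _ (UU_le_YY j (hAU t'))).1 (hAU t')]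
    have h2 : φ ((⟨(A t' : G), kd.UK (hAU t')⟩ : K)⁻¹ * ⟨A t, kd.UK (hAU t)⟩) = 1 :=
      (kd.ker _).2 (D_le_W V R i h1)
    rw [map_mul, map_inv, hAφ, hAφ, inv_mul_eq_one] at h2
    exact (up_inj h2).symm
  have htU : ∀ (a : Fˣ) (q : G), q ∈ UU V R j → hh w1 w2 (a : F) * q * (hh w1 w2 (a : F))⁻¹ ∈ UU V R j := by
    intro a q hq
    rw [← b.cj_UU (b.X_le_NV (c.hh_mem_X b.toBT _)) (c.hh_R2 b.toBT a.ne_zero)]
    exact conj_mem_cj hq
  -- `N(V)` in `N(R i)`
  let HV : Subgroup (NR R i) := (normalizer (V : Set G)).subgroupOf (NR R i)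
  have hHV : ∀ h : NR R i, h ∈ HV ↔ (h : G) ∈ normalizer (V : Set G) := fun h => Iff.rfl
  have hodd : Odd HV.index := by
    have h1 : HV.index = (normalizer (V : Set G) ⊓ normalizer (R i : Set G)).relIndex (normalizer (R i : Set G)) := by
      rw [inf_relIndex_right]; rfl
    rw [h1]; exact hS
  have hYg : HV ≤ Yg (theta kd) := by
    intro h hh
    apply mem_Yg_of
    intro t
    have h1 := kd.S_normal b h.2 hh
    have h2 : (h : G) * (A t : G) * (h : G)⁻¹ ∈ WW V (R i) ⊔ UU V R j := by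
      rw [← h1]
      exact conj_mem_cj (le_sup_right (a := WW V (R i)) (hAU t))
    obtain ⟨t', ht'⟩ := kd.exists_up ⟨_, kd.S_le h2⟩ h2
    refine ⟨t', ?_⟩
    rw [← hAφ t, ← ht']
    exact theta_spec kd h _ _ rfl
  have hgYg : g ∈ Yg (theta kd) := by
    apply mem_Yg_of
    intro t
    have h2 : (g : G) * (A t : G) * (g : G)⁻¹ ∈ WW V (R i) ⊔ UU V R j := by
      rw [← x.eqA]
      exact conj_mem_cj (le_sup_right (a := WW V (R i)) (hAU t))
    obtain ⟨t', ht'⟩ := kd.exists_up ⟨_, kd.S_le h2⟩ h2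
    refine ⟨t', ?_⟩
    rw [← hAφ t, ← ht']
    exact theta_spec kd g _ _ rfl
  have hEeq : ∀ q ∈ EE (sigma kd m b.toBT), ∃ ε ∈ m.sb V, ∃ ε' ∈ m.sb V, q = ε + g • ε' := by
    intro q hq
    obtain ⟨ε, d, h, hε, hd⟩ := x.P_eq b.toBT (EE_le_P kd m b x hA hq)
    refine ⟨d, ?_, g⁻¹ • ε, hε, by rw [h, smul_inv_smul, add_comm]⟩
    refine m.C_A_D b x.ij hd fun a ha => ?_
    have h1 := (mem_EE_iff kd m b.toBT).1 hq a ha
    rw [h, smul_add, x.fix_b b.toBT ha hε] at h1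
    exact add_left_cancel h1
  have core : Core (theta kd) (sigma kd m b.toBT) f (m.sb V) (m.sb (DD V R)) (m.sb (UU V R i)) ω
      (fun a : Fˣ => ModFr.tr c b.toBT a) (fun t => P2 (A t : G)) HV :=
    { two := m.two_M b.toBT
      quad := fun t q => by
        rw [mem_EE_iff]
        intro a ha
        rw [hAact t]
        exact x.quad b.toBT (hAU t) ha q
      reg := fun t ht q hq => by
        rw [hAact t] at hq
        exact reg_of kd m b c y x hrank (hAU t) (not_D kd m b.toBT (hAU t) ht (hAφ t)) hq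
      cen := fun q hq => cen_of kd m b x hC hA hq
      comp := sigma_comp kd m b.toBT
      lift := sigma_lift kd m b.toBT
      f_act := m.f_act b.toBT
      f_symm := m.f_symm b.toBT
      eE := fun q hq => by
        rw [mem_EE_iff]
        exact fun a ha => x.fix_e b.toBT ha hq
      eD := m.sb_mono (V_le_D V R)
      DP := m.sb_mono (b.D_le_U i)
      ND := fun d hd t => by
        unfold NN
        rw [hAact t]
        exact m.A_D b.toBT (hAU t) hd
      exD := by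
        obtain ⟨d, hd, hd'⟩ := x.ex1
        refine ⟨d, hd, fun h => hd' ?_⟩
        apply m.C_A b.toBT x.ij hA
        intro a ha
        obtain ⟨a', ha', h1⟩ := x.tr2 b.toBT ha
        have h2 := h1 d
        rw [(mem_EE_iff kd m b.toBT).1 h a' ha'] at h2
        have h3 := congrArg (fun q => g⁻¹ • q) h2
        simpa using h3
      card_e := by rw [m.card_sb (V_le_WW V (R i)), card_e b c, hFk]
      NP := fun q hq h => by
        unfold NN at h
        rw [hAact 1] at h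
        exact not_D kd m b.toBT (hAU 1) one_ne_zero (hAφ 1) (m.A_inj b.toBT x.ij (hAU 1) hq h)
      ω_ker := hω2
      ω_ne := by
        obtain ⟨q, hq⟩ := hω1 1
        exact ⟨q, by rw [hq]; exact one_ne_zero⟩
      ω_t := hω4
      tD := fun a d hd => m.T_D c b.toBT a hd
      fP := fun q hq => (m.perp_iff b.toBT q).2 hq
      f_surj := fun ε hε hne β => by
        obtain ⟨γ, rfl⟩ := (m.mem_e c b.toBT).1 hε
        have hγ : γ ≠ 0 := by
          rintro rfl
          exact hne (map_zero _)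
        obtain ⟨β', rfl⟩ := (m.bF_bij c b.toBT).2 β
        obtain ⟨q, hq⟩ := hω1 (β' * γ⁻¹)
        refine ⟨q, ?_⟩
        rw [hω3, hq, inv_mul_cancel_right₀ hγ]
      n_inj := fun t t' h => hPinj t t' h
      n_add := fun t t' => by
        have h1 : (A t : G) * A t' ∈ UU V R j := mul_mem (hAU t) (hAU t')
        have h2 := hP2 (A t * A t') h1 (t + t') (by
          rw [← up_mul, ← hAφ t, ← hAφ t', ← map_mul]; rfl)
        rw [← h2]
        exact y.mul2 _ (UU_le_YY j (hAU t)) _ (UU_le_YY j (hAU t'))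
      t_up := fun a t => by
        have h1 := htU a _ (hAU t)
        obtain ⟨t', ht'⟩ := kd.exists_up ⟨_, kd.UK h1⟩ (le_sup_right (a := WW V (R i)) h1)
        refine ⟨t', ?_, ?_⟩
        · rw [← hAφ t, ← ht']
          exact theta_spec kd _ _ _ rfl
        · have h2 := hP2 (ModFr.tr c b.toBT a * A t * (ModFr.tr c b.toBT a)⁻¹) h1 t' ht'
          rw [← h2]
          exact (y.hh1 b.toBT c a.ne_zero (UU_le_YY j (hAU t))).2
      t_mul := fun a a' q hq => by
        have h1 := tr_mul_mem b c y a a'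
        have h2 : (ModFr.tr c b.toBT a * ModFr.tr c b.toBT a' * (ModFr.tr c b.toBT (a * a'))⁻¹ : NR R i).1 ∈
            WW V (R i) ⊔ UU V R j := by
          rw [kd.S_eq b]
          exact le_sup_right (a := WW V (R i)) h1
        obtain ⟨a'', ha'', h3⟩ := S_act kd m b.toBT h2
        have hq' : ModFr.tr c b.toBT (a * a') • q ∈ EE (sigma kd m b.toBT) := by
          rw [mem_EE_iff] at hq ⊢
          intro a3 ha3
          have h4 := htU (a * a')⁻¹ _ ha3
          have h5 := htU (a * a') _ ha3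
          -- `a3 t = t (t⁻¹ a3 t)`
          have h6 : (hh w1 w2 ((a * a' : Fˣ) : F))⁻¹ * a3 * hh w1 w2 ((a * a' : Fˣ) : F) ∈ UU V R j := by
            have h7 : (a3 : G) ∈ cj (hh w1 w2 ((a * a' : Fˣ) : F)) (UU V R j) := by
              rw [b.cj_UU (b.X_le_NV (c.hh_mem_X b.toBT _)) (c.hh_R2 b.toBT (a * a').ne_zero)]
              exact ha3
            exact mem_cj.1 h7
          have h8 := hq ((ModFr.tr c b.toBT (a * a'))⁻¹ * a3 * ModFr.tr c b.toBT (a * a')) h6
          rw [mul_smul, mul_smul, inv_smul_eq_iff] at h8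
          exact h8
        have h4 := h3 (ModFr.tr c b.toBT (a * a') • q)
        rw [(mem_EE_iff kd m b.toBT).1 hq' a'' ha'', mul_smul, mul_smul, inv_smul_smul] at h4
        exact h4
      card_F := hFk
      exF := by
        obtain ⟨a, ha, ha1⟩ := Hex.exists_ne_one hF
        exact ⟨Units.mk0 a ha, fun h => ha1 (congrArg Units.val h)⟩
      g0 := ⟨g, hgYg, fun ε hε h => by
        have h1 := x.e0 (g • ε) h (by rw [inv_smul_smul]; exact hε)
        exact (smul_eq_zero_iff_eq g).1 h1, hEeq⟩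
      HVe := fun h hh ε hε => m.sb_smul hh hε
      syl1 := fun β n hβ => exists_conj_of_odd hodd hβ
      syl2 := fun β hβ n hn => by
        have h1 : Odd (HV.subgroupOf (Yg (theta kd))).index := by
          have h2 := relIndex_mul_index hYg
          rw [← h2] at hodd
          exact Nat.Odd.of_mul_left hodd
        obtain ⟨z, hz⟩ := exists_conj_of_odd h1 (β := ⟨β, hβ⟩) (n := n) (Subtype.ext hn)
        exact ⟨z, z.2, hz⟩
      tors := fun j0 hj0 hθ hB he => by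
        have hR : ∀ a ∈ R i, (j0 : G) * a * (j0 : G)⁻¹ = a := by
          intro a ha
          have h1 := hB (r a)
          rw [m.r_act j0 a ha] at h1
          exact m.r_inj (conj_mem_of_normalizer j0.2 ha) ha h1
        have hV : ∀ q ∈ V, (j0 : G) * q * (j0 : G)⁻¹ * q⁻¹ ∈ R i := by
          intro q hq
          have hqW := V_le_WW V (R i) hq
          have h1 := he (p q) (m.p_mem hqW hq)
          rw [m.p_act j0 q hqW, m.p_eq_iff (conj_mem_of_normalizer (normalizer_le_WW V (R i) j0.2) hqW) hqW] at h1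
          exact h1
        obtain ⟨w, hw, hwc⟩ := exists_W b.toBT ((hHV j0).1 hj0) hR hV
        let w' : NR R i := ⟨w, b.W_le_N i hw⟩
        have hw'θ : theta kd w' = 1 := by
          have h1 : w' = inN kd ⟨w, kd.WK hw⟩ := rfl
          apply MulEquiv.ext
          intro s
          rw [h1, theta_K, (kd.ker ⟨w, kd.WK hw⟩).2 hw]
          simp
        refine ⟨w'⁻¹ * j0, by rw [map_mul, map_inv, hw'θ, hθ, inv_one, one_mul], fun q => ?_, fun a => ?_⟩
        · rw [mul_smul, inv_smul_eq_iff, m.W_act b.toBT (h := w') hw]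
        · have h1 : ((w'⁻¹ * j0 : NR R i) : G) ∈ centralizer (V : Set G) := hwc
          have h2 := b.cen_comm_X h1 (c.hh_mem_X b.toBT (a : F))
          have h3 : ((w'⁻¹ * j0) * ModFr.tr c b.toBT a * (w'⁻¹ * j0)⁻¹ * (ModFr.tr c b.toBT a)⁻¹ : NR R i).1 ∈
              YY V R := h2
          have h4 : ((w'⁻¹ * j0) * ModFr.tr c b.toBT a * (w'⁻¹ * j0)⁻¹ * (ModFr.tr c b.toBT a)⁻¹ : NR R i).1 ∈
              WW V (R i) ⊔ UU V R j := by
            rw [kd.S_eq b]
            exact le_sup_right (a := WW V (R i)) h3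
          obtain ⟨t, ht⟩ := kd.exists_up ⟨_, kd.S_le h4⟩ h4
          refine ⟨t, fun s => ?_, fun q => ?_⟩
          · rw [← ht]
            exact theta_K kd ⟨_, kd.S_le h4⟩ s
          · rw [← ht, sigma_act]
            rfl }
  exact core.false

end final

end Exc

/-- **LEMMA NA, all cases**: `N_{N(R)}(W A) = N_{N(R)}(V)`, i.e. `N_H(A) = N_H(V / R)`. -/
theorem NAe {G : Type u} [Group G] [Finite G] {ι : Type v} {V : Subgroup G} {R : ι → Subgroup G} {i j : ι}
    {k : Type w} [Field k] {K : Subgroup G} {φ : K →* Matrix.SpecialLinearGroup (Fin 2) k}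
    {F : Type z} [Field F] [Finite F] [CharP F 2] {v : F → F → G} {w1 w2 : F → G}
    (b : BTC V R) (hC : centralizer (WW V (R i) : Set G) ≤ R i) (c : Coord V R i j v w1 w2)
    (kd : KD V R i j K φ) (hF : 4 ≤ Nat.card F)
    (hS : Odd ((normalizer (V : Set G) ⊓ normalizer (R i : Set G)).relIndex (normalizer (R i : Set G)))) :
    ∀ g ∈ normalizer (R i : Set G), cj g (WW V (R i) ⊔ UU V R j) = WW V (R i) ⊔ UU V R j → cj g V = V := by
  intro g hg hA
  have l₁ := ln_of_bt b kd.ne hC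
  have hgW := normalizer_le_WW V (R i) hg
  have l₂ := l₁.cj hg hgW
  have hA2 : WW V (R i) ⊔ cj g (UU V R j) = WW V (R i) ⊔ UU V R j := by
    rw [cj_sup, cj_eq_self_iff.2 hgW] at hA
    exact hA
  have hrel : (cj g (DD V R)).relIndex (cj g (UU V R i)) = (DD V R).relIndex (UU V R i) :=
    relIndex_map_map_of_injective _ _ (MulAut.conj g).injective
  rcases l₁.V_eq_or l₂ (by rw [hA2]; exact le_sup_right) (by rw [← hA2]; exact le_sup_right)
    (card_cj g (UU V R i)).symm with h | ⟨h1, h2, h3, h4, -, h6⟩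
  · exact h.symm
  · exfalso
    obtain ⟨M, B, _, _, _, _, p, r, f, m⟩ := b.toBT.exists_mod i
    rw [hrel] at h6
    exact (Exc.XC.of_alt m b kd.ne ⟨g, hg⟩ hA h1 h2 h3 h4).false b hC c kd hF hS m h6

end Cfsg.Agent.Omega.SQEnd
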