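import Cfsg.Agent.Omega.IIa4.AllOf

/-!
# Sylow subgroups of `G` in `N(V) ∩ N(R i)` for every point `R i`
-/

set_option autoImplicit false

universe u

namespace Cfsg.Agent.Omega.SQEnd

open Subgroup Cfsg Cfsg.Agent.ZN Cfsg.Agent.Omega.NatPair Cfsg.Agent.Omega.BTwo
open Cfsg.Agent.Omega.Frame Cfsg.Agent.Omega.FrameFF Cfsg.Agent.Omega.IIa4

variable {G : Type u} [Group G] [Finite G]

open Pointwise in
/-- every point is normalised by a Sylow subgroup of `G` in `N(V)` -/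
theorem exists_sylow {V : Subgroup G} {ι : Type*} {R : ι → Subgroup G} (b : BT V R) (S : Sylow 2 G)
    (hS : (S : Subgroup G) ≤ normalizer (V : Set G)) {z : G} (hz : z ∈ V) (hz1 : z ≠ 1)
    (hc : ∀ s ∈ (S : Subgroup G), s * z = z * s) (i : ι) :
    ∃ S₁ : Sylow 2 G, (S₁ : Subgroup G) ≤ normalizer (V : Set G) ∧ (S₁ : Subgroup G) ≤ normalizer (R i : Set G) := by
  obtain ⟨i₀, -, h₀⟩ := exists_fixed b hS hz hz1 hc
  obtain ⟨x, hx, hxR⟩ := b.trans_one i₀ i
  have hcj : ((x • S : Sylow 2 G) : Subgroup G) = BTwo.cj x (S : Subgroup G) := by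
    ext y
    rw [Sylow.coe_subgroup_smul, mem_pointwise_smul_iff_inv_smul_mem, ← map_inv, MulAut.smul_def,
      MulAut.conj_apply, inv_inv, BTwo.mem_cj]
  refine ⟨x • S, ?_, ?_⟩
  · rw [hcj]
    have := BTwo.cj_mono (g := x) hS
    rwa [← BTwo.normalizer_cj, cj_eq_self_iff.2 hx] at this
  · rw [hcj, ← hxR, BTwo.normalizer_cj]
    exact BTwo.cj_mono h₀

/-- `|N(R) : N(V) ∩ N(R)|` is odd -/
theorem odd_relIndex {A B : Subgroup G} (S : Sylow 2 G) (hA : (S : Subgroup G) ≤ A) (hB : (S : Subgroup G) ≤ B) :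
    Odd ((A ⊓ B).relIndex B) := by
  have h1 : ¬ 2 ∣ (S : Subgroup G).index := S.not_dvd_index
  have h2 : (A ⊓ B).relIndex B * B.index = (A ⊓ B).index := relIndex_mul_index inf_le_right
  have h3 : (S : Subgroup G).relIndex (A ⊓ B) * (A ⊓ B).index = (S : Subgroup G).index :=
    relIndex_mul_index (le_inf hA hB)
  rw [← Nat.not_even_iff_odd, even_iff_two_dvd]
  intro h
  apply h1
  rw [← h3, ← h2]
  exact Dvd.dvd.mul_left (Dvd.dvd.mul_right h _) _

variable {S : Sylow 2 G} {P : Subgroup G} {g : G} {F : Type} [Field F] [Finite F] [CharP F 2]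
  {M : NatMod F (zl (S : Subgroup G) P)}

theorem sit_exists_sylow (h : Sit S P g M) (i : Pt M) : ∃ S₁ : Sylow 2 G,
    (S₁ : Subgroup G) ≤ normalizer (zl (S : Subgroup G) P : Set G) ∧
      (S₁ : Subgroup G) ≤ normalizer (pt M i : Set G) := by
  have hZ : zc (S : Subgroup G) ≠ ⊥ := by
    refine MinSimple.Basic.zc_ne_bot S.isPGroup' fun h0 => h.bt.R_ne i (eq_bot_iff.2 ?_)
    exact ((h.bt.R_le i).trans ((h.allIn P h.isParS).trans (All.o2_CZ_le S))).trans_eq h0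
  obtain ⟨z, hz1⟩ := Subgroup.ne_bot_iff_exists_ne_one.1 hZ
  have hz := MinSimple.VModule.mem_zc.1 z.2
  exact SQEnd.exists_sylow h.bt S h.le_N (h.zc_le z.2) (fun h0 => hz1 (Subtype.ext h0)) hz.2.1 i

end Cfsg.Agent.Omega.SQEnd
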