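import Cfsg.Agent.Lib.AutSL2

/-!
# Automorphisms of `SL₂(k)`, `k` of characteristic 2, and the two fields acting on a root group

`eq_one_of_up`: an automorphism of odd order centralising the upper unitriangular group is trivial.
`scal`: a field `F` acting on `k` (as an additive group) with `Fˣ` normalising `kˣ` acts by scalars of `k`.
`exists_aut`: the automorphism of `SL₂(k)` induced on `K / W`.
-/

set_option autoImplicit false

namespace Cfsg.Agent.Omega.SQEnd

open Subgroup Cfsg.Agent.Lib.SL2Mat Matrix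

section sl2

variable {k : Type*} [Field k]

/-- `g up(y) = up(x) g` in `GL₂` -/
theorem gl_up {g : GL (Fin 2) k} {x y : k} (h : conjGL g (up y) = up x) :
    x * g.1 1 0 = 0 ∧ g.1 0 0 * y = x * g.1 1 1 := by
  have h1 : (g.1 * (up y).1 * g⁻¹.1) = (up x).1 := by
    have := congrArg (fun z : Matrix.SpecialLinearGroup (Fin 2) k => z.1) h
    rw [conjGL_val] at this
    exact this
  have h2 : g.1 * (up y).1 = (up x).1 * g.1 := by
    rw [← h1, Matrix.mul_assoc, inv_val_mul_val, Matrix.mul_one]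
  have e00 := congrFun (congrFun h2 0) 0
  have e01 := congrFun (congrFun h2 0) 1
  simp only [Matrix.mul_apply, Fin.sum_univ_two] at e00 e01
  have u00 : (up y).1 0 0 = 1 := rfl
  have u01 : (up y).1 0 1 = y := rfl
  have u10 : (up y).1 1 0 = 0 := rfl
  have u11 : (up y).1 1 1 = 1 := rfl
  have v00 : (up x).1 0 0 = 1 := rfl
  have v01 : (up x).1 0 1 = x := rfl
  rw [u00, u10, v00, v01] at e00
  rw [u01, u11, v00, v01] at e01
  constructor
  · linear_combination -e00
  · linear_combination e01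

/-- an automorphism of odd order centralising the upper unitriangular group is trivial -/
theorem eq_one_of_up [Finite k] [CharP k 2] {α : MulAut (Matrix.SpecialLinearGroup (Fin 2) k)} {n : ℕ} (hn : Odd n)
    (hα : α ^ n = 1) (h : ∀ x : k, α (up x) = up x) : α = 1 := by
  obtain ⟨g, σ, hg⟩ := Lib.AutSL2.exists_gl_ringEquiv (MonoidHom.id (Matrix.SpecialLinearGroup (Fin 2) k))
    Function.surjective_id (by
      intro x hx
      rw [MonoidHom.mem_ker] at hx
      rw [show x = 1 from hx]
      exact one_mem _) α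
  simp only [MonoidHom.id_apply] at hg
  have key : ∀ x : k, x * g.1 1 0 = 0 ∧ g.1 0 0 * σ x = x * g.1 1 1 := by
    intro x
    apply gl_up
    rw [← fieldAut_up, ← hg, h]
  obtain ⟨h1, h2⟩ := key 1
  rw [one_mul] at h1
  rw [map_one, mul_one, one_mul] at h2
  have h00 : g.1 0 0 ≠ 0 := by
    intro h0
    have hd : g.1.det ≠ 0 := by
      have := (Matrix.isUnit_iff_isUnit_det g.1).1 g.isUnit
      exact this.ne_zero
    apply hd
    rw [Matrix.det_fin_two, h0, h1]
    ring
  have hσ : σ = RingEquiv.refl k := by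
    ext x
    have h3 := (key x).2
    rw [← h2, mul_comm x] at h3
    exact mul_left_cancel₀ h00 h3
  -- `α` is conjugation by `up c`
  set c := g.1 0 1 / g.1 0 0 with hc
  have hα' : ∀ x, α x = up c * x * (up c)⁻¹ := by
    intro x
    rw [hg, hσ]
    have e0 : fieldAut (RingEquiv.refl k) x = x := by
      apply ext_ent <;> simp [fieldAut_ent]
    rw [e0]
    have hgv : g.1 = g.1 0 0 • (up c).1 := by
      ext a b
      fin_cases a <;> fin_cases b
      · change g.1 0 0 = g.1 0 0 * 1
        rw [mul_one]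
      · change g.1 0 1 = g.1 0 0 * c
        rw [hc, mul_div_cancel₀ _ h00]
      · change g.1 1 0 = g.1 0 0 * 0
        rw [h1, mul_zero]
      · change g.1 1 1 = g.1 0 0 * 1
        rw [← h2, mul_one]
    have h3 : (conjGL g x).1 * g.1 = g.1 * x.1 := by
      rw [conjGL_val, Matrix.mul_assoc, inv_val_mul_val, Matrix.mul_one]
    have h4 : (conjGL g x).1 * (up c).1 = (up c).1 * x.1 := by
      rw [hgv, Matrix.mul_smul, Matrix.smul_mul] at h3
      exact smul_right_injective _ h00 h3
    have h5 : conjGL g x * up c = up c * x := Subtype.ext h4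
    rw [← h5, mul_inv_cancel_right]
  have hpow : ∀ m : ℕ, ∀ x, (α ^ m) x = up c ^ m * x * (up c ^ m)⁻¹ := by
    intro m
    induction m with
    | zero => intro x; simp
    | succ m ih =>
      intro x
      rw [pow_succ, MulAut.mul_apply, hα', ih, pow_succ]
      group
  have hup2 : up c * up c = 1 := by
    rw [up_mul, CharTwo.add_self_eq_zero, up_zero]
  have hupn : up c ^ n = up c := by
    obtain ⟨m, rfl⟩ := hn
    rw [pow_succ, pow_mul, pow_two, hup2, one_pow, one_mul]
  have hcen : up c * lo 1 = lo 1 * up c := by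
    have h3 := hpow n (lo 1)
    rw [hα, hupn, MulAut.one_apply] at h3
    calc up c * lo 1 = (up c * lo 1 * (up c)⁻¹) * up c := by group
      _ = lo 1 * up c := by rw [← h3]
  have hc0 : c = 0 := by
    have h3 := congrArg (fun z => ent z 0 0) hcen
    simp only [ent_mul, up_00, up_01, lo_00, lo_10, lo_01, up_10] at h3
    linear_combination h3
  ext1 x
  rw [hα', hc0, up_zero]
  simp

end sl2

section scal

variable {F k : Type*} [Field F] [Field k]

/-- a field `F` acting on the additive group of `k`, such that `Fˣ` normalises `kˣ`, acts by scalars of `k` -/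
theorem scal [CharP F 2] {f : F → k → k} (zero : ∀ s, f s 0 = 0) (one : ∀ x, f 1 x = x)
    (add : ∀ s t, s ≠ 0 → t ≠ 0 → s + t ≠ 0 → ∀ x, f (s + t) x = f s x + f t x)
    (semi : ∀ s, s ≠ 0 → ∀ μ : k, μ ≠ 0 → ∃ ν : k, ∀ x, f s (μ * x) = ν * f s x) {s : F} (hs : s ≠ 0) (x : k) :
    f s x = f s 1 * x := by
  by_cases hs1 : s = 1
  · rw [hs1, one, one, one_mul]
  have hs2 : s + 1 ≠ 0 := fun h => hs1 (CharTwo.add_eq_zero.1 h)
  have key : ∀ μ : k, μ ≠ 0 → ∀ x, f s (μ * x) = μ * f s x := by
    intro μ hμ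
    obtain ⟨ν, hν⟩ := semi s hs μ hμ
    obtain ⟨ν', hν'⟩ := semi (s + 1) hs2 μ hμ
    have h1 : ∀ x, ν * f s x + μ * x = ν' * (f s x + x) := by
      intro x
      have h2 := hν' x
      rw [add s 1 hs one_ne_zero hs2, add s 1 hs one_ne_zero hs2, one, one, hν] at h2
      exact h2
    by_cases h3 : ν = ν'
    · have h4 := h1 1
      have h5 : ν = μ := by
        rw [← h3] at h4
        linear_combination -h4
      intro x
      rw [hν, h5]
    · have h4 : ν - ν' ≠ 0 := sub_ne_zero.2 h3
      have h5 : ∀ x, f s x = (ν' - μ) / (ν - ν') * x := by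
        intro x
        rw [div_mul_eq_mul_div, eq_div_iff h4]
        linear_combination h1 x
      intro x
      rw [h5, h5]
      ring
  have h0 := zero s
  by_cases hx : x = 0
  · rw [hx, h0, mul_zero]
  · have h2 := key x hx 1
    rw [mul_one] at h2
    rw [h2, mul_comm]

end scal

section aut

variable {G : Type*} [Group G] {S : Type*} [Group S]

/-- the automorphism of `S` induced by an element normalising `K` and `W`, `K / W = S` -/
theorem exists_aut {K W : Subgroup G} {φ : K →* S} (hφ : Function.Surjective φ)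
    (hker : ∀ g : K, φ g = 1 ↔ (g : G) ∈ W) {z : G} (hK : z ∈ normalizer (K : Set G))
    (hW : z ∈ normalizer (W : Set G)) : ∃ α : MulAut S, ∀ g g' : K, (g' : G) = z * g * z⁻¹ → α (φ g) = φ g' := by
  have hcK : ∀ {y : G}, y ∈ normalizer (K : Set G) → ∀ g : K, y * g * y⁻¹ ∈ K := fun hy g =>
    (mem_normalizer_iff.1 hy _).1 g.2
  have hcW : ∀ {y : G}, y ∈ normalizer (W : Set G) → ∀ g ∈ W, y * g * y⁻¹ ∈ W := fun hy g hg =>
    (mem_normalizer_iff.1 hy _).1 hg
  have hwd : ∀ {y : G}, y ∈ normalizer (W : Set G) → ∀ g g' h h' : K, φ g = φ g' → (h : G) = y * g * y⁻¹ →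
      (h' : G) = y * g' * y⁻¹ → φ h = φ h' := by
    intro y hy g g' h h' e e1 e2
    have h1 : φ (g⁻¹ * g') = 1 := by rw [map_mul, map_inv, e, inv_mul_cancel]
    have h2 := hcW hy _ ((hker _).1 h1)
    have h3 : φ (h⁻¹ * h') = 1 := by
      rw [hker]
      have e3 : ((h⁻¹ * h' : K) : G) = y * ((g⁻¹ * g' : K) : G) * y⁻¹ := by
        push_cast
        rw [e1, e2]; group
      rw [e3]
      exact h2
    rw [map_mul, map_inv, inv_mul_eq_one] at h3
    exact h3
  choose s hs using hφ
  let f : ∀ {y : G}, y ∈ normalizer (K : Set G) → S → S := fun {y} hy x => φ ⟨y * s x * y⁻¹, hcK hy (s x)⟩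
  have hf : ∀ {y : G} (hy : y ∈ normalizer (K : Set G)), y ∈ normalizer (W : Set G) → ∀ g g' : K,
      (g' : G) = y * g * y⁻¹ → f hy (φ g) = φ g' := by
    intro y hy hyW g g' e
    exact hwd hyW (s (φ g)) g _ _ (hs _) rfl e
  have hK' := inv_mem hK
  have hW' := inv_mem hW
  refine ⟨MulEquiv.mk' (Equiv.mk (f hK) (f hK') (fun x => ?_) (fun x => ?_)) fun x y => ?_,
    fun g g' e => hf hK hW g g' e⟩
  · have h1 := hf hK' hW' ⟨z * s x * z⁻¹, hcK hK (s x)⟩ (s x) (by
      change (s x : G) = z⁻¹ * (z * s x * z⁻¹) * z⁻¹⁻¹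
      group)
    rw [hs] at h1
    exact h1
  · have h1 := hf hK hW ⟨z⁻¹ * s x * z⁻¹⁻¹, hcK hK' (s x)⟩ (s x) (by
      change (s x : G) = z * (z⁻¹ * s x * z⁻¹⁻¹) * z⁻¹
      group)
    rw [hs] at h1
    exact h1
  · have h1 := hf hK hW (s x * s y) (⟨z * s x * z⁻¹, hcK hK (s x)⟩ * ⟨z * s y * z⁻¹, hcK hK (s y)⟩) (by
      change z * (s x : G) * z⁻¹ * (z * s y * z⁻¹) = z * ((s x : G) * s y) * z⁻¹
      group)
    rw [map_mul, map_mul, hs, hs] at h1
    exact h1

end aut

end Cfsg.Agent.Omega.SQEnd
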