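import Cfsg.Agent.Omega.Lie.End.KSys

/-!
# SQT, `b = 2`, `KD`: the action of the torus `T` on a component `K` moved by `A` (helper912)

`BAct S T` : `TAct S T` and `[N_K(S), T] ≤ [S, T] = A ⊴ N_K(S)` (from LEMMA CA of helper988).
The K-facts used for SQT (`K` perfect, `Z(K)` odd, `K / Z(K)` simple of Lie type of characteristic 2, `m_p ≤ 2`):

* `RowLTwo`   : `K = L₂(F)`: `Z(K) = 1`, `A = S`, `N(S)` has elements of order `r ∣ |T|`;
* `RowLThree` : `K = L₃(F)`, `|F| ≥ 4`: some `1 ≠ a ∈ A` normalises `A ^ k`, for all `k`;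
* `RowSpFour` : `K = Sp₄(F)`, `|F| ≥ 4`: `N(S)` contains `C_r × C_r` for every prime `r ∣ |T|`.
-/

set_option autoImplicit false

namespace Cfsg.Agent.Omega.SQEnd

open Subgroup Cfsg Cfsg.Agent.Omega.Lie.End

universe u

/-- `T` acts on `K`, `S` and `A = [S, T]`, with `[N(S), T] ≤ A ⊴ N(S)`. -/
structure BAct {K : Type*} [Group K] (S : Subgroup K) (T : Subgroup (MulAut K)) : Prop extends TAct S T where
  B_A : ∀ b ∈ normalizer (S : Set K), ∀ a ∈ AT S T, b * a * b⁻¹ ∈ AT S T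
  B_T : ∀ b ∈ normalizer (S : Set K), ∀ t ∈ T, b⁻¹ * t b ∈ AT S T

/-- `K` is a perfect group with odd centre and `K / Z(K) ≃* Y` -/
structure Cov (K : Type*) [Group K] (Y : Type*) [Group Y] : Prop where
  perf : commutator K = ⊤
  odd : Odd (Nat.card (center K))
  iso : Nonempty (K ⧸ center K ≃* Y)

/-- `L₂(F)` -/
def RowLTwo : Prop :=
  ∀ (K : Type u) [Group K] [Finite K] (F : Type) [Field F] [Fintype F] (n : ℕ), 2 ≤ n → Fintype.card F = 2 ^ n →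
    Cov K (Matrix.ProjectiveSpecialLinearGroup (Fin 2) F) →
    ∀ (S : Sylow 2 K) (T : Subgroup (MulAut K)), BAct (S : Subgroup K) T →
      Nonempty (K ≃* Matrix.SpecialLinearGroup (Fin 2) F) ∧ (S : Subgroup K) ≤ AT (S : Subgroup K) T ∧
        ∀ r : ℕ, r.Prime → r ∣ Nat.card T → ∃ x ∈ normalizer ((S : Subgroup K) : Set K), orderOf x = r

/-- `L₃(F)`, `|F| ≥ 4` -/
def RowLThree : Prop :=
  ∀ (K : Type u) [Group K] [Finite K] (F : Type) [Field F] [Fintype F] (n : ℕ), 2 ≤ n → Fintype.card F = 2 ^ n →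
    Cov K (Matrix.ProjectiveSpecialLinearGroup (Fin 3) F) →
    ∀ (S : Sylow 2 K) (T : Subgroup (MulAut K)), BAct (S : Subgroup K) T →
      ∀ k : K, ∃ a ∈ AT (S : Subgroup K) T, a ≠ 1 ∧
        ∀ b ∈ AT (S : Subgroup K) T, k⁻¹ * (a * (k * b * k⁻¹) * a⁻¹) * k ∈ AT (S : Subgroup K) T

/-- `Sp₄(F)`, `|F| ≥ 4` -/
def RowSpFour : Prop :=
  ∀ (K : Type u) [Group K] [Finite K] (F : Type) [Field F] [Fintype F] (n : ℕ), 2 ≤ n → Fintype.card F = 2 ^ n →
    Cov K (PSp 2 F) →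
    ∀ (S : Sylow 2 K) (T : Subgroup (MulAut K)), BAct (S : Subgroup K) T → ∀ r : ℕ, r.Prime → r ∣ Nat.card T →
      ∃ x ∈ normalizer ((S : Subgroup K) : Set K), ∃ y ∈ normalizer ((S : Subgroup K) : Set K),
        x ^ r = 1 ∧ y ^ r = 1 ∧ x * y = y * x ∧ ∀ m k : ℕ, x ^ m * y ^ k = 1 → r ∣ m ∧ r ∣ k

/-- the groups `K / Z(K)` which do not occur -/
def DeadB (Y : Type u) [Group Y] : Prop :=
  ∀ (K : Type u) [Group K] [Finite K], Cov K Y → ∀ (S : Sylow 2 K) (T : Subgroup (MulAut K)),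
    ¬ BAct (S : Subgroup K) T

end Cfsg.Agent.Omega.SQEnd
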