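import Cfsg.Agent.Omega.BTwo.Mod

/-!
# `W / R` as a module, and the sum over a 2-group acting nilpotently

* `exists_quot`: the module `M = W / R` of a group `H` normalising `W` and `R`;
* `sum_mem`: a 2-group `Q` with `2 ^ n ≤ |Q|`, `[F k, Q] ≤ F (k + 1)`: `∑ q • m ∈ F n`.
-/

set_option autoImplicit false

universe u v

namespace Cfsg.Agent.Omega.SQEnd

open Subgroup Cfsg.Agent.Omega.BTwo

variable {G : Type u} [Group G]

/-- `W / R` with the action of `H` -/
theorem exists_quot {R W H : Subgroup G} (RW : R ≤ W) (WW : ∀ g ∈ W, ∀ w ∈ W, g * w * g⁻¹ * w⁻¹ ∈ R)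
    (HR : H ≤ normalizer (R : Set G)) (HW : H ≤ normalizer (W : Set G)) :
    ∃ (M : Type u) (_ : AddCommGroup M) (_ : DistribMulAction H M) (p : G → M),
      (∀ x ∈ W, ∀ y ∈ W, p (x * y) = p x + p y) ∧ (∀ x ∈ W, (p x = 0 ↔ x ∈ R)) ∧
      (∀ m, ∃ x ∈ W, p x = m) ∧ ∀ (h : H), ∀ x ∈ W, h • p x = p (h * x * (h : G)⁻¹) := by
  classical
  set R' := R.subgroupOf W with hR'
  have hN : R'.Normal := ⟨by
    rintro ⟨x, hx⟩ hx' ⟨w, hw⟩
    change w * x * w⁻¹ ∈ R
    have hx'' : x ∈ R := hx'
    have e : w * x * w⁻¹ = w * x * w⁻¹ * x⁻¹ * x := by group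
    rw [e]
    exact R.mul_mem (WW _ hw _ hx) hx''⟩
  have hmk : ∀ a c : W, (QuotientGroup.mk a : W ⧸ R') = QuotientGroup.mk c ↔ (a : G)⁻¹ * c ∈ R := by
    intro a c
    rw [QuotientGroup.eq]
    rfl
  let cM : CommGroup (W ⧸ R') :=
    { (inferInstance : Group (W ⧸ R')) with
      mul_comm := by
        intro x y
        induction x using QuotientGroup.induction_on with
        | H x =>
          induction y using QuotientGroup.induction_on with
          | H y =>
            change (QuotientGroup.mk (x * y) : W ⧸ R') = QuotientGroup.mk (y * x)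
            rw [hmk]
            have h1 := WW _ (W.inv_mem y.2) _ (W.inv_mem x.2)
            have e : ((x * y : W) : G)⁻¹ * (y * x : W) = (y : G)⁻¹ * (x : G)⁻¹ * (y : G)⁻¹⁻¹ * (x : G)⁻¹⁻¹ := by
              push_cast; group
            rw [e]
            exact h1 }
  let φ : H → (W ⧸ R') →* (W ⧸ R') := fun n => QuotientGroup.map R' R' (conjHom HW n) (by
    rintro ⟨x, hx⟩ hx'
    exact conj_mem_of_normalizer (HR n.2) hx')
  have hφ : ∀ (n : H) (x : W), φ n (QuotientGroup.mk x) = QuotientGroup.mk (conjHom HW n x) :=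
    fun n x => rfl
  let aM : DistribMulAction H (Additive (W ⧸ R')) :=
    { smul := fun n m => Additive.ofMul (φ n m.toMul)
      one_smul := by
        intro m
        change Additive.ofMul (φ 1 m.toMul) = m
        have key : ∀ m : W ⧸ R', φ 1 m = m := by
          intro m
          induction m using QuotientGroup.induction_on with
          | H x =>
            rw [hφ]
            congr 1
            apply Subtype.ext
            change (1 : G) * x * (1 : G)⁻¹ = x
            group
        rw [key]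
        rfl
      mul_smul := by
        intro n n' m
        change Additive.ofMul (φ (n * n') m.toMul) = Additive.ofMul (φ n (φ n' m.toMul))
        have key : ∀ m : W ⧸ R', φ (n * n') m = φ n (φ n' m) := by
          intro m
          induction m using QuotientGroup.induction_on with
          | H x =>
            rw [hφ, hφ, hφ]
            congr 1
            apply Subtype.ext
            change ((n * n' : H) : G) * x * ((n * n' : H) : G)⁻¹ =
              n * (n' * x * (n' : G)⁻¹) * (n : G)⁻¹
            push_cast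
            group
        rw [key]
      smul_zero := fun n => map_one (φ n)
      smul_add := fun n x y => map_mul (φ n) x.toMul y.toMul }
  let p : G → Additive (W ⧸ R') := fun g => if h : g ∈ W then Additive.ofMul (QuotientGroup.mk ⟨g, h⟩) else 0
  have hp : ∀ (x : G) (hx : x ∈ W), p x = Additive.ofMul (QuotientGroup.mk ⟨x, hx⟩) := fun x hx => dif_pos hx
  refine ⟨Additive (W ⧸ R'), inferInstance, aM, p, fun x hx y hy => ?_, fun x hx => ?_, fun m => ?_,
    fun h x hx => ?_⟩
  · rw [hp _ (mul_mem hx hy), hp _ hx, hp _ hy]; rfl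
  · rw [hp _ hx]
    change (QuotientGroup.mk ⟨x, hx⟩ : W ⧸ R') = 1 ↔ _
    rw [QuotientGroup.eq_one_iff]
    rfl
  · obtain ⟨⟨x, hx⟩, h⟩ := QuotientGroup.mk_surjective m.toMul
    refine ⟨x, hx, ?_⟩
    rw [hp _ hx, h]
    rfl
  · have h1 : (h : G) * x * (h : G)⁻¹ ∈ W := conj_mem_of_normalizer (HW h.2) hx
    rw [hp _ hx, hp _ h1]; rfl

/-- a 2-group of order at least `2 ^ n` acting nilpotently -/
theorem sum_mem {M : Type v} [AddCommGroup M] {F : ℕ → AddSubgroup M} (hF0 : F 0 = ⊤) (n : ℕ) :
    ∀ (Q : Type u) [Group Q] [Fintype Q] [DistribMulAction Q M], IsPGroup 2 Q → 2 ^ n ≤ Nat.card Q →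
      (∀ k, ∀ q : Q, ∀ m ∈ F k, q • m + m ∈ F (k + 1)) → ∀ m : M, ∑ q : Q, q • m ∈ F n := by
  classical
  induction n with
  | zero => intro Q _ _ _ _ _ _ m; rw [hF0]; trivial
  | succ n ih =>
    intro Q _ _ _ hQ hc hstep m
    haveI : Fact (Nat.Prime 2) := ⟨Nat.prime_two⟩
    obtain ⟨k, hk⟩ := IsPGroup.iff_card.1 hQ
    have hnk : n + 1 ≤ k := (Nat.pow_le_pow_iff_right (by norm_num)).1 (hk ▸ hc)
    obtain ⟨H, hH⟩ := Sylow.exists_subgroup_card_pow_prime (G := Q) 2 (n := k - 1)
      (by rw [hk]; exact pow_dvd_pow 2 (by omega))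
    have hidx : H.index = 2 := by
      have h1 := H.card_mul_index
      rw [hH, hk] at h1
      have h2 : 2 ^ k = 2 ^ (k - 1) * 2 := by rw [← pow_succ]; congr 1; omega
      rw [h2] at h1
      exact Nat.eq_of_mul_eq_mul_left (by positivity) h1
    obtain ⟨b, hb⟩ : ∃ b : Q, b ∉ H := by
      by_contra hcon
      push Not at hcon
      have : H = ⊤ := eq_top_iff.2 fun x _ => hcon x
      rw [this, Subgroup.index_top] at hidx
      omega
    have h1 := ih H (hQ.to_subgroup H) (by rw [hH]; exact Nat.pow_le_pow_right (by norm_num) (by omega))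
      (fun k q m hm => hstep k q m hm) m
    have h2 := hstep n b _ h1
    have h3 : ∑ q : Q, q • m = b • (∑ q : H, q • m) + ∑ q : H, q • m := by
      rw [← Fintype.sum_subtype_add_sum_subtype (fun q => q ∈ H), add_comm]
      congr 1
      rw [Finset.smul_sum]
      have hbm : ∀ x : Q, b * x ∉ H ↔ x ∈ H := by
        intro x
        rw [Subgroup.mul_mem_iff_of_index_two hidx]
        tauto
      have hbi : b⁻¹ ∉ H := fun h => hb (by simpa using H.inv_mem h)
      have hbm' : ∀ x : Q, b⁻¹ * x ∈ H ↔ x ∉ H := by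
        intro x
        rw [Subgroup.mul_mem_iff_of_index_two hidx]
        tauto
      refine (Fintype.sum_equiv
        { toFun := fun h : H => (⟨b * h, (hbm h).2 h.2⟩ : {x // ¬ x ∈ H})
          invFun := fun x => (⟨b⁻¹ * x, (hbm' x).2 x.2⟩ : H)
          left_inv := fun h => Subtype.ext (by simp)
          right_inv := fun x => Subtype.ext (by simp) } _ _ fun h => ?_).symm
      exact (mul_smul b (h : Q) m).symm
    rw [h3]
    exact h2

end Cfsg.Agent.Omega.SQEnd
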