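import Cfsg.Agent.Omega.SQEnd.E
import Cfsg.Agent.Omega.SQEnd.Orb

/-!
# (E7) of the end of `b = 2` (bb OMEGA #12947): `C_{W / R}(C) = 1`

`Cfg.cent_C`: an element of `W` centralised by the torus `C` modulo `R` lies in `R`, if some `t ∈ T` has `t³ ≠ 1` or
`|A : D| ≥ 16` (the only exception is `G₂(4)`).
-/

set_option autoImplicit false
set_option linter.unusedSimpArgs false

universe u

namespace Cfsg.Agent.Omega.SQEnd

open Subgroup Cfsg.Agent.Omega.BTwo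

variable {G : Type u} [Group G]

theorem St_mono {H N : Subgroup G} {x g : G} (hHN : H ≤ N) (hg : g ∈ normalizer (N : Set G)) (h : g ∈ St H x) :
    g ∈ St N x := ⟨hg, hHN h.2⟩

namespace Cfg

variable {R W V U D A K L C Z T : Subgroup G} {w : G}

section
variable (h : Cfg R W V U D A K L C Z T w)
include h

theorem not_W_le_U (hV : ¬ V ≤ R) : ¬ W ≤ U := by
  intro hWU
  apply hV
  intro v hv
  have h1 : w * v * w⁻¹ ∈ BTwo.cj w V := conj_mem_cj hv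
  have h2 := h.opp _ (hWU (h.ln'.VW h1)) h1
  have h3 := h.of_R h2
  have e : w⁻¹ * (w * v * w⁻¹) * w = v := by group
  rwa [e] at h3

/-- `T` acts regularly on `(V / R)#` -/
theorem reg {v t : G} (hv : v ∈ V) (hvR : v ∉ R) (ht : t ∈ T) (h1 : t ∈ St R v) : t = 1 := by
  by_contra ht1
  refine h.not_W_le_U (fun h' => hvR (h' hv)) fun m hm => ?_
  refine h.cen v hv hvR m hm ?_
  have hr : v * m * v⁻¹ * m⁻¹ ∈ R := h.WW _ (h.VW hv) _ hm
  have h5 := h.t5 t ht v hv m hm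
  have hρ : t⁻¹ * v * t * v⁻¹ ∈ R := by
    have := ((St R v).inv_mem h1).2
    rwa [inv_inv] at this
  have h6 : (t⁻¹ * v * t) * m * (t⁻¹ * v * t)⁻¹ * m⁻¹ = v * m * v⁻¹ * m⁻¹ := by
    have c1 := h.W_comm_R (mul_mem (mul_mem (h.VW hv) hm) (inv_mem (h.VW hv))) hρ
    calc (t⁻¹ * v * t) * m * (t⁻¹ * v * t)⁻¹ * m⁻¹ =
        (t⁻¹ * v * t * v⁻¹) * (v * m * v⁻¹) * (t⁻¹ * v * t * v⁻¹)⁻¹ * m⁻¹ := by group
      _ = v * m * v⁻¹ * m⁻¹ := by rw [← c1]; group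
  rw [h6] at h5
  have h7 := h.t1 t ht ht1 _ hr h5
  calc m * v = (v * m * v⁻¹ * m⁻¹) * (m * v) := by rw [h7, one_mul]
    _ = v * m := by group

theorem w_inv_t {t : G} (ht : t ∈ T) : w⁻¹ * t * w = w * t * w⁻¹ := by
  obtain ⟨c, hc, z, hz, htc⟩ := h.dec t ht
  have h2 := h.tww hc hz htc
  calc w⁻¹ * t * w = w⁻¹ * (w * (w * t * w⁻¹) * w⁻¹) * w := by rw [h2]
    _ = _ := by group

theorem w_inv_c {c : G} (hc : c ∈ C) : w⁻¹ * c * w = c⁻¹ := by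
  have h1 := h.wC c⁻¹ (inv_mem hc)
  rw [inv_inv] at h1
  calc w⁻¹ * c * w = w⁻¹ * (w * c⁻¹ * w⁻¹) * w := by rw [h1]
    _ = c⁻¹ := by group

theorem St_w {g x : G} (hg : g ∈ St R x) : w⁻¹ * g * w ∈ St R (w⁻¹ * x * w) := by
  refine ⟨mul_mem (mul_mem (inv_mem h.w_R) hg.1) h.w_R, ?_⟩
  have := h.of_R hg.2
  have e : w⁻¹ * g * w * (w⁻¹ * x * w) * (w⁻¹ * g * w)⁻¹ * (w⁻¹ * x * w)⁻¹ =
    w⁻¹ * (g * x * g⁻¹ * x⁻¹) * w := by group
  rw [e]; exact this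

/-- (E3) on `V / R` -/
theorem E3V {t v : G} (ht : t ∈ T) (hv : v ∈ V) : t * t * (w * t * w⁻¹) ∈ St R v := by
  have h1 := h.St_w (h.E3 ht (conj_mem_cj (g := w) hv))
  have e1 : w⁻¹ * (w * v * w⁻¹) * w = v := by group
  have e2 : w⁻¹ * (w * t * w⁻¹ * (w * t * w⁻¹) * t) * w = t * t * (w⁻¹ * t * w) := by group
  rwa [e1, e2, h.w_inv_t ht] at h1

theorem cube {t c z : G} (ht : t ∈ T) (hc : c ∈ C) (hz : z ∈ Z) (htc : t = c * z) :
    c * c * (t * t * (w * t * w⁻¹)) = t * t * t := by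
  have htL := h.TL ht
  have hcL := h.CL hc
  have e : c * c * (t * t) = t * t * (c * c) := h.L_comm _ (mul_mem hcL hcL) _ (mul_mem htL htL)
  rw [h.tw hc hz htc]
  calc c * c * (t * t * (c⁻¹ * z)) = c * c * (t * t) * (c⁻¹ * z) := by group
    _ = t * t * (c * z) := by rw [e]; group
    _ = t * t * t := by rw [← htc]

/-- an element of `V` centralised by `C` modulo `R` is centralised by the cubes of `T` -/
theorem cube_St {v t : G} (hv : v ∈ V) (hC : ∀ c ∈ C, c ∈ St R v) (ht : t ∈ T) : t * t * t ∈ St R v := by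
  obtain ⟨c, hc, z, hz, htc⟩ := h.dec t ht
  rw [← h.cube ht hc hz htc]
  exact mul_mem (mul_mem (hC c hc) (hC c hc)) (h.E3V ht hv)

theorem V_fix_cube {v t : G} (hv : v ∈ V) (hC : ∀ c ∈ C, c ∈ St R v) (ht : t ∈ T) (h3 : t * t * t ≠ 1) :
    v ∈ R := by
  by_contra hvR
  exact h3 (h.reg hv hvR (mul_mem (mul_mem ht ht) ht) (h.cube_St hv hC ht))

theorem comm_mul_V (AV : ∀ a ∈ A, ∀ v ∈ V, a * v = v * a) {e d b : G} (he : e ∈ V) (hd : d ∈ D) (hb : b ∈ A) :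
    ∃ r ∈ R, (e * d) * b * (e * d)⁻¹ * b⁻¹ = r * (d * b * d⁻¹ * b⁻¹) := by
  have hv := h.DA d hd b hb
  refine ⟨_, h.WW e (h.VW he) _ (h.VW hv), ?_⟩
  have c := AV b hb _ (inv_mem he)
  calc (e * d) * b * (e * d)⁻¹ * b⁻¹ = e * (d * b * d⁻¹ * b⁻¹) * (b * e⁻¹) * b⁻¹ := by group
    _ = e * (d * b * d⁻¹ * b⁻¹) * (e⁻¹ * b) * b⁻¹ := by rw [c]
    _ = _ := by group

/-- an element of `D` centralised by `C` modulo `V` lies in `V` -/
theorem D_fix (AV : ∀ a ∈ A, ∀ v ∈ V, a * v = v * a) {d : G} (hd : d ∈ D) (hC : ∀ c ∈ C, c ∈ St V d) :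
    d ∈ V := by
  refine h.DAR d hd fun a ha => ?_
  by_contra hvR
  obtain ⟨t, ht, ht1⟩ := h.T_ne
  obtain ⟨c, hc, z, hz, htc⟩ := h.dec t ht
  have hcL := h.CL hc
  have hzL := h.ZL hz
  have htL := h.TL ht
  have hv := h.DA d hd a ha
  have hccL : c * c ∈ L := mul_mem hcL hcL
  have hb : c * c * a * (c * c)⁻¹ ∈ A := conj_mem_of_normalizer (h.LA hccL) ha
  -- `c² v c⁻²`
  have h1 : ∃ r ∈ R, (c * c) * (d * a * d⁻¹ * a⁻¹) * (c * c)⁻¹ =
      r * (d * (c * c * a * (c * c)⁻¹) * d⁻¹ * (c * c * a * (c * c)⁻¹)⁻¹) := by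
    have h2 : c * c ∈ St V d := mul_mem (hC c hc) (hC c hc)
    obtain ⟨r, hr, e⟩ := h.comm_mul_V AV h2.2 hd hb
    refine ⟨r, hr, ?_⟩
    rw [← e]
    group
  -- `t² v t⁻²`
  have h2 : ∃ r ∈ R, (t * t) * (d * a * d⁻¹ * a⁻¹) * (t * t)⁻¹ =
      r * (d * (c * c * a * (c * c)⁻¹) * d⁻¹ * (c * c * a * (c * c)⁻¹)⁻¹) := by
    have h0 : t ∈ St V d := ⟨h.LV htL, h.t3 t ht d hd⟩
    have h2 : t * t ∈ St V d := mul_mem h0 h0
    have h3 : z * z * (c * c * a * (c * c)⁻¹) * (z * z)⁻¹ * (c * c * a * (c * c)⁻¹)⁻¹ ∈ D :=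
      h.AWD (mem_inf.2 ⟨mul_mem (conj_mem_of_normalizer (h.LA (mul_mem hzL hzL)) hb) (inv_mem hb),
        h.ZK _ (mul_mem hz hz) _ (h.AK hb)⟩)
    have e1 : (t * t) * a * (t * t)⁻¹ =
        (z * z * (c * c * a * (c * c)⁻¹) * (z * z)⁻¹ * (c * c * a * (c * c)⁻¹)⁻¹) * (c * c * a * (c * c)⁻¹) := by
      have e2 : t * t = z * z * (c * c) := by
        have c1 := h.L_comm _ hcL _ hzL
        rw [htc]
        calc c * z * (c * z) = c * (z * c) * z := by group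
          _ = c * (c * z) * z := by rw [c1]
          _ = c * c * (z * z) := by group
          _ = z * z * (c * c) := h.L_comm _ hccL _ (mul_mem hzL hzL)
      rw [e2]; group
    have hd2 : (t * t) * d * (t * t)⁻¹ ∈ D := conj_mem_of_normalizer (h.LD (mul_mem htL htL)) hd
    obtain ⟨r, hr, e3⟩ := h.comm_mul_V AV h2.2 hd hb
    have e4 : (t * t * d * (t * t)⁻¹ * d⁻¹) * d = t * t * d * (t * t)⁻¹ := by group
    rw [e4] at e3
    obtain ⟨r', hr', e5⟩ := h.comm_mul_left (h.DW hd2) (h.DW h3) (h.VW (h.DA _ hd2 _ hb))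
    refine ⟨r' * r, mul_mem hr' hr, ?_⟩
    rw [mul_assoc r' r, ← e3, ← e5, ← e1]
    group
  obtain ⟨r₁, hr₁, e₁⟩ := h1
  obtain ⟨r₂, hr₂, e₂⟩ := h2
  -- `c⁻² t²` centralises `v`
  have h3 : (c * c)⁻¹ * (t * t) ∈ St R (d * a * d⁻¹ * a⁻¹) := by
    refine ⟨h.LR (mul_mem (inv_mem hccL) (mul_mem htL htL)), ?_⟩
    have h4 := conj_inv_mem_of_normalizer (h.LR hccL) (mul_mem hr₂ (inv_mem hr₁))
    have e : (c * c)⁻¹ * (t * t) * (d * a * d⁻¹ * a⁻¹) * ((c * c)⁻¹ * (t * t))⁻¹ * (d * a * d⁻¹ * a⁻¹)⁻¹ =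
        (c * c)⁻¹ * ((t * t) * (d * a * d⁻¹ * a⁻¹) * (t * t)⁻¹ *
          ((c * c) * (d * a * d⁻¹ * a⁻¹) * (c * c)⁻¹)⁻¹) * (c * c) := by
      simp only [mul_inv_rev, inv_inv, mul_assoc, mul_inv_cancel_left, inv_mul_cancel_left, mul_inv_cancel,
        inv_mul_cancel, mul_one, one_mul]
    rw [e, e₁, e₂]
    have e' : r₂ * (d * (c * c * a * (c * c)⁻¹) * d⁻¹ * (c * c * a * (c * c)⁻¹)⁻¹) *
        (r₁ * (d * (c * c * a * (c * c)⁻¹) * d⁻¹ * (c * c * a * (c * c)⁻¹)⁻¹))⁻¹ = r₂ * r₁⁻¹ := by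
      simp only [mul_inv_rev, inv_inv, mul_assoc, mul_inv_cancel_left, inv_mul_cancel_left, mul_inv_cancel,
        inv_mul_cancel, mul_one, one_mul]
    rw [e']
    exact h4
  -- `c⁻² t³` centralises `v`
  have h4 := h.E3V ht hv
  have h5 : t * t * (w * t * w⁻¹) = ((c * c)⁻¹ * (t * t)) * t := by
    rw [mul_assoc (c * c)⁻¹, ← h.cube ht hc hz htc]; group
  rw [h5] at h4
  have h6 := mul_mem (inv_mem h3) h4
  rw [inv_mul_cancel_left] at h6
  exact ht1 (h.reg hv hvR ht h6)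

/-- `C_{W / R}(C) = 1`, given this for `V / R` -/
theorem fix_of (AV : ∀ a ∈ A, ∀ v ∈ V, a * v = v * a) (hV : ¬ V ≤ R) (hU : ¬ U ≤ D)
    (VF : ∀ v ∈ V, (∀ c ∈ C, c ∈ St R v) → v ∈ R) {m : G} (hm : m ∈ W) (hC : ∀ c ∈ C, c ∈ St R m) : m ∈ R := by
  have l' := h.ln'
  have hmC : ∀ c ∈ C, m⁻¹ * (c * m * c⁻¹) ∈ R := by
    intro c hc
    have c1 := h.W_comm_R (inv_mem hm) (hC c hc).2
    have e : m⁻¹ * (c * m * c⁻¹) = m⁻¹ * (c * m * c⁻¹ * m⁻¹) * m := by group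
    rw [e, c1, inv_mul_cancel_right]
    exact (hC c hc).2
  -- `m = x s` with `x ∈ E^w`, `s ∈ S`
  have key : ∀ (E S : Subgroup G), R ≤ S → L ≤ normalizer (S : Set G) → L ≤ normalizer (E : Set G) → E ≤ W →
      (∀ x ∈ S, x ∈ BTwo.cj w E → x ∈ R) → ∀ x ∈ BTwo.cj w E, x⁻¹ * m ∈ S → ∀ c ∈ C, c ∈ St R (w⁻¹ * x * w) := by
    intro E S hRS hS hE hEW hopp x hx hxm c hc
    have hxW : x ∈ W := by
      have := h.W_of (hEW (mem_cj.1 hx))
      exact this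
    have main : ∀ c ∈ C, c ∈ St R x := by
      intro c hc
      have hcL := h.CL hc
      refine ⟨h.LR hcL, ?_⟩
      have h1 : x⁻¹ * (c * x * c⁻¹) ∈ R := by
        refine hopp _ ?_ (mul_mem (inv_mem hx) (conj_mem_of_normalizer (h.norm_cj hE hcL) hx))
        have e : x⁻¹ * (c * x * c⁻¹) = (x⁻¹ * m) * (m⁻¹ * (c * m * c⁻¹)) * (c * (x⁻¹ * m) * c⁻¹)⁻¹ := by group
        rw [e]
        exact mul_mem (mul_mem hxm (hRS (hmC c hc))) (inv_mem (conj_mem_of_normalizer (hS hcL) hxm))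
      have c1 := h.W_comm_R hxW h1
      have e : c * x * c⁻¹ * x⁻¹ = x * (x⁻¹ * (c * x * c⁻¹)) * x⁻¹ := by group
      rw [e, c1, mul_inv_cancel_right]
      exact h1
    have h2 := h.St_w (main c⁻¹ (inv_mem hc))
    rwa [h.w_inv_c (inv_mem hc), inv_inv] at h2
  have hmU : m ∈ U := by
    obtain ⟨x, hx, hxm⟩ := h.cov m hm
    have h1 := VF _ (mem_cj.1 hx) (key V U (h.RD.trans h.DU) h.LU h.LV (fun x hx => h.VW hx) h.opp x hx hxm)
    have h2 := h.R_of h1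
    have := mul_mem (h.DU (h.RD h2)) hxm
    rwa [mul_inv_cancel_left] at this
  have hmD : m ∈ D := by
    obtain ⟨y, hy, hyU, hym⟩ := h.E4 hV hU hmU
    have h1 := key D D h.RD h.LD h.LD (fun x hx => h.DW hx) (fun x hx hx' => h.E2 ⟨hx, hx'⟩) y hy hym
    have h2 := h.D_fix AV (mem_cj.1 hy) fun c hc => St_mono h.RV (h.LV (h.CL hc)) (h1 c hc)
    have h3 := h.opp y hyU (mem_cj.2 h2)
    have := mul_mem (h.RD h3) hym
    rwa [mul_inv_cancel_left] at this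
  exact VF m (h.D_fix AV hmD fun c hc => St_mono h.RV (h.LV (h.CL hc)) (hC c hc)) hC

end

/-- the permutation module: `|A / D| ≥ 16` -/
theorem V_fix_orbit [Finite G] (h : Cfg R W V U D A K L C Z T w) (AV : ∀ a ∈ A, ∀ v ∈ V, a * v = v * a)
    (sq : ∀ g ∈ W, g * g ∈ R) (A2 : IsPGroup 2 A)
    (bru : ∀ g ∈ K, g ∈ W ⊔ A ⊔ C ∨ ∃ a ∈ A, ∃ b ∈ W ⊔ A ⊔ C, g = a * w * b) (h16 : 16 ≤ D.relIndex A)
    {x : G} (hx : x ∈ V) (hC : ∀ c ∈ C, c ∈ St R x) : x ∈ R := by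
  classical
  by_contra hxR
  have l' := h.ln'
  have hxW : x ∈ W := h.VW hx
  have hKR : K ≤ normalizer (R : Set G) := fun g hg => mem_normalizer_of_conj fun r hr => by
    rw [h.KR g hg r hr, mul_inv_cancel_right]; exact hr
  obtain ⟨M, _, _, p, p_mul, p_ker, p_surj, p_act⟩ := exists_quot (H := K) h.RW h.WW hKR h.KW
  have p_one : p 1 = 0 := (p_ker 1 W.one_mem).2 R.one_mem
  have p_inv : ∀ s ∈ W, p s⁻¹ = - p s := fun s hs => by
    rw [eq_neg_iff_add_eq_zero, ← p_mul _ (inv_mem hs) _ hs, inv_mul_cancel, p_one]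
  have p_two : ∀ s ∈ W, p s + p s = 0 := fun s hs => by
    rw [← p_mul _ hs _ hs, p_ker _ (mul_mem hs hs)]; exact sq s hs
  have p_eq : ∀ s ∈ W, ∀ s' ∈ W, (p s = p s' ↔ s * s'⁻¹ ∈ R) := fun s hs s' hs' => by
    rw [← p_ker _ (mul_mem hs (inv_mem hs')), p_mul _ hs _ (inv_mem hs'), p_inv _ hs', ← sub_eq_add_neg,
      sub_eq_zero]
  haveI : Finite M := Finite.of_surjective p fun m => by
    obtain ⟨s, -, e⟩ := p_surj m
    exact ⟨s, e⟩
  -- the point `s = w x w⁻¹`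
  have hs : w * x * w⁻¹ ∈ BTwo.cj w V := conj_mem_cj hx
  have hsW : w * x * w⁻¹ ∈ W := l'.VW hs
  have hsR : w * x * w⁻¹ ∉ R := fun h' => hxR (by
    have := h.of_R h'
    have e : w⁻¹ * (w * x * w⁻¹) * w = x := by group
    rwa [e] at this)
  have hsU : w * x * w⁻¹ ∉ U := fun h' => hsR (h.opp _ h' hs)
  have hwx : (⟨w, h.wK⟩ : K) • p x = p (w * x * w⁻¹) := p_act _ _ hxW
  -- stabiliser of `p x`
  have hstab : ∀ g (hg : g ∈ K), g ∈ W ⊔ A ⊔ C → (⟨g, hg⟩ : K) • p x = p x := by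
    intro g hg hg'
    have h1 : W ⊔ A ⊔ C ≤ St R x := by
      refine sup_le (sup_le (fun m hm => ⟨hKR (h.WK hm), h.WW m hm x hxW⟩) fun a ha => ⟨hKR (h.AK ha), ?_⟩) hC
      rw [AV a ha x hx, mul_inv_cancel_right, mul_inv_cancel]
      exact R.one_mem
    rw [p_act _ _ hxW, p_eq _ (conj_mem_of_normalizer (h.KW hg) hxW) _ hxW]
    exact (h1 hg').2
  -- the action of `A`
  let f : A →* (AddMonoid.End M)ˣ :=
    ((DistribMulAction.toAddMonoidEnd K M).comp (Subgroup.inclusion h.AK)).toHomUnits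
  have hf : ∀ (a : A), ∀ m ∈ W, f a • (p m) = p (a * m * (a : G)⁻¹) := fun a m hm =>
    p_act (Subgroup.inclusion h.AK a) m hm
  have hAW : ∀ a ∈ A, ∀ m ∈ W, a * m * a⁻¹ ∈ W := fun a ha m hm => conj_mem_of_normalizer (h.AW ha) hm
  have hfix : ∀ a : A, f a • (p (w * x * w⁻¹)) = p (w * x * w⁻¹) → (a : G) ∈ D := by
    intro a ha
    rw [hf _ _ hsW, p_eq _ (hAW _ a.2 _ hsW) _ hsW] at ha
    refine h.inj _ hsW hsU _ a.2 (h.RD ?_)
    have e : (w * x * w⁻¹) * a * (w * x * w⁻¹)⁻¹ * (a : G)⁻¹ = (a * (w * x * w⁻¹) * (a : G)⁻¹ * (w * x * w⁻¹)⁻¹)⁻¹ := by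
      group
    rw [e]
    exact inv_mem ha
  have hker : f.ker = D.subgroupOf A := by
    ext a
    rw [MonoidHom.mem_ker, Subgroup.mem_subgroupOf]
    constructor
    · intro ha
      refine hfix a ?_
      rw [ha, one_smul]
    · intro ha
      refine Units.ext (AddMonoidHom.ext fun m => ?_)
      obtain ⟨m, hm, rfl⟩ := p_surj m
      change f a • p m = p m
      rw [hf _ _ hm]
      rw [p_eq _ (hAW _ a.2 _ hm) _ hm]
      exact h.WW _ (h.DW ha) _ hm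
  have hcard : Nat.card f.range = D.relIndex A := by
    rw [← Subgroup.index_ker, hker]; rfl
  haveI : Finite f.range := Finite.of_surjective f.rangeRestrict f.rangeRestrict_surjective
  letI : Fintype f.range := Fintype.ofFinite _
  have hQ : IsPGroup 2 f.range := A2.of_surjective f.rangeRestrict f.rangeRestrict_surjective
  -- the chain
  have hWA : ∀ m ∈ W, ∀ a ∈ A, a * m * a⁻¹ * m⁻¹ ∈ U := by
    intro m hm a ha
    refine h.cen x hx hxR _ (mul_mem (hAW a ha m hm) (inv_mem hm)) ?_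
    have hmx : m⁻¹ * x * m ∈ V := conj_inv_mem_of_normalizer (h.WV hm) hx
    have c1 := AV a⁻¹ (inv_mem ha) x hx
    have hmx' : m⁻¹ * x * m = m⁻¹ * x * m := rfl
    have c2 := AV a⁻¹ (inv_mem ha) _ hmx
    have c3 := AV a ha _ hmx
    have c4 := AV a ha _ hx
    calc a * m * a⁻¹ * m⁻¹ * x = a * m * (a⁻¹ * (m⁻¹ * x * m)) * m⁻¹ := by group
      _ = a * m * ((m⁻¹ * x * m) * a⁻¹) * m⁻¹ := by rw [c2]
      _ = (a * x) * m * a⁻¹ * m⁻¹ := by group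
      _ = x * (a * m * a⁻¹ * m⁻¹) := by rw [c4]; group
  let I : (S : Subgroup G) → S ≤ W → AddSubgroup M := fun S hS =>
    { carrier := {m | ∃ s ∈ S, p s = m}
      zero_mem' := ⟨1, S.one_mem, p_one⟩
      add_mem' := by
        rintro _ _ ⟨s, hs, rfl⟩ ⟨s', hs', rfl⟩
        exact ⟨s * s', S.mul_mem hs hs', p_mul _ (hS hs) _ (hS hs')⟩
      neg_mem' := by
        rintro _ ⟨s, hs, rfl⟩
        exact ⟨s⁻¹, S.inv_mem hs, p_inv _ (hS hs)⟩ }
  let F : ℕ → AddSubgroup M := fun n => match n with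
    | 0 => ⊤
    | 1 => I U h.UW
    | 2 => I D h.DW
    | 3 => I V h.VW
    | _ => ⊥
  have hact : ∀ (a : A), ∀ m ∈ W, f a • (p m) + p m = p (a * m * (a : G)⁻¹ * m⁻¹) := by
    intro a m hm
    rw [hf _ _ hm, p_mul _ (hAW _ a.2 _ hm) _ (inv_mem hm), p_inv _ hm]
    congr 1
    exact eq_neg_of_add_eq_zero_left (p_two m hm)
  have hinv : ∀ a m : G, a * m * a⁻¹ * m⁻¹ = (m * a * m⁻¹ * a⁻¹)⁻¹ := fun a m => by group
  have hstep : ∀ k, ∀ q : f.range, ∀ m ∈ F k, q • m + m ∈ F (k + 1) := by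
    rintro k ⟨_, a, rfl⟩ m hm
    change f a • m + m ∈ F (k + 1)
    rcases k with _ | _ | _ | _ | k
    · obtain ⟨m', hm', rfl⟩ := p_surj m
      rw [hact _ _ hm']
      exact ⟨_, hWA m' hm' a a.2, rfl⟩
    · obtain ⟨m', hm', rfl⟩ := hm
      rw [hact _ _ (h.UW hm')]
      refine ⟨_, ?_, rfl⟩
      rw [hinv]
      exact inv_mem (h.UA m' hm' a a.2)
    · obtain ⟨m', hm', rfl⟩ := hm
      rw [hact _ _ (h.DW hm')]
      refine ⟨_, ?_, rfl⟩
      rw [hinv]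
      exact inv_mem (h.DA m' hm' a a.2)
    · obtain ⟨m', hm', rfl⟩ := hm
      rw [hact _ _ (h.VW hm'), AV a a.2 m' hm', mul_inv_cancel_right, mul_inv_cancel, p_one]
      exact zero_mem _
    · have h1 : m = 0 := hm
      rw [h1, smul_zero, add_zero]
      exact zero_mem _
  have hsum : ∑ q : f.range, q • p (w * x * w⁻¹) = 0 :=
    sum_mem (F := F) rfl 4 f.range hQ (by rw [hcard]; exact h16) hstep _
  -- the orbit of `p x`
  set Ω : Finset M := (Set.toFinite (MulAction.orbit K (p x))).toFinset with hΩ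
  have hmem : ∀ m, m ∈ Ω ↔ m ∈ MulAction.orbit K (p x) := fun m => by rw [hΩ, Set.Finite.mem_toFinset]
  have hne : (⟨w, h.wK⟩ : K) • p x ≠ p x := by
    rw [hwx]
    intro e
    rw [p_eq _ hsW _ hxW] at e
    refine hsU ?_
    have := mul_mem (h.DU (h.RD e)) (h.DU (h.VD hx))
    rwa [inv_mul_cancel_right] at this
  have hact' : ∀ (a : A) (m : M), f a • m = (Subgroup.inclusion h.AK a) • m := fun a m => rfl
  have hpxA : ∀ a : A, f a • (p x) = p x := fun a => hstab a (h.AK a.2) (mem_sup_left (mem_sup_right a.2))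
  have hΩeq : Ω = insert (p x) (Finset.univ.image fun q : f.range => q • p (w * x * w⁻¹)) := by
    ext m
    rw [hmem, Finset.mem_insert, Finset.mem_image]
    constructor
    · rintro ⟨g, rfl⟩
      change g • p x = p x ∨ _
      rcases bru g g.2 with h1 | ⟨a, ha, b, hb, e⟩
      · exact Or.inl (hstab g g.2 h1)
      · refine Or.inr ⟨⟨f ⟨a, ha⟩, ⟨a, ha⟩, rfl⟩, Finset.mem_univ _, ?_⟩
        have hbK : b ∈ K := by
          have e1 : b = (a * w)⁻¹ * g := by rw [e]; group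
          rw [e1]
          exact K.mul_mem (K.inv_mem (K.mul_mem (h.AK ha) h.wK)) g.2
        have e2 : g = (⟨a, h.AK ha⟩ : K) * (⟨w, h.wK⟩ * ⟨b, hbK⟩) := Subtype.ext (by
          rw [e]; change a * w * b = a * (w * b); group)
        change f ⟨a, ha⟩ • (p (w * x * w⁻¹)) = g • p x
        rw [e2, mul_smul, mul_smul, hstab b hbK hb, hwx]
        rfl
    · rintro (rfl | ⟨⟨_, a, rfl⟩, -, rfl⟩)
      · exact MulAction.mem_orbit_self _
      · change f a • (p (w * x * w⁻¹)) ∈ _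
        rw [← hwx, hact', ← mul_smul]
        exact MulAction.mem_orbit _ _
  have hΩsum : ∑ m ∈ Ω, m = p x := by
    rw [hΩeq, Finset.sum_insert, Finset.sum_image, hsum, add_zero]
    · rintro ⟨_, a, rfl⟩ - ⟨_, a', rfl⟩ - e
      change f a • (p (w * x * w⁻¹)) = f a' • (p (w * x * w⁻¹)) at e
      refine Subtype.ext ?_
      change f a = f a'
      have h1 : f (a⁻¹ * a') • (p (w * x * w⁻¹)) = p (w * x * w⁻¹) := by
        rw [map_mul, mul_smul, ← e, map_inv, inv_smul_smul]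
      have h2 : a⁻¹ * a' ∈ f.ker := by
        rw [hker, Subgroup.mem_subgroupOf]
        exact hfix _ h1
      rw [MonoidHom.mem_ker, map_mul, map_inv, inv_mul_eq_one] at h2
      exact h2
    · intro hm
      rw [Finset.mem_image] at hm
      obtain ⟨⟨_, a, rfl⟩, -, e⟩ := hm
      change f a • (p (w * x * w⁻¹)) = p x at e
      apply hne
      rw [hwx]
      apply smul_left_cancel (f a)
      rw [e, hpxA]
  have hinvar : (⟨w, h.wK⟩ : K) • ∑ m ∈ Ω, m = ∑ m ∈ Ω, m := by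
    rw [Finset.smul_sum]
    refine Finset.sum_nbij' (fun m => (⟨w, h.wK⟩ : K) • m) (fun m => (⟨w, h.wK⟩ : K)⁻¹ • m) ?_ ?_ ?_ ?_ ?_
    · intro m hm
      rw [hmem] at hm ⊢
      obtain ⟨g, rfl⟩ := hm
      exact ⟨_ * g, mul_smul _ _ _⟩
    · intro m hm
      rw [hmem] at hm ⊢
      obtain ⟨g, rfl⟩ := hm
      exact ⟨_ * g, mul_smul _ _ _⟩
    · intro m _; exact inv_smul_smul _ _
    · intro m _; exact smul_inv_smul _ _
    · intro m _; rfl
  rw [hΩsum] at hinvar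
  exact hne hinvar

/-- **(E7)** an element of `W` centralised by `C` modulo `R` lies in `R`; the only exception is `G₂(4)` -/
theorem cent_C [Finite G] (h : Cfg R W V U D A K L C Z T w) (AV : ∀ a ∈ A, ∀ v ∈ V, a * v = v * a)
    (sq : ∀ g ∈ W, g * g ∈ R) (A2 : IsPGroup 2 A) (hV : ¬ V ≤ R) (hU : ¬ U ≤ D)
    (bru : ∀ g ∈ K, g ∈ W ⊔ A ⊔ C ∨ ∃ a ∈ A, ∃ b ∈ W ⊔ A ⊔ C, g = a * w * b)
    (h3 : (∃ t ∈ T, t * t * t ≠ 1) ∨ 16 ≤ D.relIndex A) {m : G} (hm : m ∈ W)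
    (hC : ∀ c ∈ C, c * m * c⁻¹ * m⁻¹ ∈ R) : m ∈ R := by
  refine h.fix_of AV hV hU (fun v hv hvC => ?_) hm fun c hc => ⟨h.LR (h.CL hc), hC c hc⟩
  rcases h3 with ⟨t, ht, ht3⟩ | h16
  · exact h.V_fix_cube hv hvC ht ht3
  · exact h.V_fix_orbit AV sq A2 bru h16 hv hvC

end Cfg

end Cfsg.Agent.Omega.SQEnd
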