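import Cfsg.Agent.Omega.SQEnd.Line

/-!
# The configuration at the end of `b = 2`: `K / W = SL₂(k)` (bb OMEGA #12947, (E1)-(E5))

`K ⊴ N(R)`, `K / W = SL₂(k)`, `W A / W` a Sylow 2-subgroup of it, `w ∈ K` the Weyl element, `L` the abelian group of odd
order complementing `W A` in `N_X(R) N_K(V)`, `C = L ∩ K` (torus of `K`), `Z = C_L(K / W)`, `T = L ∩ X` (torus of `X`).
Conclusions: `D ∩ D^w = R` and `U = (D^w ∩ U) D`.
-/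

set_option autoImplicit false

universe u

namespace Cfsg.Agent.Omega.SQEnd

open Subgroup Cfsg.Agent.Omega.BTwo

variable {G : Type u} [Group G]

/-- The configuration. -/
structure Cfg (R W V U D A K L C Z T : Subgroup G) (w : G) : Prop extends Ln R W V U D A where
  AWD : A ⊓ W ≤ D
  WK : W ≤ K
  AK : A ≤ K
  KR : ∀ g ∈ K, ∀ a ∈ R, g * a = a * g
  KW : K ≤ normalizer (W : Set G)
  /- the torus -/
  CL : C ≤ L
  ZL : Z ≤ L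
  TL : T ≤ L
  CK : C ≤ K
  L_comm : ∀ x ∈ L, ∀ y ∈ L, x * y = y * x
  L_odd : ∀ x ∈ L, Odd (orderOf x)
  ZK : ∀ z ∈ Z, ∀ g ∈ K, z * g * z⁻¹ * g⁻¹ ∈ W
  dec : ∀ t ∈ T, ∃ c ∈ C, ∃ z ∈ Z, t = c * z
  LR : L ≤ normalizer (R : Set G)
  LW : L ≤ normalizer (W : Set G)
  LV : L ≤ normalizer (V : Set G)
  LU : L ≤ normalizer (U : Set G)
  LD : L ≤ normalizer (D : Set G)
  LA : L ≤ normalizer (A : Set G)
  /- the Weyl element -/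
  wK : w ∈ K
  w2 : w * w ∈ W
  wL : ∀ x ∈ L, w * x * w⁻¹ ∈ L
  wL' : ∀ x ∈ L, w⁻¹ * x * w ∈ L
  wC : ∀ c ∈ C, w * c * w⁻¹ = c⁻¹
  wZ : ∀ z ∈ Z, w * z * w⁻¹ = z
  WV : W ≤ normalizer (V : Set G)
  /-- `V` and `V^w` are opposite -/
  opp : ∀ x ∈ U, x ∈ cj w V → x ∈ R
  cov : ∀ m ∈ W, ∃ x ∈ cj w V, x⁻¹ * m ∈ U
  /-- `C` is transitive on `(A / D)#` -/
  Ctr : ∀ a ∈ A, a ∉ D → ∀ a' ∈ A, a' ∉ D → ∃ c ∈ C, (c * a * c⁻¹)⁻¹ * a' ∈ D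
  /- the torus of `X` -/
  T_ne : ∃ t ∈ T, t ≠ 1
  t1 : ∀ t ∈ T, t ≠ 1 → ∀ r ∈ R, t * r * t⁻¹ = r → r = 1
  t2 : ∀ v ∈ V, v ∉ R → ∀ v' ∈ V, v' ∉ R → ∃ t ∈ T, (t * v * t⁻¹)⁻¹ * v' ∈ R
  t3 : ∀ t ∈ T, ∀ d ∈ D, t * d * t⁻¹ * d⁻¹ ∈ V
  t4 : ∀ t ∈ T, ∀ m ∈ W, ∀ a ∈ A,
    (m * (t⁻¹ * a * t) * m⁻¹ * (t⁻¹ * a * t)⁻¹)⁻¹ * (t * (m * a * m⁻¹ * a⁻¹) * t⁻¹) ∈ D
  t5 : ∀ t ∈ T, ∀ v ∈ V, ∀ m ∈ W,
    t * (v * m * v⁻¹ * m⁻¹) * t⁻¹ = (t⁻¹ * v * t) * m * (t⁻¹ * v * t)⁻¹ * m⁻¹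
  t6 : ∀ t ∈ T, t ≠ 1 → ∀ u ∈ U, t * u * t⁻¹ * u⁻¹ ∈ D → u ∈ D

/-- conjugates of a line -/
theorem Ln.cj {R W V U D A : Subgroup G} (l : Ln R W V U D A) {g : G} (hR : g ∈ normalizer (R : Set G))
    (hW : g ∈ normalizer (W : Set G)) : Ln R W (cj g V) (cj g U) (cj g D) (cj g A) := by
  have hR' : BTwo.cj g R = R := cj_eq_self_iff.2 hR
  have hW' : BTwo.cj g W = W := cj_eq_self_iff.2 hW
  have hiW : ∀ x ∈ W, g⁻¹ * x * g ∈ W := fun x hx => conj_inv_mem_of_normalizer hW hx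
  have hR2 : ∀ x, g⁻¹ * x * g ∈ R → x ∈ R := fun x hx => by
    have := conj_mem_of_normalizer hR hx
    have e : g * (g⁻¹ * x * g) * g⁻¹ = x := by group
    rwa [e] at this
  have hW2 : ∀ x, g⁻¹ * x * g ∈ W → x ∈ W := fun x hx => by
    have := conj_mem_of_normalizer hW hx
    have e : g * (g⁻¹ * x * g) * g⁻¹ = x := by group
    rwa [e] at this
  have hcomm : ∀ x y : G, g⁻¹ * (x * y * x⁻¹ * y⁻¹) * g =
      (g⁻¹ * x * g) * (g⁻¹ * y * g) * (g⁻¹ * x * g)⁻¹ * (g⁻¹ * y * g)⁻¹ := fun x y => by group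
  exact {
    RV := by rw [← hR']; exact cj_mono l.RV
    VD := cj_mono l.VD
    DU := cj_mono l.DU
    UW := by rw [← hW']; exact cj_mono l.UW
    AW := by
      rw [← hW', normalizer_cj]
      exact cj_mono l.AW
    WW := l.WW
    UV := fun u hu v hv => by
      have := l.UV _ (mem_cj.1 hu) _ (mem_cj.1 hv)
      have e1 : u * v = g * ((g⁻¹ * u * g) * (g⁻¹ * v * g)) * g⁻¹ := by group
      rw [e1, this]; group
    cen := fun v hv hvR m hm h => by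
      refine mem_cj.2 (l.cen _ (mem_cj.1 hv) (fun h' => hvR (hR2 _ h')) _ (hiW m hm) ?_)
      have e1 : g⁻¹ * m * g * (g⁻¹ * v * g) = g⁻¹ * (m * v) * g := by group
      rw [e1, h]; group
    cenU := fun m hm h => by
      refine mem_cj.2 (l.cenU _ (hiW m hm) fun u hu => ?_)
      have := h (g * u * g⁻¹) (conj_mem_cj hu)
      calc g⁻¹ * m * g * u = g⁻¹ * (m * (g * u * g⁻¹)) * g := by group
        _ = g⁻¹ * (g * u * g⁻¹ * m) * g := by rw [this]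
        _ = u * (g⁻¹ * m * g) := by group
    UA := fun u hu a ha => by
      rw [mem_cj, hcomm]
      exact l.UA _ (mem_cj.1 hu) _ (mem_cj.1 ha)
    DA := fun u hu a ha => by
      rw [mem_cj, hcomm]
      exact l.DA _ (mem_cj.1 hu) _ (mem_cj.1 ha)
    DAR := fun d hd h => by
      refine mem_cj.2 (l.DAR _ (mem_cj.1 hd) fun a ha => ?_)
      have h1 := conj_inv_mem_of_normalizer hR (h (g * a * g⁻¹) (conj_mem_cj ha))
      rw [hcomm] at h1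
      have e : g⁻¹ * (g * a * g⁻¹) * g = a := by group
      rwa [e] at h1
    inj := fun m hm hmU a ha h => by
      refine mem_cj.2 (l.inj _ (hiW m hm) (fun h' => hmU (mem_cj.2 h')) _ (mem_cj.1 ha) ?_)
      rw [← hcomm]
      exact mem_cj.1 h
    surj := fun m hm hmU u hu => by
      obtain ⟨a, ha, h⟩ := l.surj _ (hiW m hm) (fun h' => hmU (mem_cj.2 h')) _ (mem_cj.1 hu)
      refine ⟨g * a * g⁻¹, conj_mem_cj ha, mem_cj.2 ?_⟩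
      have e : g⁻¹ * ((m * (g * a * g⁻¹) * m⁻¹ * (g * a * g⁻¹)⁻¹)⁻¹ * u) * g =
        ((g⁻¹ * m * g) * a * (g⁻¹ * m * g)⁻¹ * a⁻¹)⁻¹ * (g⁻¹ * u * g) := by group
      rwa [e] }

end Cfsg.Agent.Omega.SQEnd
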