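import Cfsg.Agent.Omega.SQEnd.E

/-!
# `K` is irreducible on `W / R` (bb OMEGA #12947)

Module-free: `C_{W / R}(A) = V / R`, every `K`-invariant `R < N ≤ W` meets `V` outside `R`, and `N = W` if the torus `C`
is irreducible on `V / R`.
-/

set_option autoImplicit false
set_option linter.unusedSimpArgs false
set_option linter.unusedSectionVars false

universe u

namespace Cfsg.Agent.Omega.SQEnd

open Subgroup Cfsg.Agent.Omega.BTwo

variable {G : Type u} [Group G]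

/-- Further input: `Z(W) = R`, `W = ⟨V^K⟩`, `[V, A] = 1`, the Bruhat decomposition of `K`, `U ≠ D`, `V ≠ R`. -/
structure CfgI (R W V U D A K L C Z T : Subgroup G) (w : G) : Prop extends Cfg R W V U D A K L C Z T w where
  rad : ∀ x ∈ W, (∀ y ∈ W, x * y = y * x) → x ∈ R
  gen : ∀ N : Subgroup G, (∀ g ∈ K, cj g V ≤ N) → W ≤ N
  VA : ∀ v ∈ V, ∀ a ∈ A, v * a = a * v
  bru : ∀ g ∈ K, g ∈ W ⊔ A ⊔ C ∨ ∃ a ∈ A, ∃ b ∈ W ⊔ A ⊔ C, g = a * w * b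
  hV : ¬ V ≤ R
  hU : ¬ U ≤ D

namespace CfgI

variable {R W V U D A K L C Z T : Subgroup G} {w : G}

section
variable (h : CfgI R W V U D A K L C Z T w)
include h

/-- (i) -/
theorem le_R_of_le_U {N : Subgroup G} (hN : K ≤ normalizer (N : Set G)) (hNU : N ≤ U) : N ≤ R := by
  intro n hn
  refine h.rad n (h.UW (hNU hn)) fun y hy => ?_
  have h1 : W ≤ centralizer {n} := by
    refine h.gen _ fun g hg v hv => ?_
    rw [mem_centralizer_singleton_iff]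
    have h2 := h.UV _ (hNU (conj_inv_mem_of_normalizer (hN hg) hn)) _ (mem_cj.1 hv)
    calc v * n = g * ((g⁻¹ * v * g) * (g⁻¹ * n * g)) * g⁻¹ := by group
      _ = g * ((g⁻¹ * n * g) * (g⁻¹ * v * g)) * g⁻¹ := by rw [h2]
      _ = n * v := by group
  exact (mem_centralizer_singleton_iff.1 (h1 hy)).symm

/-- a subgroup `S` between `R` and `W`, centralised by `g` modulo `R`, is normalised by `g`. -/
theorem norm_of_comm [Finite G] {S : Subgroup G} (hRS : R ≤ S) {g : G}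
    (hg : ∀ s ∈ S, g * s * g⁻¹ * s⁻¹ ∈ R) : g ∈ normalizer (S : Set G) := by
  rw [← cj_eq_self_iff]
  refine eq_of_le_of_card_ge (cj_le_iff.2 fun s hs => ?_) (card_cj g S).ge
  have := mul_mem (hRS (hg s hs)) hs
  rwa [inv_mul_cancel_right] at this

/-- `F = {x ∈ W : [x, A] ≤ R}` -/
theorem exists_F : ∃ F : Subgroup G, ∀ x, x ∈ F ↔ x ∈ W ∧ ∀ a ∈ A, x * a * x⁻¹ * a⁻¹ ∈ R := by
  refine ⟨{ carrier := {x | x ∈ W ∧ ∀ a ∈ A, x * a * x⁻¹ * a⁻¹ ∈ R}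
            one_mem' := ⟨one_mem _, fun a _ => by simp⟩
            mul_mem' := ?_
            inv_mem' := ?_ }, fun x => Iff.rfl⟩
  · rintro x y ⟨hx, hxa⟩ ⟨hy, hya⟩
    refine ⟨mul_mem hx hy, fun a ha => ?_⟩
    have e : x * y * a * (x * y)⁻¹ * a⁻¹ = x * (y * a * y⁻¹ * a⁻¹) * x⁻¹ * (x * a * x⁻¹ * a⁻¹) := by group
    rw [e, h.W_comm_R hx (hya a ha), mul_inv_cancel_right]
    exact mul_mem (hya a ha) (hxa a ha)
  · rintro x ⟨hx, hxa⟩
    refine ⟨inv_mem hx, fun a ha => ?_⟩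
    have e : x⁻¹ * a * x⁻¹⁻¹ * a⁻¹ = x⁻¹ * (x * a * x⁻¹ * a⁻¹)⁻¹ * x := by group
    rw [e, h.W_comm_R (inv_mem hx) (inv_mem (hxa a ha)), inv_mul_cancel_right]
    exact inv_mem (hxa a ha)

/-- (ii) `C_{W / R}(A) = V / R` -/
theorem F_le_V [Finite G] {x : G} (hx : x ∈ W) (hxa : ∀ a ∈ A, x * a * x⁻¹ * a⁻¹ ∈ R) : x ∈ V := by
  obtain ⟨F, hF⟩ := h.exists_F
  have l' := h.ln'
  have hRF : R ≤ F := fun r hr => (hF r).2 ⟨h.RW hr, fun a ha => by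
    have : r * a * r⁻¹ * a⁻¹ = 1 := by rw [← h.KR a (h.AK ha) r hr]; group
    rw [this]; exact one_mem _⟩
  have hVF : V ≤ F := fun v hv => (hF v).2 ⟨h.VW hv, fun a ha => by
    have : v * a * v⁻¹ * a⁻¹ = 1 := by rw [h.VA v hv a ha]; group
    rw [this]; exact one_mem _⟩
  have hFW : F ≤ W := fun x hx => ((hF x).1 hx).1
  have hFU : F ≤ U := by
    intro x hx
    by_contra hxU
    obtain ⟨hxW, hxa⟩ := (hF x).1 hx
    have hAD : ∀ a ∈ A, a ∈ D := fun a ha => h.inj x hxW hxU a ha (h.RD (hxa a ha))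
    refine h.hU fun u hu => ?_
    obtain ⟨a, ha, h1⟩ := h.surj x hxW hxU u hu
    have := mul_mem (h.RD (hxa a ha)) h1
    rwa [mul_inv_cancel_left] at this
  -- `L`, `A`, `W` normalise `F`
  have hLF : L ≤ normalizer (F : Set G) := by
    intro g hg
    rw [← cj_eq_self_iff]
    refine eq_of_le_of_card_ge (cj_le_iff.2 fun s hs => ?_) (card_cj g F).ge
    obtain ⟨hsW, hsa⟩ := (hF s).1 hs
    refine (hF _).2 ⟨conj_mem_of_normalizer (h.LW hg) hsW, fun a ha => ?_⟩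
    have e : g * s * g⁻¹ * a * (g * s * g⁻¹)⁻¹ * a⁻¹ =
      g * (s * (g⁻¹ * a * g) * s⁻¹ * (g⁻¹ * a * g)⁻¹) * g⁻¹ := by group
    rw [e]
    exact conj_mem_of_normalizer (h.LR hg) (hsa _ (conj_inv_mem_of_normalizer (h.LA hg) ha))
  -- `F₁ = F ∩ D^w`
  set F₁ := F ⊓ BTwo.cj w D with hF₁
  have hRF₁ : R ≤ F₁ := le_inf hRF l'.RD
  have hAF₁ : A ≤ normalizer (F₁ : Set G) := fun a ha => h.norm_of_comm hRF₁ fun s hs => by
    have h1 := ((hF s).1 hs.1).2 a ha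
    have e : a * s * a⁻¹ * s⁻¹ = (s * a * s⁻¹ * a⁻¹)⁻¹ := by group
    rw [e]; exact inv_mem h1
  have hWF₁ : W ≤ normalizer (F₁ : Set G) := fun a ha => h.norm_of_comm hRF₁ fun s hs =>
    h.WW _ ha _ (hFW hs.1)
  have hLF₁ : L ≤ normalizer (F₁ : Set G) := by
    intro g hg
    rw [← cj_eq_self_iff]
    refine eq_of_le_of_card_ge (cj_le_iff.2 fun s hs => ?_) (card_cj g F₁).ge
    exact ⟨conj_mem_of_normalizer (hLF hg) hs.1, conj_mem_of_normalizer (h.norm_cj h.LD hg) hs.2⟩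
  have hBF₁ : W ⊔ A ⊔ C ≤ normalizer (F₁ : Set G) := sup_le (sup_le hWF₁ hAF₁) (h.CL.trans hLF₁)
  have hAU : A ≤ normalizer (U : Set G) := by
    intro a ha
    rw [← cj_eq_self_iff]
    refine eq_of_le_of_card_ge (cj_le_iff.2 fun s hs => ?_) (card_cj a U).ge
    have h1 := mul_mem (inv_mem (h.DU (h.UA s hs a ha))) hs
    have e : (s * a * s⁻¹ * a⁻¹)⁻¹ * s = a * s * a⁻¹ := by group
    rwa [e] at h1
  have hAD : ∀ a ∈ A, ∀ d ∈ D, a * d * a⁻¹ ∈ D := by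
    intro a ha d hd
    have h1 := mul_mem (inv_mem (h.VD (h.DA d hd a ha))) hd
    have e : (d * a * d⁻¹ * a⁻¹)⁻¹ * d = a * d * a⁻¹ := by group
    rwa [e] at h1
  have hWU : W ≤ normalizer (U : Set G) := by
    intro a ha
    rw [← cj_eq_self_iff]
    exact eq_of_le_of_card_ge (cj_le_iff.2 fun s hs => h.conj_mem (h.RD.trans h.DU) h.UW ha hs) (card_cj a U).ge
  have hBU : W ⊔ A ⊔ C ≤ normalizer (U : Set G) := sup_le (sup_le hWU hAU) (h.CL.trans h.LU)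
  -- the normal closure of `F₁` is in `U`
  have h1 : ∀ g ∈ K, ∀ s ∈ F₁, g * s * g⁻¹ ∈ U := by
    intro g hg s hs
    rcases h.bru g hg with hg | ⟨a, ha, b, hb, rfl⟩
    · exact conj_mem_of_normalizer (hBU hg) (hFU hs.1)
    · have h2 := (conj_mem_of_normalizer (hBF₁ hb) hs).2
      have h3 : w * (b * s * b⁻¹) * w⁻¹ ∈ D := by
        have h4 := mem_cj.1 h2
        have h5 := h.conj_mem h.RD h.DW h.w2 h4
        have e : w * w * (w⁻¹ * (b * s * b⁻¹) * w) * (w * w)⁻¹ = w * (b * s * b⁻¹) * w⁻¹ := by group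
        rwa [e] at h5
      have e : a * w * b * s * (a * w * b)⁻¹ = a * (w * (b * s * b⁻¹) * w⁻¹) * a⁻¹ := by group
      rw [e]
      exact h.DU (hAD a ha _ h3)
  have h2 : F₁ ≤ R := by
    let N : Subgroup G := Subgroup.closure {x | ∃ g ∈ K, ∃ s ∈ F₁, x = g * s * g⁻¹}
    have hN : K ≤ normalizer (N : Set G) := by
      intro g hg
      rw [← cj_eq_self_iff]
      refine eq_of_le_of_card_ge ?_ (card_cj g N).ge
      have : N ≤ BTwo.cj g⁻¹ N := by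
        refine (closure_le _).2 ?_
        rintro _ ⟨k, hk, s, hs, rfl⟩
        refine mem_cj.2 (subset_closure ⟨g * k, mul_mem hg hk, s, hs, by group⟩)
      have h3 := cj_mono (g := g) this
      rwa [cj_cj_inv] at h3
    have hNU : N ≤ U := by
      refine (closure_le _).2 ?_
      rintro _ ⟨k, hk, s, hs, rfl⟩
      exact h1 k hk s hs
    intro s hs
    exact h.le_R_of_le_U hN hNU (subset_closure ⟨1, one_mem _, s, hs, by group⟩)
  -- `x = y d`, `y ∈ D^w ∩ U`, `[t, y] ∈ F₁`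
  have hxF : x ∈ F := (hF x).2 ⟨hx, hxa⟩
  obtain ⟨y, hy, hyU, hyx⟩ := h.E4 h.hV h.hU (hFU hxF)
  obtain ⟨t, ht, ht1⟩ := h.T_ne
  have htL := h.TL ht
  have hyW : y ∈ W := h.UW hyU
  have h3 : t * y * t⁻¹ * y⁻¹ ∈ F := by
    have h4 : t * x * t⁻¹ * x⁻¹ ∈ F := mul_mem (conj_mem_of_normalizer (hLF htL) hxF) (inv_mem hxF)
    have h5 := h.t3 t ht _ hyx
    have e : t * y * t⁻¹ * y⁻¹ = (t * x * t⁻¹ * x⁻¹) *
        (y * (t * (y⁻¹ * x) * t⁻¹ * (y⁻¹ * x)⁻¹)⁻¹ * y⁻¹) := by group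
    rw [e]
    exact mul_mem h4 (hVF (h.conj_mem h.RV h.VW hyW (inv_mem h5)))
  have h3' : t * y * t⁻¹ * y⁻¹ ∈ BTwo.cj w D :=
    mul_mem (conj_mem_of_normalizer (h.norm_cj h.LD htL) hy) (inv_mem hy)
  have h4 : t * y * t⁻¹ * y⁻¹ ∈ R := h2 ⟨h3, h3'⟩
  have h5 := h.t6 t ht ht1 y hyU (h.RD h4)
  have h6 := mul_mem h5 hyx
  rw [mul_inv_cancel_left] at h6
  exact h.DAR x h6 hxa

/-- (iii) -/
theorem not_inf_le [Finite G] {N : Subgroup G} (hN : K ≤ normalizer (N : Set G)) (hNW : N ≤ W)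
    (hNR : ¬ N ≤ R) : ¬ N ⊓ V ≤ R := by
  intro hcon
  have h1 : ¬ N ≤ U := fun h' => hNR (h.le_R_of_le_U hN h')
  obtain ⟨n, hn, hnU⟩ := SetLike.not_le_iff_exists.1 h1
  have hcN : ∀ m ∈ N, ∀ a ∈ A, m * a * m⁻¹ * a⁻¹ ∈ N := by
    intro m hm a ha
    have e : m * a * m⁻¹ * a⁻¹ = m * (a * m⁻¹ * a⁻¹) := by group
    rw [e]
    exact mul_mem hm (conj_mem_of_normalizer (hN (h.AK ha)) (inv_mem hm))
  have hND : N ⊓ D ≤ R := fun d hd => hcon ⟨hd.1, h.DAR d hd.2 fun a ha => hcon ⟨hcN d hd.1 a ha, h.DA d hd.2 a ha⟩⟩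
  have hNU : N ⊓ U ≤ R := fun u hu => hcon ⟨hu.1, h.F_le_V (hNW hu.1) fun a ha =>
    hND ⟨hcN u hu.1 a ha, h.UA u hu.2 a ha⟩⟩
  refine h.hU fun u hu => ?_
  obtain ⟨a, ha, h2⟩ := h.surj n (hNW hn) hnU u hu
  have h3 : n * a * n⁻¹ * a⁻¹ ∈ U := by
    have := mul_mem hu (inv_mem (h.DU h2))
    have e : u * ((n * a * n⁻¹ * a⁻¹)⁻¹ * u)⁻¹ = n * a * n⁻¹ * a⁻¹ := by group
    rwa [e] at this
  have h4 := mul_mem (h.RD (hNU ⟨hcN n hn a ha, h3⟩)) h2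
  rwa [mul_inv_cancel_left] at h4

/-- (iv) `K` is irreducible on `W / R` if `C` is irreducible on `V / R`. -/
theorem irr [Finite G] (ci : ∀ S : Subgroup G, R ≤ S → S ≤ V → C ≤ normalizer (S : Set G) → ¬ S ≤ R → V ≤ S)
    {N : Subgroup G} (hRN : R ≤ N) (hNW : N ≤ W) (hN : K ≤ normalizer (N : Set G)) (hne : N ≠ R) : N = W := by
  have h1 : ¬ N ≤ R := fun h' => hne (le_antisymm h' hRN)
  have h2 := h.not_inf_le hN hNW h1
  have h3 : V ≤ N := (ci (N ⊓ V) (le_inf hRN h.RV) inf_le_right (fun g hg => by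
    rw [← cj_eq_self_iff, cj_inf, cj_eq_self_iff.2 (hN (h.CK hg)), cj_eq_self_iff.2 (h.LV (h.CL hg))]) h2).trans
      inf_le_left
  refine le_antisymm hNW (h.gen N fun g hg => ?_)
  have h4 := cj_mono (g := g) h3
  rwa [cj_eq_self_iff.2 (hN hg)] at h4

/-- `c² = t³` on `V / R` -/
theorem c_sq {t c z v : G} (ht : t ∈ T) (hc : c ∈ C) (hz : z ∈ Z) (htc : t = c * z) (hv : v ∈ V) :
    (t * t * t)⁻¹ * (c * c) ∈ St R v := by
  have hcL := h.CL hc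
  have htL := h.TL ht
  have hx : w⁻¹ * v * w ∈ BTwo.cj w V := by
    rw [← mem_cj, h.cj_cj_V]; exact hv
  have h1 := (h.E3 ht hx).2
  have h2 := h.tww hc hz htc
  have h3 := conj_mem_of_normalizer h.w_R h1
  have hct : c⁻¹ * t = t * c⁻¹ := h.L_comm _ (inv_mem hcL) _ htL
  have hcc : c⁻¹ * c⁻¹ * t = t * c⁻¹ * c⁻¹ := by rw [mul_assoc, hct, ← mul_assoc, hct]
  have h4 : w * t * w⁻¹ = t * c⁻¹ * c⁻¹ := by
    have : z = c⁻¹ * t := by rw [htc]; group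
    rw [h.tw hc hz htc, this, ← mul_assoc, hcc]
  have h5 : t * t * (t * c⁻¹ * c⁻¹) ∈ St R v := by
    refine ⟨h.LR (mul_mem (mul_mem htL htL) (mul_mem (mul_mem htL (inv_mem hcL)) (inv_mem hcL))), ?_⟩
    have e : w * ((w * t * w⁻¹) * (w * t * w⁻¹) * t * (w⁻¹ * v * w) * ((w * t * w⁻¹) * (w * t * w⁻¹) * t)⁻¹ *
        (w⁻¹ * v * w)⁻¹) * w⁻¹ = (w * (w * t * w⁻¹) * w⁻¹) * (w * (w * t * w⁻¹) * w⁻¹) * (w * t * w⁻¹) * v *
        ((w * (w * t * w⁻¹) * w⁻¹) * (w * (w * t * w⁻¹) * w⁻¹) * (w * t * w⁻¹))⁻¹ * v⁻¹ := by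
      simp only [mul_inv_rev, inv_inv, mul_assoc, mul_inv_cancel_left, inv_mul_cancel_left, mul_inv_cancel,
        inv_mul_cancel, mul_one, one_mul]
    rw [e, h2, h4] at h3
    exact h3
  have h6 := inv_mem h5
  have e : (t * t * (t * c⁻¹ * c⁻¹))⁻¹ = c * c * (t * t * t)⁻¹ := by
    simp only [mul_inv_rev, inv_inv, mul_assoc]
  rw [e] at h6
  rwa [h.L_comm _ (inv_mem (mul_mem (mul_mem htL htL) htL)) _ (mul_mem hcL hcL)]

end

end CfgI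

end Cfsg.Agent.Omega.SQEnd
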