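import Cfsg.Agent.Omega.SQEnd.KTor
import Cfsg.Agent.Omega.SQEnd.Irr

/-!
# From `KD` to `Cfg`, part 3: `L` is abelian, `L = C Z`, the Weyl element, the theorem
-/

set_option autoImplicit false
set_option linter.unusedSectionVars false

universe u v w z

namespace Cfsg.Agent.Omega.SQEnd

open Subgroup Cfsg.Agent.Omega.BTwo Cfsg.Agent.Lib.SL2Mat Cfsg.Agent.Omega.Hex

section weyl

variable {k : Type w} [Field k] [CharP k 2]

theorem sq_eq_one {x : k} (h : x ^ 2 = 1) : x = 1 := by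
  have h1 : (x + 1) ^ 2 = 0 := by
    have h2 : (2 : k) = 0 := CharTwo.two_eq_zero
    linear_combination h + (x + 1) * h2
  exact CharTwo.add_eq_zero.1 ((pow_eq_zero_iff two_ne_zero).1 h1)

theorem dg_of_ent {A : Matrix.SpecialLinearGroup (Fin 2) k} (h10 : ent A 1 0 = 0) (h01 : ent A 0 1 = 0) :
    wm 1 one_ne_zero * A * (wm 1 one_ne_zero)⁻¹ = A⁻¹ := by
  rw [mul_inv_eq_iff_eq_mul, ent_inv]
  refine ext_ent ?_ ?_ ?_ ?_ <;> simp [ent_mul, h10, h01]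

/-- the Weyl element of the torus normalised by an abelian group of upper triangular matrices -/
theorem exists_weyl {S : Set (Matrix.SpecialLinearGroup (Fin 2) k)} (hS : ∀ A ∈ S, ent A 1 0 = 0)
    (hc : ∀ A ∈ S, ∀ B ∈ S, A * B = B * A) {A₁ : Matrix.SpecialLinearGroup (Fin 2) k} (h₁ : A₁ ∈ S)
    (hne : ent A₁ 0 0 ≠ 1) :
    ∃ n : Matrix.SpecialLinearGroup (Fin 2) k, n * n = 1 ∧ ent n 1 0 ≠ 0 ∧ ∀ A ∈ S, n * A * n⁻¹ = A⁻¹ := by
  set l := ent A₁ 0 0 with hl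
  have hd := det_eq A₁
  rw [hS A₁ h₁, mul_zero, sub_zero, ← hl] at hd
  have hl0 : l ≠ 0 := left_ne_zero_of_mul_eq_one hd
  have hl1 : l - ent A₁ 1 1 ≠ 0 := by
    intro h
    apply hne
    apply sq_eq_one
    linear_combination hd + l * h
  set u := ent A₁ 0 1 / (l - ent A₁ 1 1) with hu
  have key : ∀ A, ent A 1 0 = 0 → ent (up u * A * (up u)⁻¹) 1 0 = 0 ∧ ent (up u * A * (up u)⁻¹) 0 0 = ent A 0 0 ∧
      ent (up u * A * (up u)⁻¹) 1 1 = ent A 1 1 ∧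
      ent (up u * A * (up u)⁻¹) 0 1 = ent A 0 1 + u * ent A 1 1 - u * ent A 0 0 := by
    intro A hA
    rw [up_inv]
    refine ⟨?_, ?_, ?_, ?_⟩
    · simp [ent_mul, hA]
    · simp [ent_mul, hA]
    · simp [ent_mul, hA]
    · simp only [ent_mul, up_00, up_01, up_10, up_11, hA]; ring
  have h1 : ent (up u * A₁ * (up u)⁻¹) 0 1 = 0 := by
    rw [(key A₁ (hS A₁ h₁)).2.2.2, ← hl, hu]
    field_simp
    ring
  have h2 : ∀ A ∈ S, ent (up u * A * (up u)⁻¹) 0 1 = 0 := by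
    intro A hA
    have h3 : (up u * A₁ * (up u)⁻¹) * (up u * A * (up u)⁻¹) = (up u * A * (up u)⁻¹) * (up u * A₁ * (up u)⁻¹) := by
      calc (up u * A₁ * (up u)⁻¹) * (up u * A * (up u)⁻¹) = up u * (A₁ * A) * (up u)⁻¹ := by group
        _ = up u * (A * A₁) * (up u)⁻¹ := by rw [hc A₁ h₁ A hA]
        _ = _ := by group
    have h4 := congrArg (fun z => ent z 0 1) h3
    simp only [ent_mul (up u * A₁ * (up u)⁻¹), ent_mul (up u * A * (up u)⁻¹) (up u * A₁ * (up u)⁻¹)] at h4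
    rw [h1, (key A₁ (hS A₁ h₁)).2.1, (key A₁ (hS A₁ h₁)).2.2.1, ← hl] at h4
    have h5 : (l - ent A₁ 1 1) * ent (up u * A * (up u)⁻¹) 0 1 = 0 := by linear_combination h4
    exact (mul_eq_zero.1 h5).resolve_left hl1
  have hw2 : wm (1 : k) one_ne_zero * wm 1 one_ne_zero = 1 := by
    refine ext_ent ?_ ?_ ?_ ?_ <;> simp [ent_mul, CharTwo.neg_eq]
  refine ⟨(up u)⁻¹ * wm 1 one_ne_zero * up u, ?_, ?_, fun A hA => ?_⟩
  · calc (up u)⁻¹ * wm 1 one_ne_zero * up u * ((up u)⁻¹ * wm 1 one_ne_zero * up u) =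
        (up u)⁻¹ * (wm 1 one_ne_zero * wm 1 one_ne_zero) * up u := by group
      _ = 1 := by rw [hw2]; group
  · rw [up_inv]
    simp [ent_mul]
  · have h3 := dg_of_ent (key A (hS A hA)).1 (h2 A hA)
    calc (up u)⁻¹ * wm 1 one_ne_zero * up u * A * ((up u)⁻¹ * wm 1 one_ne_zero * up u)⁻¹ =
        (up u)⁻¹ * (wm 1 one_ne_zero * (up u * A * (up u)⁻¹) * (wm 1 one_ne_zero)⁻¹) * up u := by group
      _ = A⁻¹ := by rw [h3]; group

end weyl

section torus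

variable {G : Type u} [Group G] {ι : Type v} {V : Subgroup G} {R : ι → Subgroup G} {i j : ι} {k : Type w}
  [Field k] {K L : Subgroup G} {φ : K →* Matrix.SpecialLinearGroup (Fin 2) k}

/-- `l` acts on `A / D` by the scalar `κ` -/
def Sc (V : Subgroup G) (R : ι → Subgroup G) (j : ι) (φ : K →* Matrix.SpecialLinearGroup (Fin 2) k) (l : G) (κ : k) :
    Prop := ∀ a ∈ UU V R j, pk φ (l * a * l⁻¹) = κ * pk φ a

namespace LD

variable (ld : LD V R i j K L)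
include ld

theorem odd_order {l : G} (hl : l ∈ L) : Odd (orderOf l) := by
  refine ld.odd.of_dvd_nat ?_
  rw [← Nat.card_zpowers]
  exact card_dvd_of_le (zpowers_le.2 hl)

variable (b : BTC V R) (kd : KD V R i j K φ)
include b kd

omit kd in
theorem conjU {l a : G} (hl : l ∈ L) (ha : a ∈ UU V R j) : l * a * l⁻¹ ∈ UU V R j := by
  have h1 := conj_mem_cj (g := l) ha
  rwa [b.cj_UU (ld.NV hl) (cj_eq_self_iff.2 (ld.Nj hl))] at h1

theorem ent10 {c : G} (hc : c ∈ L) (hcK : c ∈ K) : ent (φ ⟨c, hcK⟩) 1 0 = 0 :=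
  kd.ent_of_mem b ⟨c, hcK⟩ (kd.S_normal b (ld.Ni hc) (ld.NV hc))

theorem eq_one_of_ent [Finite G] {c : G} (hc : c ∈ L) (hcK : c ∈ K) (h : ent (φ ⟨c, hcK⟩) 0 0 = 1) : c = 1 := by
  have h1 := eq_up_of_ent (ld.ent10 b kd hc hcK) h
  have h2 := kd.mem_Y b ((kd.mem_iff ⟨c, hcK⟩).2 ⟨_, h1⟩) (ld.Nj hc)
  have h3 : c ∈ YY V R ⊓ L := mem_inf.2 ⟨h2, hc⟩
  rwa [inf_eq_bot_of_odd (Y_two b.toBT) ld.odd, mem_bot] at h3

omit ld in
theorem Sc_mul {l l' : G} {x x' : k} (hl' : ∀ a ∈ UU V R j, l' * a * l'⁻¹ ∈ UU V R j) (h : Sc V R j φ l x)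
    (h' : Sc V R j φ l' x') : Sc V R j φ (l * l') (x * x') := by
  have _ := b
  have _ := kd
  intro a ha
  have e : l * l' * a * (l * l')⁻¹ = l * (l' * a * l'⁻¹) * l⁻¹ := by group
  rw [e, h _ (hl' a ha), h' a ha, mul_assoc]

theorem Sc_inv {l : G} {x : k} (hl : l ∈ L) (h : Sc V R j φ l x) : Sc V R j φ l⁻¹ x⁻¹ := by
  intro a ha
  have h1 := h _ (ld.conjU b (inv_mem hl) ha)
  have e : l * (l⁻¹ * a * l⁻¹⁻¹) * l⁻¹ = a := by group
  rw [e] at h1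
  by_cases hx : x = 0
  · -- impossible unless everything is trivial
    obtain ⟨a₀, ha₀, h0⟩ := pk_surj kd b 1
    have h2 := h _ (ld.conjU b (inv_mem hl) ha₀)
    have e2 : l * (l⁻¹ * a₀ * l⁻¹⁻¹) * l⁻¹ = a₀ := by group
    rw [e2, h0, hx, zero_mul] at h2
    exact absurd h2 one_ne_zero
  · rw [h1, ← mul_assoc, inv_mul_cancel₀ hx, one_mul]

/-- elements of `C` -/
theorem Sc_C {c : G} (hc : c ∈ L) (hcK : c ∈ K) : Sc V R j φ c (ent (φ ⟨c, hcK⟩) 0 0 ^ 2) := fun a ha =>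
  pk_conj kd hcK (ld.ent10 b kd hc hcK) (le_sup_right (a := WW V (R i)) ha)

theorem eq_one_of_Sc [Finite G] {c : G} (hc : c ∈ L) (hcK : c ∈ K) (h : Sc V R j φ c 1) : c = 1 := by
  have := kd.charP b
  apply ld.eq_one_of_ent b kd hc hcK
  obtain ⟨a, ha, h0⟩ := pk_surj kd b 1
  have h1 := ld.Sc_C b kd hc hcK a ha
  rw [h a ha, h0, mul_one, mul_one] at h1
  exact sq_eq_one h1.symm

theorem NK {l : G} (hl : l ∈ L) : l ∈ normalizer (K : Set G) := by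
  have _ := b
  exact kd.NK (ld.Ni hl)

variable [Finite G] {F : Type z} [Field F] [Finite F]
  [CharP F 2] {v : F → F → G} {w1 w2 : F → G} (c : Coord V R i j v w1 w2)
  (NAe : ∀ g ∈ normalizer (R i : Set G), cj g (WW V (R i) ⊔ UU V R j) = WW V (R i) ⊔ UU V R j → cj g V = V)
include c NAe

theorem exists_Sc {l : G} (hl : l ∈ L) : ∃ x : k, x ≠ 0 ∧ Sc V R j φ l x := by
  obtain ⟨c', hc', hcK, t, ht, htX, rfl⟩ := ld.CT l hl
  obtain ⟨κ, hκ, h⟩ := exists_scal b c kd NAe (t := t) ⟨htX, ld.Ni ht, ld.Nj ht⟩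
  have hd := det_eq (φ ⟨c', hcK⟩)
  rw [ld.ent10 b kd hc' hcK, mul_zero, sub_zero] at hd
  exact ⟨_, mul_ne_zero (pow_ne_zero 2 (left_ne_zero_of_mul_eq_one hd)) hκ,
    Sc_mul b kd (fun a ha => ld.conjU b ht ha) (ld.Sc_C b kd hc' hcK) h⟩

/-- every scalar is induced by `C` -/
theorem exists_C {x : k} (hx : x ≠ 0) : ∃ c' ∈ L, ∃ hcK : c' ∈ K, ent (φ ⟨c', hcK⟩) 0 0 = x := by
  obtain ⟨g, hg, h⟩ := exists_ent b c kd NAe hx
  obtain ⟨y, hy, c', hc', hcK, e⟩ := ld.K_mul g hg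
  refine ⟨c', hc', hcK, ?_⟩
  obtain ⟨h1, h2⟩ := h hg.1
  have hyS : y ∈ WW V (R i) ⊔ UU V R j := by
    rw [kd.S_eq b]
    exact (le_sup_right : YY V R ≤ _) hy
  have e1 : (⟨g, hg.1⟩ : K) = ⟨y, kd.S_le hyS⟩ * ⟨c', hcK⟩ := Subtype.ext e
  rw [e1, map_mul, pk_eq kd hyS, ent_mul, up_00, up_01, ld.ent10 b kd hc' hcK, mul_zero, add_zero, one_mul] at h2
  exact h2

theorem comm_K {x y : G} (hx : x ∈ L) (hxK : x ∈ K) (hy : y ∈ L) : x * y = y * x := by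
  obtain ⟨s, hs, h1⟩ := ld.exists_Sc b kd c NAe hx
  obtain ⟨s', hs', h2⟩ := ld.exists_Sc b kd c NAe hy
  have h3 := ld.Sc_inv b kd hx h1
  have h4 := ld.Sc_inv b kd hy h2
  have h5 : Sc V R j φ (x * (y * (x⁻¹ * y⁻¹))) (s * (s' * (s⁻¹ * s'⁻¹))) :=
    Sc_mul b kd (fun a ha => ld.conjU b (mul_mem hy (mul_mem (inv_mem hx) (inv_mem hy))) ha) h1
      (Sc_mul b kd (fun a ha => ld.conjU b (mul_mem (inv_mem hx) (inv_mem hy)) ha) h2
        (Sc_mul b kd (fun a ha => ld.conjU b (inv_mem hy) ha) h3 h4))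
  have e1 : s * (s' * (s⁻¹ * s'⁻¹)) = 1 := by
    field_simp
  rw [e1] at h5
  have h6 : x * (y * (x⁻¹ * y⁻¹)) ∈ K := by
    have e : x * (y * (x⁻¹ * y⁻¹)) = x * (y * x⁻¹ * y⁻¹) := by group
    rw [e]
    exact mul_mem hxK (conj_mem_of_normalizer (ld.NK b kd hy) (inv_mem hxK))
  have h7 := ld.eq_one_of_Sc b kd (mul_mem hx (mul_mem hy (mul_mem (inv_mem hx) (inv_mem hy)))) h6 h5
  have e2 : x * (y * (x⁻¹ * y⁻¹)) = x * y * (y * x)⁻¹ := by group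
  rw [e2, mul_inv_eq_one] at h7
  exact h7

theorem comm_X (hC : centralizer (WW V (R i) : Set G) ≤ R i) {x y : G} (hx : x ∈ L) (hxX : x ∈ XX V R) (hy : y ∈ L)
    (hyX : y ∈ XX V R) : x * y = y * x := by
  obtain ⟨M, _, _, p1, p2, ym⟩ := c.exists_yMod b.toBT
  obtain ⟨s, hs, h1, -⟩ := Tor.exists_tor ym b.toBT c hxX (ld.Ni hx) (ld.Nj hx)
  obtain ⟨s', hs', h2, -⟩ := Tor.exists_tor ym b.toBT c hyX (ld.Ni hy) (ld.Nj hy)
  have hinv : ∀ {t : G} {r : F}, r ≠ 0 → (∀ d e, t * v d e * t⁻¹ = v (r * d) (r⁻¹ * e)) →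
      ∀ d e, t⁻¹ * v d e * t = v (r⁻¹ * d) (r * e) := by
    intro t r hr h d e
    have h3 := h (r⁻¹ * d) (r * e)
    rw [← mul_assoc, ← mul_assoc, mul_inv_cancel₀ hr, inv_mul_cancel₀ hr, one_mul, one_mul] at h3
    rw [← h3]; group
  have hL : x * y * x⁻¹ * y⁻¹ ∈ L := mul_mem (mul_mem (mul_mem hx hy) (inv_mem hx)) (inv_mem hy)
  have h5 : x * y * x⁻¹ * y⁻¹ = 1 := by
    refine Tor.eq_one_or ym b.toBT c
      (mul_mem (mul_mem (mul_mem hxX hyX) (inv_mem hxX)) (inv_mem hyX)) (ld.Ni hL) (ld.Nj hL) (fun d e => ?_)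
      (ld.odd_order hL) hC
    have e1 : x * y * x⁻¹ * y⁻¹ * v d e * (x * y * x⁻¹ * y⁻¹)⁻¹ =
      x * (y * (x⁻¹ * (y⁻¹ * v d e * y) * x) * y⁻¹) * x⁻¹ := by group
    rw [e1, hinv hs' h2, hinv hs h1, h2, h1]
    congr 1 <;> field_simp
  rw [mul_inv_eq_one, mul_inv_eq_iff_eq_mul] at h5
  exact h5

theorem L_comm (hC : centralizer (WW V (R i) : Set G) ≤ R i) : ∀ x ∈ L, ∀ y ∈ L, x * y = y * x := by
  intro x hx y hy
  obtain ⟨c₁, h1, h1K, t₁, ht₁, ht₁X, rfl⟩ := ld.CT x hx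
  obtain ⟨c₂, h2, h2K, t₂, ht₂, ht₂X, rfl⟩ := ld.CT y hy
  have e1 := ld.comm_K b kd c NAe h1 h1K hy
  have e2 := ld.comm_K b kd c NAe h2 h2K ht₁
  have e3 := ld.comm_X b kd c NAe hC ht₁ ht₁X ht₂ ht₂X
  calc c₁ * t₁ * (c₂ * t₂) = c₁ * (t₁ * c₂) * t₂ := by group
    _ = c₁ * (c₂ * t₁) * t₂ := by rw [e2]
    _ = c₁ * c₂ * (t₁ * t₂) := by group
    _ = c₁ * (c₂ * t₂) * t₁ := by rw [e3]; group
    _ = c₂ * t₂ * (c₁ * t₁) := by rw [e1]; group

/-- `L = C Z` -/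
theorem dec {l : G} (hl : l ∈ L) :
    ∃ c' ∈ L ⊓ K, ∃ z ∈ L ⊓ cenMod (WW V (R i)) K, l = c' * z := by
  have := kd.finite
  have := kd.charP b
  obtain ⟨κ, hκ, h1⟩ := ld.exists_Sc b kd c NAe hl
  obtain ⟨r, hr⟩ := exists_sqrt κ
  have hr0 : r ≠ 0 := by
    rintro rfl
    exact hκ (by rw [← hr]; ring)
  obtain ⟨c', hc', hcK, hc2⟩ := ld.exists_C b kd c NAe hr0
  have h2 := ld.Sc_C b kd hc' hcK
  rw [hc2, hr] at h2
  have h3 : Sc V R j φ (c'⁻¹ * l) (κ⁻¹ * κ) :=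
    Sc_mul b kd (fun a ha => ld.conjU b hl ha) (ld.Sc_inv b kd hc' h2) h1
  rw [inv_mul_cancel₀ hκ] at h3
  have hz : c'⁻¹ * l ∈ L := mul_mem (inv_mem hc') hl
  refine ⟨c', mem_inf.2 ⟨hc', hcK⟩, c'⁻¹ * l, mem_inf.2 ⟨hz, ?_⟩, by group⟩
  set x := c'⁻¹ * l with hx
  have hxW : x ∈ normalizer (WW V (R i) : Set G) := normalizer_le_WW V (R i) (ld.Ni hz)
  obtain ⟨α, hα⟩ := exists_aut kd.surj kd.ker (ld.NK b kd hz) hxW
  have hconj : ∀ g : K, x * g * x⁻¹ ∈ K := fun g => conj_mem_of_normalizer (ld.NK b kd hz) g.2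
  have hαu : ∀ y : k, α (up y) = up y := by
    intro y
    obtain ⟨a, ha, hy⟩ := pk_surj kd b y
    have haS : a ∈ WW V (R i) ⊔ UU V R j := le_sup_right (a := WW V (R i)) ha
    have haS' : x * a * x⁻¹ ∈ WW V (R i) ⊔ UU V R j := le_sup_right (a := WW V (R i)) (ld.conjU b hz ha)
    have h4 := hα ⟨a, kd.S_le haS⟩ ⟨x * a * x⁻¹, kd.S_le haS'⟩ rfl
    rw [pk_eq kd haS, pk_eq kd haS', h3 a ha, one_mul, hy] at h4
    exact h4
  have hpow : ∀ n : ℕ, ∀ g g' : K, (g' : G) = x ^ n * g * (x ^ n)⁻¹ → (α ^ n) (φ g) = φ g' := by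
    intro n
    induction n with
    | zero =>
      intro g g' e
      have e1 : g' = g := Subtype.ext (by rw [e]; simp)
      rw [pow_zero, MulAut.one_apply, e1]
    | succ n ih =>
      intro g g' e
      have h5 : x ^ n * g * (x ^ n)⁻¹ ∈ K := conj_mem_of_normalizer (pow_mem (ld.NK b kd hz) n) g.2
      have h6 := ih g ⟨_, h5⟩ rfl
      rw [pow_succ', MulAut.mul_apply, h6]
      apply hα
      rw [e, pow_succ']
      change x * x ^ n * (g : G) * (x * x ^ n)⁻¹ = x * (x ^ n * g * (x ^ n)⁻¹) * x⁻¹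
      group
  have hα1 : α ^ orderOf x = 1 := by
    ext1 y
    obtain ⟨g, rfl⟩ := kd.surj y
    rw [hpow (orderOf x) g g (by rw [pow_orderOf_eq_one]; group), MulAut.one_apply]
  have hα2 := eq_one_of_up (ld.odd_order hz) hα1 hαu
  refine ⟨hxW, fun g hg => ?_⟩
  have h5 := hα ⟨g, hg⟩ ⟨x * g * x⁻¹, hconj ⟨g, hg⟩⟩ rfl
  rw [hα2, MulAut.one_apply] at h5
  have h6 : φ (⟨x * g * x⁻¹, hconj ⟨g, hg⟩⟩ * (⟨g, hg⟩ : K)⁻¹) = 1 := by
    rw [map_mul, map_inv, ← h5, mul_inv_cancel]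
  exact (kd.ker _).1 h6

end LD

section final

variable [Finite G] {F : Type z} [Field F] [Finite F] [CharP F 2] {v : F → F → G} {w1 w2 : F → G} (b : BTC V R)
  (c : Coord V R i j v w1 w2) (kd : KD V R i j K φ)
  (NAe : ∀ g ∈ normalizer (R i : Set G), cj g (WW V (R i) ⊔ UU V R j) = WW V (R i) ⊔ UU V R j → cj g V = V)
include b c kd NAe

theorem exists_ne_k {s : F} (hs : s ≠ 0) (hs1 : s ≠ 1) : ∃ l : k, l ≠ 0 ∧ l ≠ 1 := by
  obtain ⟨M, _, _, p1, p2, y⟩ := c.exists_yMod b.toBT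
  have hs' := inv_ne_zero hs
  have hX := c.hh_mem_X b.toBT s⁻¹
  have h1 := cj_eq_self_iff.1 (c.hh_R1 b.toBT hs')
  have h2 := cj_eq_self_iff.1 (c.hh_R2 b.toBT hs')
  obtain ⟨κ, hκ, h3⟩ := exists_scal b c kd NAe (t := hh w1 w2 s⁻¹) ⟨hX, h1, h2⟩
  refine ⟨κ, hκ, ?_⟩
  rintro rfl
  obtain ⟨e, he, hV, -, h4⟩ := Tor.exists_tor y b.toBT c hX h1 h2
  have h5 := (c.v_inj ((hV 1 0).symm.trans (c.hh_act hs' 1 0))).1
  rw [mul_one, mul_one] at h5
  obtain ⟨a, ha, h6⟩ := pk_surj kd b 1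
  obtain ⟨h7, h8⟩ := h4 a ha
  have h9 := (pk_eq_iff kd b h7 ha).1 (by rw [h3 a ha, one_mul])
  rw [← y.p2_eq_iff h7 ha, h8, h5, inv_inv] at h9
  have h10 : (s - 1) • p2 a = 0 := by rw [sub_smul, one_smul, h9, sub_self]
  have h11 := (y.ker2 a ha).1 ((smul_eq_zero.1 h10).resolve_left (sub_ne_zero.2 hs1))
  rw [(pk_eq_zero kd (le_sup_right (a := WW V (R i)) ha)).2 (D_le_W V R i h11)] at h6
  exact zero_ne_one h6

variable (ld : LD V R i j K L)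
include ld

omit kd NAe in
theorem exists_T_ne {s : F} (hs : s ≠ 0) (hs1 : s ≠ 1) : ∃ t ∈ L, t ∈ XX V R ∧ t ≠ 1 := by
  have hX := c.hh_mem_X b.toBT s
  have h1 := cj_eq_self_iff.1 (c.hh_R1 b.toBT hs)
  have h2 := cj_eq_self_iff.1 (c.hh_R2 b.toBT hs)
  obtain ⟨y, hy, t, ht, htX, e⟩ := ld.X_mul (hh w1 w2 s) ⟨hX, h1, h2⟩
  refine ⟨t, ht, htX, ?_⟩
  rintro rfl
  rw [mul_one] at e
  have h3 := mem_centralizer_iff.1 (YY_le_cen hy) _ (c.v_mem 1 0)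
  have h4 := c.hh_act hs 1 0
  rw [e, ← h3, mul_inv_cancel_right] at h4
  have h5 := (c.v_inj h4).1
  rw [mul_one] at h5
  exact hs1 h5.symm

/-- **the Weyl element** -/
theorem exists_w (hC : centralizer (WW V (R i) : Set G) ≤ R i) (hk : ∃ l : k, l ≠ 0 ∧ l ≠ 1) :
    ∃ (w : G) (hw : w ∈ K), ent (φ ⟨w, hw⟩) 1 0 ≠ 0 ∧ w * w ∈ WW V (R i) ∧ cj w L = L ∧
      (∀ x ∈ L ⊓ K, w * x * w⁻¹ = x⁻¹) ∧ ∀ x ∈ L ⊓ cenMod (WW V (R i)) K, w * x * w⁻¹ = x := by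
  have := kd.finite
  have := kd.charP b
  set W := WW V (R i) with hW
  obtain ⟨l, hl, hl1⟩ := hk
  obtain ⟨c₁, hc₁, hc₁K, h1⟩ := ld.exists_C b kd c NAe hl
  obtain ⟨n, hn2, hn10, hn⟩ := exists_weyl (S := {A | ∃ x ∈ L, ∃ hx : x ∈ K, φ ⟨x, hx⟩ = A})
    (by rintro _ ⟨x, hx, hxK, rfl⟩; exact ld.ent10 b kd hx hxK)
    (by
      rintro _ ⟨x, hx, hxK, rfl⟩ _ ⟨y, hy, hyK, rfl⟩
      rw [← map_mul, ← map_mul]
      exact congrArg φ (Subtype.ext (ld.comm_K b kd c NAe hx hxK hy)))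
    (A₁ := φ ⟨c₁, hc₁K⟩) ⟨c₁, hc₁, hc₁K, rfl⟩ (by rw [h1]; exact hl1)
  obtain ⟨w₀, hw₀⟩ := kd.surj n
  have hKW : K ≤ normalizer (W : Set G) := kd.K_le_N.trans (normalizer_le_WW V (R i))
  have hLW : L ≤ normalizer (W : Set G) := ld.Ni.trans (normalizer_le_WW V (R i))
  have hWL : W ⊓ L = ⊥ := inf_eq_bot_of_odd (b.W_isPGroup i) ld.odd
  have hidx : W.relIndex (W ⊔ L) = Nat.card L := by
    rw [relIndex_sup_of_le hLW, ← inf_relIndex_right, hWL, relIndex_bot_left]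
  have nt' : NT W (W ⊔ L) := ⟨le_sup_left, sup_le le_normalizer hLW, b.W_isPGroup i, by rw [hidx]; exact ld.odd⟩
  -- elements of `C`
  have hcC : ∀ g : K, φ g = n → ∀ x ∈ L, x ∈ K → (g : G) * x * (g : G)⁻¹ * x ∈ W := by
    intro g hg x hx hxK
    have h2 := hn _ ⟨x, hx, hxK, rfl⟩
    rw [← hg, ← map_inv, ← map_mul, ← map_mul, ← map_inv] at h2
    have h3 : φ (g * ⟨x, hxK⟩ * g⁻¹ * ⟨x, hxK⟩) = 1 := by
      rw [map_mul, h2, ← map_mul, inv_mul_cancel, map_one]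
    exact (kd.ker _).1 h3
  have hcZ : ∀ g ∈ K, ∀ x ∈ L ⊓ cenMod W K, g * x * g⁻¹ * x⁻¹ ∈ W := by
    intro g hg x hx
    have h2 := hx.2.2 g⁻¹ (inv_mem hg)
    have h3 := conj_mem_of_normalizer (hKW hg) h2
    have e : g * (x * g⁻¹ * x⁻¹ * g⁻¹⁻¹) * g⁻¹ = g * x * g⁻¹ * x⁻¹ := by group
    rwa [e] at h3
  have hle : cj (w₀ : G) L ≤ W ⊔ L := by
    rw [cj_le_iff]
    intro x hx
    obtain ⟨c', hc', z', hz', rfl⟩ := ld.dec b kd c NAe hx
    have h2 := hcC w₀ hw₀ c' hc'.1 hc'.2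
    have h3 := hcZ w₀ w₀.2 z' hz'
    have e : (w₀ : G) * (c' * z') * (w₀ : G)⁻¹ = ((w₀ : G) * c' * (w₀ : G)⁻¹ * c') * c'⁻¹ *
        (((w₀ : G) * z' * (w₀ : G)⁻¹ * z'⁻¹) * z') := by group
    rw [e]
    exact mul_mem (mul_mem ((le_sup_left : W ≤ _) h2) ((le_sup_right : L ≤ _) (inv_mem hc'.1)))
      (mul_mem ((le_sup_left : W ≤ _) h3) ((le_sup_right : L ≤ _) hz'.1))
  obtain ⟨m, hm, e1⟩ := nt'.conj (H := cj (w₀ : G) L) (K := L) ⟨hle, by rw [card_cj, hidx]⟩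
    ⟨le_sup_right, hidx.symm⟩
  have hmK := kd.WK hm
  have hmφ : φ ⟨m, hmK⟩ = 1 := (kd.ker _).2 hm
  have hwK : m * (w₀ : G) ∈ K := mul_mem hmK w₀.2
  have hwn : φ ⟨m * (w₀ : G), hwK⟩ = n := by
    have e2 : (⟨m * (w₀ : G), hwK⟩ : K) = ⟨m, hmK⟩ * w₀ := rfl
    rw [e2, map_mul, hmφ, one_mul, hw₀]
  have hcj : cj (m * (w₀ : G)) L = L := by rw [cj_mul, e1]
  have hwL : ∀ x ∈ L, m * (w₀ : G) * x * (m * (w₀ : G))⁻¹ ∈ L := fun x hx => by
    have := conj_mem_cj (g := m * (w₀ : G)) hx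
    rwa [hcj] at this
  refine ⟨m * (w₀ : G), hwK, by rw [hwn]; exact hn10, ?_, hcj, fun x hx => ?_, fun x hx => ?_⟩
  · have h2 : φ (⟨m * (w₀ : G), hwK⟩ * ⟨m * (w₀ : G), hwK⟩) = 1 := by rw [map_mul, hwn, hn2]
    exact (kd.ker _).1 h2
  · have h2 := hcC ⟨m * (w₀ : G), hwK⟩ hwn x hx.1 hx.2
    have h3 : m * (w₀ : G) * x * (m * (w₀ : G))⁻¹ * x ∈ W ⊓ L := mem_inf.2 ⟨h2, mul_mem (hwL x hx.1) hx.1⟩
    rw [hWL, mem_bot] at h3
    exact eq_inv_of_mul_eq_one_left h3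
  · have h2 := hcZ _ hwK x hx
    have h3 : m * (w₀ : G) * x * (m * (w₀ : G))⁻¹ * x⁻¹ ∈ W ⊓ L :=
      mem_inf.2 ⟨h2, mul_mem (hwL x hx.1) (inv_mem hx.1)⟩
    rw [hWL, mem_bot] at h3
    exact mul_inv_eq_one.1 h3

omit c in
theorem kin : KIn V R i j K φ := { kd := kd, NA := NAe }

/-- `K ∩ N(V) ≤ W A C` -/
theorem KNV_le : K ⊓ normalizer (V : Set G) ≤ WW V (R i) ⊔ UU V R j ⊔ (L ⊓ K) := by
  have _ := c
  rintro g ⟨hg, hgV⟩
  obtain ⟨j', hj'⟩ := b.perm g hgV j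
  have hgi : cj g (R i) = R i := cj_eq_self_iff.2 (kd.K_le_N hg)
  have hne : j' ≠ i := by
    rintro rfl
    exact kd.ne (b.R_index (cj_injective (hgi.trans hj'.symm)))
  obtain ⟨m, hm, e⟩ := b.trans i hne kd.ne.symm
  obtain ⟨y, hy, c', hc', hcK, e2⟩ := ld.K_mul (m * g) (mem_inf.2 ⟨mul_mem (kd.WK hm) hg,
    mem_inf.2 ⟨mul_mem (b.W_le_NV i hm) hgV, by rw [← cj_eq_self_iff, cj_mul, hj', e]⟩⟩)
  have hyS : y ∈ WW V (R i) ⊔ UU V R j := by
    rw [kd.S_eq b]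
    exact (le_sup_right : YY V R ≤ _) hy
  have e3 : g = (m⁻¹ * y) * c' := by
    rw [mul_assoc, ← e2]; group
  rw [e3]
  exact mul_mem ((le_sup_left : WW V (R i) ⊔ UU V R j ≤ _)
    (mul_mem (inv_mem ((le_sup_left : WW V (R i) ≤ WW V (R i) ⊔ UU V R j) hm)) hyS))
    ((le_sup_right : L ⊓ K ≤ _) (mem_inf.2 ⟨hc', hcK⟩))

/-- `X ∩ N(R i) ≤ W A T` -/
theorem XNR_le {x : G} (hx : x ∈ XX V R) (hxi : x ∈ normalizer (R i : Set G)) :
    ∃ p ∈ WW V (R i) ⊔ UU V R j, ∃ t ∈ L ⊓ XX V R, x = p * t := by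
  have _ := c
  have _ := NAe
  obtain ⟨j', hj'⟩ := b.perm x (b.X_le_NV hx) j
  have hgi : cj x (R i) = R i := cj_eq_self_iff.2 hxi
  have hne : j' ≠ i := by
    rintro rfl
    exact kd.ne (b.R_index (cj_injective (hgi.trans hj'.symm)))
  obtain ⟨m, hm, e⟩ := b.trans i hne kd.ne.symm
  obtain ⟨y, hy, t, ht, htX, e2⟩ := ld.X_mul (m * x) (mem_inf.2 ⟨mul_mem (W_le_X V R i hm) hx,
    mem_inf.2 ⟨mul_mem (b.W_le_N i hm) hxi, by rw [← cj_eq_self_iff, cj_mul, hj', e]⟩⟩)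
  have hyS : y ∈ WW V (R i) ⊔ UU V R j := by
    rw [kd.S_eq b]
    exact (le_sup_right : YY V R ≤ _) hy
  refine ⟨m⁻¹ * y, mul_mem (inv_mem ((le_sup_left : WW V (R i) ≤ WW V (R i) ⊔ UU V R j) hm)) hyS, t,
    mem_inf.2 ⟨ht, htX⟩, ?_⟩
  rw [mul_assoc, ← e2]; group

end final

end torus

section main

variable {G : Type u} [Group G] [Finite G] {ι : Type v} {V : Subgroup G} {R : ι → Subgroup G} {i j : ι} {k : Type w}
  [Field k] {K : Subgroup G} {φ : K →* Matrix.SpecialLinearGroup (Fin 2) k} {F : Type z} [Field F] [Finite F]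
  [CharP F 2] {v : F → F → G} {w1 w2 : F → G}

/-- **the configuration of `SQEnd`** from `BTC`, `Coord`, `KD` and `N_{N(R)}(W A) ≤ N(V)`. -/
theorem exists_cfgI (b : BTC V R) (c : Coord V R i j v w1 w2) (kd : KD V R i j K φ)
    (hC : centralizer (WW V (R i) : Set G) ≤ R i)
    (NAe : ∀ g ∈ normalizer (R i : Set G), cj g (WW V (R i) ⊔ UU V R j) = WW V (R i) ⊔ UU V R j → cj g V = V)
    (hF : 4 ≤ Nat.card F) :
    ∃ (L : Subgroup G) (w : G), CfgI (R i) (WW V (R i)) V (UU V R i) (DD V R) (UU V R j) K L (L ⊓ K)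
        (L ⊓ cenMod (WW V (R i)) K) (L ⊓ XX V R) w ∧ w ∉ normalizer (V : Set G) ∧ LD V R i j K L ∧
      (∀ g ∈ K, g ∈ normalizer (V : Set G) → g ∈ WW V (R i) ⊔ UU V R j ⊔ (L ⊓ K)) ∧
      (∀ x ∈ XX V R, x ∈ normalizer (R i : Set G) → ∃ p ∈ WW V (R i) ⊔ UU V R j, ∃ t ∈ L ⊓ XX V R, x = p * t) ∧
      Cpl (WW V (R i) ⊔ UU V R j) ((XX V R ⊓ normalizer (R i : Set G)) ⊔ (K ⊓ normalizer (V : Set G))) L := by
  have := kd.finite
  have := kd.charP b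
  obtain ⟨s, hs, hs1⟩ := exists_ne_one hF
  obtain ⟨L, ld, hcpl⟩ := exists_LD b c kd
  obtain ⟨w, hw, hw10, hw2, hwL, hwC, hwZ⟩ := exists_w b c kd NAe ld hC (exists_ne_k b c kd NAe hs hs1)
  have n := kin b kd NAe ld
  have hwV : w ∉ normalizer (V : Set G) := fun h => hw10 ((n.mem_NV_iff b.toBT (g := ⟨w, hw⟩)).1 h)
  have l := ln_of_bt b kd.ne hC
  obtain ⟨M, _, _, p1, p2, ym⟩ := c.exists_yMod b.toBT
  have hcF : Nat.card (R i) = Nat.card F := by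
    refine (Nat.card_eq_of_bijective (fun x : F => (⟨v x 0, (c.mem_R1 _).2 ⟨x, rfl⟩⟩ : R i)) ⟨?_, ?_⟩).symm
    · intro x y h
      exact (c.v_inj (congrArg Subtype.val h)).1
    · rintro ⟨y, hy⟩
      obtain ⟨x, hx⟩ := (c.mem_R1 y).1 hy
      exact ⟨x, Subtype.ext hx⟩
  have hcov : ∀ m ∈ WW V (R i), ∃ x ∈ cj w V, x⁻¹ * m ∈ UU V R i := fun m hm => n.cov b.toBT hw hwV hm
  have hwR : w ∈ normalizer (R i : Set G) := kd.K_le_N hw
  have hwW : w ∈ normalizer (WW V (R i) : Set G) := normalizer_le_WW V (R i) hwR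
  have hopp : ∀ x ∈ UU V R i, x ∈ cj w V → x ∈ R i := by
    intro x hx hxV
    by_contra hxR
    have l' := l.cj hwR hwW
    -- `V ≤ U^w`
    have h1 : V ≤ cj w (UU V R i) := fun y hy =>
      l'.cen x hxV hxR y (V_le_WW V (R i) hy) (l.UV x hx y hy).symm
    have h2 : cj w V ≤ UU V R i := by
      intro y hy
      refine mem_inf.2 ⟨?_, mem_centralizer_iff.2 fun a ha => (l'.UV a (h1 ha) y hy)⟩
      have := cj_mono (g := w) (V_le_WW V (R i)) hy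
      rwa [cj_eq_self_iff.2 hwW] at this
    have h3 : WW V (R i) ≤ UU V R i := by
      intro m hm
      obtain ⟨y, hy, h4⟩ := hcov m hm
      have := mul_mem (h2 hy) h4
      rwa [mul_inv_cancel_left] at this
    have h4 := b.relIndex_U i
    rw [relIndex_eq_one.2 h3, hcF] at h4
    omega
  have hLW : L ≤ normalizer (WW V (R i) : Set G) := ld.Ni.trans (normalizer_le_WW V (R i))
  have hLU : L ≤ normalizer (UU V R i : Set G) := fun g hg => by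
    rw [← cj_eq_self_iff, b.cj_UU (ld.NV hg) (cj_eq_self_iff.2 (ld.Ni hg))]
  have hLA : L ≤ normalizer (UU V R j : Set G) := fun g hg => by
    rw [← cj_eq_self_iff, b.cj_UU (ld.NV hg) (cj_eq_self_iff.2 (ld.Nj hg))]
  have hT : ∀ t ∈ L ⊓ XX V R, t ∈ XX V R ∧ t ∈ normalizer (R i : Set G) ∧ t ∈ normalizer (R j : Set G) :=
    fun t ht => ⟨ht.2, ld.Ni ht.1, ld.Nj ht.1⟩
  have hX := fun (x : G) (hx : x ∈ XX V R) (hxi : x ∈ normalizer (R i : Set G)) => XNR_le b c kd NAe ld hx hxi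
  have hK := KNV_le b c kd NAe ld
  refine ⟨L, w, ?_, hwV, ld, fun g hg h => hK (mem_inf.2 ⟨hg, h⟩), hX, ?_⟩
  · exact
    { l with
      AWD := fun a ha => (mem_D_iff kd b ha.1).1 ha.2
      WK := kd.WK
      AK := kd.UK
      KR := kd.KR
      KW := kd.K_le_N.trans (normalizer_le_WW V (R i))
      CL := inf_le_left
      ZL := inf_le_left
      TL := inf_le_left
      CK := inf_le_right
      L_comm := ld.L_comm b kd c NAe hC
      L_odd := fun x hx => ld.odd_order hx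
      ZK := fun z hz g hg => hz.2.2 g hg
      dec := fun t ht => ld.dec b kd c NAe ht.1
      LR := ld.Ni
      LW := hLW
      LV := ld.NV
      LU := hLU
      LD := ld.NV.trans b.NV_le_ND
      LA := hLA
      wK := hw
      w2 := hw2
      wL := fun x hx => by
        have := conj_mem_cj (g := w) hx
        rwa [hwL] at this
      wL' := fun x hx => by
        rw [← hwL] at hx
        exact mem_cj.1 hx
      wC := hwC
      wZ := hwZ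
      WV := b.W_le_NV i
      opp := hopp
      cov := hcov
      Ctr := fun a ha haD a' ha' haD' => by
        have h1 : pk φ a ≠ 0 := fun h => haD ((mem_D_iff kd b ha).1
          ((pk_eq_zero kd (le_sup_right (a := WW V (R i)) ha)).1 h))
        have h2 : pk φ a' ≠ 0 := fun h => haD' ((mem_D_iff kd b ha').1
          ((pk_eq_zero kd (le_sup_right (a := WW V (R i)) ha')).1 h))
        obtain ⟨r, hr⟩ := exists_sqrt (pk φ a' / pk φ a)
        have hr0 : r ≠ 0 := by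
          rintro rfl
          have h3 : pk φ a' / pk φ a = 0 := by rw [← hr]; ring
          exact div_ne_zero h2 h1 h3
        obtain ⟨c', hc', hcK, h3⟩ := ld.exists_C b kd c NAe hr0
        have h4 := ld.Sc_C b kd hc' hcK a ha
        rw [h3, hr, div_mul_cancel₀ _ h1] at h4
        exact ⟨c', mem_inf.2 ⟨hc', hcK⟩, (pk_eq_iff kd b ha' (ld.conjU b hc' ha)).1 h4.symm⟩
      T_ne := by
        obtain ⟨t, ht, htX, h⟩ := exists_T_ne b c ld hs hs1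
        exact ⟨t, mem_inf.2 ⟨ht, htX⟩, h⟩
      t1 := fun t ht h1 => Tor.t1 ym b.toBT c (hT t ht).1 (hT t ht).2.1 (hT t ht).2.2 (ld.odd_order ht.1) hC h1
      t2 := Tor.t2 b.toBT c hX
      t3 := fun t ht => Tor.t3 ym b.toBT c (hT t ht).1 (hT t ht).2.1 (hT t ht).2.2
      t4 := fun t ht => Tor.t4 ym b.toBT c (hT t ht).1 (hT t ht).2.1 (hT t ht).2.2
      t5 := fun t ht => Tor.t5 ym b.toBT c (hT t ht).1 (hT t ht).2.1 (hT t ht).2.2
      t6 := fun t ht h1 => Tor.t6 ym b.toBT c (hT t ht).1 (hT t ht).2.1 (hT t ht).2.2 (ld.odd_order ht.1) hC h1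
      rad := fun x _ h => hC (mem_centralizer_iff.2 fun y hy => (h y hy).symm)
      gen := fun N hN => iSup_le fun g => by
        obtain ⟨x, hx, h⟩ := kd.frat b NAe g.2
        have e : (g : G) = x * (x⁻¹ * g) := by group
        rw [e, cj_mul, cj_eq_self_iff.2 h]
        exact hN x hx
      VA := fun x hx a ha => mem_centralizer_iff.1 (UU_le_cen j ha) x hx
      bru := fun g hg => by
        by_cases hgV : g ∈ normalizer (V : Set G)
        · exact Or.inl (hK (mem_inf.2 ⟨hg, hgV⟩))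
        · right
          obtain ⟨y, hy, e⟩ := n.exists_trans b.toBT (x := ⟨w, hw⟩) (x' := ⟨g, hg⟩) hw10
            (fun h0 => hgV (n.mem_NV_of b.toBT (g := ⟨g, hg⟩) h0))
          have hyY := hy
          rw [b.Y_eq kd.ne.symm] at hyY
          obtain ⟨a, ha, u, hu, rfl⟩ := exists_mul_of_le (A := UU V R j) (B := UU V R i)
            (fun g hg => by
              rw [← cj_eq_self_iff, b.cj_UU (cen_le_NV V (UU_le_cen i hg))
                (cj_eq_self_iff.2 (b.cen_le_N j (UU_le_cen i hg)))]) hyY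
          refine ⟨a, ha, (w⁻¹ * u * w) * ((a * u * w)⁻¹ * g), mul_mem ?_ (hK (mem_inf.2 ⟨?_, e⟩)), by group⟩
          · exact (le_sup_left : WW V (R i) ⊔ UU V R j ≤ _) ((le_sup_left : WW V (R i) ≤ _)
              (conj_inv_mem_of_normalizer hwW (UU_le_WW i hu)))
          · exact mul_mem (inv_mem (mul_mem (kd.Y_le_K b hy) hw)) hg
      hV := fun h => by
        obtain ⟨x, hx, hx1⟩ := b.exists_ne j
        have h1 := h (b.R_le j hx)
        obtain ⟨d, rfl⟩ := (c.mem_R1 _).1 h1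
        obtain ⟨e, he⟩ := (c.mem_R2 _).1 hx
        have h2 := (c.v_inj he).1
        rw [← h2, c.v_zero] at hx1
        exact hx1 rfl
      hU := fun h => by
        have h1 := n.relIndex_D b.toBT
        rw [relIndex_eq_one.2 h] at h1
        obtain ⟨l, hl, hl1⟩ := exists_ne_k b c kd NAe hs hs1
        have h2 : Nontrivial k := ⟨⟨l, 0, hl⟩⟩
        exact absurd h1.symm (Finite.one_lt_card_iff_nontrivial.2 h2).ne' }
  · have hSB : WW V (R i) ⊔ UU V R j ≤ (XX V R ⊓ normalizer (R i : Set G)) ⊔ (K ⊓ normalizer (V : Set G)) :=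
      (sup_le (le_inf kd.WK (b.W_le_NV i)) (le_inf kd.UK ((UU_le_cen j).trans (cen_le_NV V)))).trans le_sup_right
    have hLB : L ≤ (XX V R ⊓ normalizer (R i : Set G)) ⊔ (K ⊓ normalizer (V : Set G)) :=
      hcpl.HB.trans (sup_le ((inf_le_inf_left K inf_le_left).trans le_sup_right)
        ((inf_le_inf_left _ inf_le_left).trans le_sup_left))
    have hLS : L ≤ normalizer ((WW V (R i) ⊔ UU V R j : Subgroup G) : Set G) := fun g hg => by
      rw [← cj_eq_self_iff]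
      exact kd.S_normal b (ld.Ni hg) (ld.NV hg)
    have hB : (XX V R ⊓ normalizer (R i : Set G)) ⊔ (K ⊓ normalizer (V : Set G)) = (WW V (R i) ⊔ UU V R j) ⊔ L := by
      apply le_antisymm
      · refine sup_le ?_ ?_
        · rintro x ⟨hx, hxi⟩
          obtain ⟨p, hp, t, ht, rfl⟩ := hX x hx hxi
          exact mul_mem ((le_sup_left : WW V (R i) ⊔ UU V R j ≤ _) hp) ((le_sup_right : L ≤ _) ht.1)
        · exact hK.trans (sup_le_sup_left inf_le_left _)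
      · exact sup_le hSB hLB
    have hS2 : IsPGroup 2 (WW V (R i) ⊔ UU V R j : Subgroup G) := by
      rw [kd.S_eq b]
      exact (b.W_isPGroup i).to_sup_of_normal_right' (Y_two b.toBT) ((b.W_le_NV i).trans b.NV_le_NY)
    refine ⟨hLB, ?_⟩
    rw [hB, relIndex_sup_of_le hLS, ← inf_relIndex_right, inf_eq_bot_of_odd hS2 ld.odd, relIndex_bot_left]

end main

end Cfsg.Agent.Omega.SQEnd
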