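import Mathlib.FieldTheory.Finite.Basic
import Mathlib.RingTheory.RootsOfUnity.Basic

/-!
# The cubes of a finite field with more than 4 elements generate it
-/

set_option autoImplicit false

universe u

namespace Cfsg.Agent.Omega.SQEnd

variable {F : Type u} [Field F] [Finite F]

theorem card_units_le (E : Subfield F) (hE : ∀ a : F, a ≠ 0 → a ^ 3 ∈ E) :
    Nat.card F - 1 ≤ 3 * (Nat.card E - 1) := by
  classical
  let f : Fˣ →* Fˣ := powMonoidHom 3
  have h1 : Nat.card f.range * Nat.card f.ker = Nat.card Fˣ := by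
    have h2 := Subgroup.card_mul_index f.ker
    rw [Subgroup.index_ker] at h2
    rw [mul_comm]; exact h2
  have h2 : Nat.card f.ker ≤ 3 := by
    have e : f.ker = rootsOfUnity 3 F := by
      ext x
      rw [MonoidHom.mem_ker, mem_rootsOfUnity]
      rfl
    rw [e]
    exact card_rootsOfUnity F 3
  have h3 : Nat.card f.range ≤ Nat.card Eˣ := by
    let g : f.range → Eˣ := fun x => Units.mk0 (⟨((x : Fˣ) : F), by
      obtain ⟨y, hy⟩ := x.2
      rw [← hy]
      exact hE y y.ne_zero⟩ : E) (fun h => (x : Fˣ).ne_zero (congrArg (Subtype.val (p := fun x => x ∈ E)) h))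
    refine Nat.card_le_card_of_injective g fun x y hxy => ?_
    apply Subtype.ext
    apply Units.ext
    have := congrArg (fun u : Eˣ => (((u : E) : F))) hxy
    exact this
  have h4 : Nat.card Fˣ = Nat.card F - 1 := Nat.card_units F
  have h5 : Nat.card Eˣ = Nat.card E - 1 := Nat.card_units E
  rw [← h4, ← h5, ← h1]
  calc Nat.card f.range * Nat.card f.ker ≤ Nat.card Eˣ * 3 := Nat.mul_le_mul h3 h2
    _ = _ := mul_comm _ _

theorem subfield_eq_top (hF : 4 < Nat.card F) (E : Subfield F) (hE : ∀ a : F, a ≠ 0 → a ^ 3 ∈ E) : E = ⊤ := by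
  have h1 := card_units_le E hE
  by_contra hne
  have h2 : Nat.card F = Nat.card E ^ Module.finrank E F := Module.natCard_eq_pow_finrank
  have h3 : 2 ≤ Module.finrank E F := by
    by_contra hlt
    have h4 : 0 < Module.finrank E F := Module.finrank_pos
    have h5 : Module.finrank E F = 1 := by omega
    rw [h5, pow_one] at h2
    apply hne
    rw [← SetLike.coe_set_eq]
    refine Set.eq_univ_of_forall fun x => ?_
    have h6 : Function.Surjective (Subtype.val : E → F) :=
      ((Nat.bijective_iff_injective_and_card _).2 ⟨Subtype.val_injective, h2.symm⟩).2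
    obtain ⟨y, rfl⟩ := h6 x
    exact y.2
  have h4 : Nat.card E ^ 2 ≤ Nat.card F := by
    rw [h2]
    exact Nat.pow_le_pow_right Nat.card_pos h3
  have h5 : 2 ≤ Nat.card E := by
    have : 1 < Nat.card E := Finite.one_lt_card
    omega
  have h6 : Nat.card E ≤ 2 := by
    by_contra hlt
    push Not at hlt
    obtain ⟨e, he⟩ : ∃ e, Nat.card E = e + 3 := ⟨Nat.card E - 3, by omega⟩
    rw [he] at h1 h4
    have : e + 3 - 1 = e + 2 := by omega
    rw [this] at h1
    have h7 : (e + 3) ^ 2 ≤ 3 * (e + 2) + 1 := by omega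
    nlinarith
  have h7 : Nat.card E = 2 := by omega
  rw [h7] at h1
  omega

/-- an additive subgroup of a finite field with more than 4 elements invariant under the cubes -/
theorem eq_top_of_cubes (hF : 4 < Nat.card F) (S : AddSubgroup F) (hS : ∀ a : F, a ≠ 0 → ∀ x ∈ S, a ^ 3 * x ∈ S)
    (hne : ∃ x ∈ S, x ≠ 0) (x : F) : x ∈ S := by
  let E : Subfield F :=
    { carrier := {y | ∀ x ∈ S, y * x ∈ S}
      one_mem' := fun x hx => by rwa [one_mul]
      mul_mem' := fun {a b} ha hb x hx => by rw [mul_assoc]; exact ha _ (hb _ hx)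
      zero_mem' := fun x _ => by rw [zero_mul]; exact S.zero_mem
      add_mem' := fun {a b} ha hb x hx => by rw [add_mul]; exact S.add_mem (ha _ hx) (hb _ hx)
      neg_mem' := fun {a} ha x hx => by rw [neg_mul]; exact S.neg_mem (ha _ hx)
      inv_mem' := fun a ha x hx => by
        by_cases h0 : a = 0
        · rw [h0, inv_zero, zero_mul]; exact S.zero_mem
        have h1 : ∀ n : ℕ, ∀ x ∈ S, a ^ n * x ∈ S := by
          intro n
          induction n with
          | zero => intro x hx; rwa [pow_zero, one_mul]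
          | succ n ih =>
            intro x hx
            rw [pow_succ, mul_assoc]
            exact ih _ (ha _ hx)
        have h2 : a⁻¹ = a ^ (orderOf (Units.mk0 a h0) - 1) := by
          have h3 : (Units.mk0 a h0) ^ orderOf (Units.mk0 a h0) = 1 := pow_orderOf_eq_one _
          have h4 : 0 < orderOf (Units.mk0 a h0) := orderOf_pos _
          have h5 : a ^ (orderOf (Units.mk0 a h0) - 1) * a = 1 := by
            rw [← pow_succ, Nat.sub_add_cancel h4]
            have h6 := congrArg (Units.val) h3
            rw [Units.val_pow_eq_pow_val, Units.val_one, Units.val_mk0] at h6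
            exact h6
          exact (eq_inv_of_mul_eq_one_left h5).symm
        rw [h2]
        exact h1 _ x hx }
  have hE : E = ⊤ := subfield_eq_top hF E fun a ha => fun x hx => hS a ha x hx
  obtain ⟨s, hs, hs0⟩ := hne
  have h1 : x * s⁻¹ ∈ E := by rw [hE]; trivial
  have h2 := h1 s hs
  rwa [mul_assoc, inv_mul_cancel₀ hs0, mul_one] at h2

end Cfsg.Agent.Omega.SQEnd
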