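import Cfsg.Agent.Omega.SQEnd.Irr
import Cfsg.Agent.Omega.SQEnd.Cubes
import Cfsg.Agent.Omega.BTwo.Coord

/-!
# The torus `C` of `K` is irreducible on `V / R` (bb OMEGA #12947)
-/

set_option autoImplicit false

universe u v w

namespace Cfsg.Agent.Omega.SQEnd

open Subgroup Cfsg.Agent.Omega.BTwo

variable {G : Type u} [Group G]

/-- `S` is invariant under `t³` -/
theorem CfgI.cube_inv {R W V U D A K L C Z T : Subgroup G} {w : G} (h : CfgI R W V U D A K L C Z T w)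
    {S : Subgroup G} (hRS : R ≤ S) (hSV : S ≤ V) (hC : C ≤ normalizer (S : Set G)) {t s : G} (ht : t ∈ T)
    (hs : s ∈ S) : (t * t * t)⁻¹ * s * (t * t * t) ∈ S := by
  obtain ⟨c, hc, z, hz, htc⟩ := h.dec t ht
  have hcc : c * c ∈ normalizer (S : Set G) := mul_mem (hC hc) (hC hc)
  have h1 := conj_inv_mem_of_normalizer hcc hs
  have h2 := (h.c_sq ht hc hz htc (hSV h1)).2
  have h3 := mul_mem (hRS h2) h1
  have e : (t * t * t)⁻¹ * (c * c) * ((c * c)⁻¹ * s * (c * c)) * ((t * t * t)⁻¹ * (c * c))⁻¹ *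
      ((c * c)⁻¹ * s * (c * c))⁻¹ * ((c * c)⁻¹ * s * (c * c)) = (t * t * t)⁻¹ * s * (t * t * t) := by
    simp only [mul_inv_rev, inv_inv, mul_assoc, mul_inv_cancel_left, inv_mul_cancel_left, inv_mul_cancel, mul_one]
  rwa [e] at h3

/-- **(ci)**, `|F| > 4` -/
theorem CfgI.ci_large {ι : Type w} {R : ι → Subgroup G} {i j : ι} {W V U D A K L C Z T : Subgroup G} {w₀ : G}
    (h : CfgI (R i) W V U D A K L C Z T w₀) {F : Type v} [Field F] [Finite F] (hF : 4 < Nat.card F)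
    {v : F → F → G} {w1 w2 : F → G} (c : Coord V R i j v w1 w2)
    (hT : ∀ t ∈ T, ∃ a : F, a ≠ 0 ∧ ∀ b d, t * v b d * t⁻¹ = v (a * b) (a⁻¹ * d))
    (S : Subgroup G) (hRS : R i ≤ S) (hSV : S ≤ V) (hC : C ≤ normalizer (S : Set G)) (hS : ¬ S ≤ R i) : V ≤ S := by
  have hadd : ∀ b b' d : F, v b d ∈ S → v b' d ∈ S := by
    intro b b' d hbd
    have e : v b' d = v (b' - b) 0 * v b d := by
      rw [← c.v_add, sub_add_cancel, zero_add]
    rw [e]
    exact mul_mem (hRS ((c.mem_R1 _).2 ⟨_, rfl⟩)) hbd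
  let E : AddSubgroup F :=
    { carrier := {x | v 0 x ∈ S}
      zero_mem' := by
        change v 0 0 ∈ S
        rw [c.v_zero]; exact one_mem _
      add_mem' := fun {a b} ha hb => by
        change v 0 (a + b) ∈ S
        have := c.v_add 0 a 0 b
        rw [add_zero] at this
        rw [this]
        exact mul_mem ha hb
      neg_mem' := fun {a} ha => by
        change v 0 (-a) ∈ S
        have h1 := c.v_add 0 (-a) 0 a
        rw [add_zero, neg_add_cancel, c.v_zero] at h1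
        rw [eq_inv_of_mul_eq_one_left h1.symm]
        exact inv_mem ha }
  have hE : ∀ a : F, a ≠ 0 → ∀ x ∈ E, a ^ 3 * x ∈ E := by
    intro a ha x hx
    -- find `t` with parameter `a`
    have h1 : v 0 1 ∈ V := (c.mem_V _).2 ⟨_, _, rfl⟩
    have h2 : v 0 a⁻¹ ∈ V := (c.mem_V _).2 ⟨_, _, rfl⟩
    have h3 : ∀ y : F, y ≠ 0 → v 0 y ∉ R i := by
      intro y hy h'
      obtain ⟨b, hb⟩ := (c.mem_R1 _).1 h'
      exact hy (c.v_inj hb).2.symm
    obtain ⟨t, ht, h4⟩ := h.t2 _ h1 (h3 1 one_ne_zero) _ h2 (h3 _ (inv_ne_zero ha))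
    obtain ⟨a', ha', hact⟩ := hT t ht
    have h5 : a' = a := by
      rw [hact, mul_zero, mul_one] at h4
      have h6 : (v 0 a'⁻¹)⁻¹ = v 0 (-a'⁻¹) := by
        have h1 := c.v_add 0 (-a'⁻¹) 0 a'⁻¹
        rw [add_zero, neg_add_cancel, c.v_zero] at h1
        exact (eq_inv_of_mul_eq_one_left h1.symm).symm
      rw [h6, ← c.v_add, add_zero] at h4
      obtain ⟨b, hb⟩ := (c.mem_R1 _).1 h4
      have h7 := (c.v_inj hb).2
      have h8 : a'⁻¹ = a⁻¹ := by linear_combination h7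
      exact inv_injective h8
    subst h5
    have h6 := h.cube_inv hRS hSV hC ht (show v 0 x ∈ S from hx)
    have h7 : ∀ b d, t⁻¹ * v b d * t = v (a'⁻¹ * b) (a' * d) := by
      intro b d
      have h8 := hact (a'⁻¹ * b) (a' * d)
      rw [← mul_assoc, mul_inv_cancel₀ ha, one_mul, ← mul_assoc, inv_mul_cancel₀ ha, one_mul] at h8
      rw [← h8]; group
    have e : (t * t * t)⁻¹ * v 0 x * (t * t * t) = t⁻¹ * (t⁻¹ * (t⁻¹ * v 0 x * t) * t) * t := by
      simp only [mul_inv_rev, mul_assoc]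
    rw [e, h7, h7, h7] at h6
    have h9 := hadd _ 0 _ h6
    have e2 : a' * (a' * (a' * x)) = a' ^ 3 * x := by ring
    rw [e2] at h9
    exact h9
  obtain ⟨s, hs, hsR⟩ := SetLike.not_le_iff_exists.1 hS
  obtain ⟨b, d, hbd⟩ := (c.mem_V _).1 (hSV hs)
  have hd : d ≠ 0 := by
    rintro rfl
    exact hsR ((c.mem_R1 _).2 ⟨b, hbd⟩)
  rw [← hbd] at hs
  have hall := eq_top_of_cubes hF E hE ⟨d, hadd _ 0 _ hs, hd⟩
  intro x hx
  obtain ⟨b', d', rfl⟩ := (c.mem_V _).1 hx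
  exact hadd 0 b' d' (hall d')

/-- **(ci)**, `|V / R| = 4`, from `C_{W / R}(C) = 1` -/
theorem CfgI.ci_four {R W V U D A K L C Z T : Subgroup G} {w : G} (h : CfgI R W V U D A K L C Z T w)
    (h4 : R.relIndex V = 4) (hfix : ∀ m ∈ W, (∀ c ∈ C, c * m * c⁻¹ * m⁻¹ ∈ R) → m ∈ R)
    (S : Subgroup G) (hRS : R ≤ S) (hSV : S ≤ V) (hC : C ≤ normalizer (S : Set G)) (hS : ¬ S ≤ R) : V ≤ S := by
  by_contra hVS
  have h1 := relIndex_mul_relIndex R S V hRS hSV
  rw [h4] at h1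
  have h2 : R.relIndex S ≠ 1 := fun h' => hS (relIndex_eq_one.1 h')
  have h3 : S.relIndex V ≠ 1 := fun h' => hVS (relIndex_eq_one.1 h')
  have h5 : R.relIndex S = 2 := by
    have h6 : R.relIndex S ∣ 4 := ⟨_, h1.symm⟩
    have h7 : R.relIndex S ≤ 4 := Nat.le_of_dvd (by norm_num) h6
    interval_cases hk : R.relIndex S
    · omega
    · exact absurd rfl h2
    · rfl
    · omega
    · omega
  have h6 : (R.subgroupOf S).index = 2 := h5
  refine hS fun s hs => hfix s (h.VW (hSV hs)) fun c hc => ?_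
  have h7 : c * s * c⁻¹ ∈ S := conj_mem_of_normalizer (hC hc) hs
  have h8 := (mul_mem_iff_of_index_two h6 (a := ⟨c * s * c⁻¹, h7⟩) (b := (⟨s, hs⟩ : S)⁻¹)).2 (by
    rw [inv_mem_iff, mem_subgroupOf, mem_subgroupOf]
    exact ⟨fun h' => by
      have := conj_inv_mem_of_normalizer (h.LR (h.CL hc)) h'
      have e : c⁻¹ * (c * s * c⁻¹) * c = s := by group
      change s ∈ R
      rw [← e]; exact this, fun h' => conj_mem_of_normalizer (h.LR (h.CL hc)) h'⟩)
  exact h8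

end Cfsg.Agent.Omega.SQEnd
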