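import Cfsg.Agent.Omega.SQEnd.Cfg

/-!
# The end of `b = 2` without modules (bb OMEGA #12947, (E2)-(E5))

`Cfg`: `D ∩ D^w = R`, `U = (D^w ∩ U) D`, `|D / V| = |U / D|`.
-/

set_option autoImplicit false
set_option linter.unusedSimpArgs false

universe u

namespace Cfsg.Agent.Omega.SQEnd

open Subgroup Cfsg.Agent.Omega.BTwo

variable {G : Type u} [Group G]

/-- elements of `N(H)` centralising `x` modulo `H` -/
def St (H : Subgroup G) (x : G) : Subgroup G where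
  carrier := {g | g ∈ normalizer (H : Set G) ∧ g * x * g⁻¹ * x⁻¹ ∈ H}
  one_mem' := ⟨one_mem _, by simp⟩
  mul_mem' := by
    rintro a b ⟨ha, ha'⟩ ⟨hb, hb'⟩
    refine ⟨mul_mem ha hb, ?_⟩
    have e : a * b * x * (a * b)⁻¹ * x⁻¹ = a * (b * x * b⁻¹ * x⁻¹) * a⁻¹ * (a * x * a⁻¹ * x⁻¹) := by group
    rw [e]
    exact mul_mem (conj_mem_of_normalizer ha hb') ha'
  inv_mem' := by
    rintro a ⟨ha, ha'⟩
    refine ⟨inv_mem ha, ?_⟩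
    have e : a⁻¹ * x * a⁻¹⁻¹ * x⁻¹ = a⁻¹ * (a * x * a⁻¹ * x⁻¹)⁻¹ * a := by group
    rw [e]
    exact conj_inv_mem_of_normalizer ha (inv_mem ha')

theorem mem_St {H : Subgroup G} {x g : G} :
    g ∈ St H x ↔ g ∈ normalizer (H : Set G) ∧ g * x * g⁻¹ * x⁻¹ ∈ H := Iff.rfl

theorem mem_of_mul_self_mem {H : Subgroup G} {z : G} (hz : Odd (orderOf z)) (h : z * z ∈ H) : z ∈ H := by
  obtain ⟨k, hk⟩ := hz
  have e : z = (z * z) ^ (k + 1) := by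
    have h1 : z ^ (2 * k + 1) = 1 := by rw [← hk]; exact pow_orderOf_eq_one z
    rw [← pow_two, ← pow_mul]
    have h2 : 2 * (k + 1) = (2 * k + 1) + 1 := by ring
    rw [h2, pow_add, h1, one_mul, pow_one]
  rw [e]
  exact pow_mem h _

theorem relIndex_eq_of_cov {H K M : Subgroup G} (hHM : H ≤ M) (h : ∀ m ∈ M, ∃ x ∈ H, x⁻¹ * m ∈ K) :
    K.relIndex M = K.relIndex H := by
  change Nat.card (M ⧸ K.subgroupOf M) = Nat.card (H ⧸ K.subgroupOf H)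
  refine (Nat.card_congr (Equiv.ofBijective (quotientSubgroupOfEmbeddingOfLE K hHM)
    ⟨(quotientSubgroupOfEmbeddingOfLE K hHM).injective, ?_⟩)).symm
  intro q
  induction q using QuotientGroup.induction_on with
  | H m =>
    obtain ⟨x, hx, hxm⟩ := h m m.2
    refine ⟨QuotientGroup.mk ⟨x, hx⟩, ?_⟩
    rw [quotientSubgroupOfEmbeddingOfLE_apply_mk]
    exact QuotientGroup.eq.2 hxm

theorem comm_of_comm_eq {v m n : G} (h : v * m * v⁻¹ * m⁻¹ = v * n * v⁻¹ * n⁻¹) :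
    v * (m⁻¹ * n) = m⁻¹ * n * v := by
  have e : v * (m⁻¹ * n) = m⁻¹ * (v * m * v⁻¹ * m⁻¹)⁻¹ * (v * n * v⁻¹ * n⁻¹) * n * v := by group
  rw [e, h]; group

namespace Cfg

variable {R W V U D A K L C Z T : Subgroup G} {w : G}

section
variable (h : Cfg R W V U D A K L C Z T w)
include h

theorem W_comm_R {x r : G} (hx : x ∈ W) (hr : r ∈ R) : x * r = r * x := h.KR x (h.WK hx) r hr

theorem w_R : w ∈ normalizer (R : Set G) := by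
  rw [← cj_eq_self_iff]
  ext x
  rw [mem_cj]
  constructor
  · intro hx
    have := h.KR w h.wK _ hx
    have e : x = w⁻¹ * x * w := by
      calc x = w * (w⁻¹ * x * w) * w⁻¹ := by group
        _ = w⁻¹ * x * w * w * w⁻¹ := by rw [this]
        _ = w⁻¹ * x * w := by group
    rw [e]; exact hx
  · intro hx
    have := h.KR w h.wK _ hx
    have e : w⁻¹ * x * w = x := by rw [mul_assoc, ← this]; group
    rw [e]; exact hx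

theorem w_W : w ∈ normalizer (W : Set G) := h.KW h.wK

theorem ln' : Ln R W (cj w V) (cj w U) (cj w D) (cj w A) := h.toLn.cj h.w_R h.w_W

theorem R_of {x : G} (hx : w⁻¹ * x * w ∈ R) : x ∈ R := by
  have := conj_mem_of_normalizer h.w_R hx
  have e : w * (w⁻¹ * x * w) * w⁻¹ = x := by group
  rwa [e] at this

theorem of_R {x : G} (hx : x ∈ R) : w⁻¹ * x * w ∈ R := conj_inv_mem_of_normalizer h.w_R hx

theorem W_of {x : G} (hx : w⁻¹ * x * w ∈ W) : x ∈ W := by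
  have := conj_mem_of_normalizer h.w_W hx
  have e : w * (w⁻¹ * x * w) * w⁻¹ = x := by group
  rwa [e] at this

theorem of_W {x : G} (hx : x ∈ W) : w⁻¹ * x * w ∈ W := conj_inv_mem_of_normalizer h.w_W hx

theorem cj_cj_V : BTwo.cj w (BTwo.cj w V) = V := by
  ext x
  rw [mem_cj, mem_cj]
  have hn := h.WV h.w2
  constructor
  · intro hx
    have := conj_mem_of_normalizer hn hx
    have e : w * w * (w⁻¹ * (w⁻¹ * x * w) * w) * (w * w)⁻¹ = x := by group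
    rwa [e] at this
  · intro hx
    have := conj_inv_mem_of_normalizer hn hx
    have e : (w * w)⁻¹ * x * (w * w) = w⁻¹ * (w⁻¹ * x * w) * w := by group
    rwa [e] at this

theorem opp' {x : G} (hx : x ∈ V) (hx' : x ∈ BTwo.cj w U) : x ∈ R := by
  refine h.R_of (h.opp _ (mem_cj.1 hx') ?_)
  rw [← mem_cj, h.cj_cj_V]; exact hx

theorem cov' {m : G} (hm : m ∈ W) : ∃ x ∈ V, x⁻¹ * m ∈ BTwo.cj w U := by
  obtain ⟨x, hx, hxm⟩ := h.cov _ (h.of_W hm)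
  refine ⟨w * x * w⁻¹, ?_, ?_⟩
  · rw [← h.cj_cj_V]; exact conj_mem_cj hx
  · rw [mem_cj]
    have e : w⁻¹ * ((w * x * w⁻¹)⁻¹ * m) * w = x⁻¹ * (w⁻¹ * m * w) := by group
    rw [e]; exact hxm

theorem norm_cj {S : Subgroup G} (hS : L ≤ normalizer (S : Set G)) : L ≤ normalizer (BTwo.cj w S : Set G) := by
  intro g hg
  rw [normalizer_cj, mem_cj]
  exact hS (h.wL' g hg)

/-- `R ≤ S ≤ W`: `S ⊴ W` -/
theorem conj_mem {S : Subgroup G} (hRS : R ≤ S) (hSW : S ≤ W) {x s : G} (hx : x ∈ W) (hs : s ∈ S) :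
    x * s * x⁻¹ ∈ S := by
  have e : x * s * x⁻¹ = (x * s * x⁻¹ * s⁻¹) * s := by group
  rw [e]
  exact mul_mem (hRS (h.WW _ hx _ (hSW hs))) hs

/-- `[x, y a]` modulo `R` for `x, y ∈ W` and `a ∈ A^g` -/
theorem comm_mul_left {x y a : G} (hx : x ∈ W) (hy : y ∈ W) (ha : x * a * x⁻¹ * a⁻¹ ∈ W) :
    ∃ r ∈ R, x * (y * a) * x⁻¹ * (y * a)⁻¹ = r * (x * a * x⁻¹ * a⁻¹) :=
  ⟨_, mul_mem (h.WW _ hx _ hy) (h.WW _ hy _ ha), by group⟩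

theorem tw {t c z : G} (hc : c ∈ C) (hz : z ∈ Z) (htc : t = c * z) : w * t * w⁻¹ = c⁻¹ * z := by
  have e : w * t * w⁻¹ = (w * c * w⁻¹) * (w * z * w⁻¹) := by rw [htc]; group
  rw [e, h.wC c hc, h.wZ z hz]

theorem tww {t c z : G} (hc : c ∈ C) (hz : z ∈ Z) (htc : t = c * z) : w * (w * t * w⁻¹) * w⁻¹ = t := by
  rw [h.tw hc hz htc]
  have e : w * (c⁻¹ * z) * w⁻¹ = (w * c⁻¹ * w⁻¹) * (w * z * w⁻¹) := by group
  rw [e, h.wC _ (inv_mem hc), h.wZ z hz, inv_inv, htc]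

theorem z_sq {t c z : G} (hc : c ∈ C) (hz : z ∈ Z) (htc : t = c * z) : t * (w * t * w⁻¹) = z * z := by
  rw [h.tw hc hz htc, htc]
  have e : z * c⁻¹ = c⁻¹ * z := h.L_comm _ (h.ZL hz) _ (inv_mem (h.CL hc))
  calc c * z * (c⁻¹ * z) = c * (z * c⁻¹) * z := by group
    _ = z * z := by rw [e]; group

/-- the action on `R` -/
theorem act_R {t c z r : G} (hc : c ∈ C) (hz : z ∈ Z) (htc : t = c * z) (hr : r ∈ R) :
    t * r * t⁻¹ = z * r * z⁻¹ ∧ (w * t * w⁻¹) * r * (w * t * w⁻¹)⁻¹ = z * r * z⁻¹ := by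
  have hzr : z * r * z⁻¹ ∈ R := conj_mem_of_normalizer (h.LR (h.ZL hz)) hr
  constructor
  · have := h.KR c (h.CK hc) _ hzr
    calc t * r * t⁻¹ = c * (z * r * z⁻¹) * c⁻¹ := by rw [htc]; group
      _ = z * r * z⁻¹ := by rw [this]; group
  · have := h.KR _ (h.CK (inv_mem hc)) _ hzr
    calc (w * t * w⁻¹) * r * (w * t * w⁻¹)⁻¹ = c⁻¹ * (z * r * z⁻¹) * c⁻¹⁻¹ := by
          rw [h.tw hc hz htc]; group
      _ = z * r * z⁻¹ := by rw [this]; group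

/-- an element of `Z` centralising `x` modulo `R` centralises `[x, a]` modulo `R` -/
theorem z_comm {z x a : G} (hz : z ∈ Z) (hx : x ∈ W) (ha : a ∈ K)
    (hzx : z * x * z⁻¹ * x⁻¹ ∈ R) : z * (x * a * x⁻¹ * a⁻¹) * z⁻¹ * (x * a * x⁻¹ * a⁻¹)⁻¹ ∈ R := by
  have haW : x * a * x⁻¹ * a⁻¹ ∈ W := by
    have e : x * a * x⁻¹ * a⁻¹ = x * (a * x⁻¹ * a⁻¹) := by group
    rw [e]
    exact mul_mem hx (conj_mem_of_normalizer (h.KW ha) (inv_mem hx))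
  have hy := h.ZK z hz a ha
  obtain ⟨r, hr, e⟩ := h.comm_mul_left hx hy haW
  have e1 : z * a * z⁻¹ * a⁻¹ * a = z * a * z⁻¹ := by group
  rw [e1] at e
  have hza : z * a * z⁻¹ ∈ K := by
    rw [← e1]; exact mul_mem (h.WK hy) ha
  have hc := h.KR _ hza _ hzx
  have e2 : z * (x * a * x⁻¹ * a⁻¹) * z⁻¹ = x * (z * a * z⁻¹) * x⁻¹ * (z * a * z⁻¹)⁻¹ := by
    calc z * (x * a * x⁻¹ * a⁻¹) * z⁻¹ =
        (z * x * z⁻¹ * x⁻¹) * x * (z * a * z⁻¹) * x⁻¹ * ((z * x * z⁻¹ * x⁻¹)⁻¹ * (z * a * z⁻¹)⁻¹) := by group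
      _ = (z * x * z⁻¹ * x⁻¹) * x * (z * a * z⁻¹) * x⁻¹ * ((z * a * z⁻¹)⁻¹ * (z * x * z⁻¹ * x⁻¹)⁻¹) := by
          rw [← mul_inv_rev, ← mul_inv_rev, hc]
      _ = (z * x * z⁻¹ * x⁻¹) * (x * (z * a * z⁻¹) * x⁻¹ * (z * a * z⁻¹)⁻¹) * (z * x * z⁻¹ * x⁻¹)⁻¹ := by group
      _ = x * (z * a * z⁻¹) * x⁻¹ * (z * a * z⁻¹)⁻¹ := by
          rw [e]
          have h3 := h.W_comm_R (mul_mem (h.RW hr) haW) hzx
          rw [← h3]; group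
  rw [e2, e]
  have e3 : r * (x * a * x⁻¹ * a⁻¹) * (x * a * x⁻¹ * a⁻¹)⁻¹ = r := by group
  rw [e3]; exact hr

/-- **(E2)** `D ∩ D^w = R` -/
theorem E2 : D ⊓ BTwo.cj w D ≤ R := by
  rintro x ⟨hx, hx'⟩
  by_contra hxR
  obtain ⟨t, ht, ht1⟩ := h.T_ne
  obtain ⟨c, hc, z, hz, htc⟩ := h.dec t ht
  have hxW : x ∈ W := h.DW hx
  have htL := h.TL ht
  have hzL := h.ZL hz
  have hsL : w * t * w⁻¹ ∈ L := h.wL t htL
  have l' := h.ln'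
  -- `t` and `t^w` centralise `x` modulo `R`
  have h1 : t ∈ St R x := by
    refine ⟨h.LR htL, h.opp' (h.t3 t ht x hx) (l'.DU ?_)⟩
    have e : t * x * t⁻¹ * x⁻¹ = (t * x * t⁻¹) * x⁻¹ := rfl
    rw [e]
    exact mul_mem (conj_mem_of_normalizer (h.norm_cj h.LD htL) hx') (inv_mem hx')
  have h2 : w * t * w⁻¹ ∈ St R x := by
    refine ⟨h.LR hsL, h.opp _ (h.DU ?_) ?_⟩
    · exact mul_mem (conj_mem_of_normalizer (h.LD hsL) hx) (inv_mem hx)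
    · rw [mem_cj]
      have e : w⁻¹ * ((w * t * w⁻¹) * x * (w * t * w⁻¹)⁻¹ * x⁻¹) * w =
        t * (w⁻¹ * x * w) * t⁻¹ * (w⁻¹ * x * w)⁻¹ := by group
      rw [e]
      exact h.t3 t ht _ (mem_cj.1 hx')
  have h3 : z ∈ St R x := by
    refine mem_of_mul_self_mem (h.L_odd z hzL) ?_
    rw [← h.z_sq hc hz htc]
    exact mul_mem h1 h2
  -- `[x, a]` and `[x, a']`
  have h4 : ∃ a ∈ A, x * a * x⁻¹ * a⁻¹ ∉ R := by
    by_contra hcon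
    push Not at hcon
    exact hxR (h.opp' (h.DAR x hx hcon) (l'.DU hx'))
  have h5 : ∃ a ∈ BTwo.cj w A, x * a * x⁻¹ * a⁻¹ ∉ R := by
    by_contra hcon
    push Not at hcon
    exact hxR (h.opp x (h.DU hx) (l'.DAR x hx' hcon))
  obtain ⟨a, ha, hva⟩ := h4
  obtain ⟨a', ha', hva'⟩ := h5
  have haK : a ∈ K := h.AK ha
  have haK' : a' ∈ K := by
    have := h.AK (mem_cj.1 ha')
    have e : a' = w * (w⁻¹ * a' * w) * w⁻¹ := by group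
    rw [e]; exact mul_mem (mul_mem h.wK this) (inv_mem h.wK)
  have hv := h.DA x hx a ha
  have hv' := l'.DA x hx' a' ha'
  have hz1 := h.z_comm hz hxW haK h3.2
  have hz2 := h.z_comm hz hxW haK' h3.2
  set v := x * a * x⁻¹ * a⁻¹ with hvdef
  set v' := x * a' * x⁻¹ * a'⁻¹ with hvdef'
  have hvW : v ∈ W := h.VW hv
  have hvW' : v' ∈ W := l'.VW hv'
  have hr0 : v * v' * v⁻¹ * v'⁻¹ ∈ R := h.WW _ hvW _ hvW'
  have hz0 : z * (v * v' * v⁻¹ * v'⁻¹) * z⁻¹ = v * v' * v⁻¹ * v'⁻¹ := by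
    have c1 := h.W_comm_R hvW hz2
    have c2 := h.W_comm_R hvW' hz1
    have c3 := h.W_comm_R (h.RW hz1) hz2
    have c4 := h.W_comm_R (mul_mem hvW hvW') hz1
    generalize hρ : z * v * z⁻¹ * v⁻¹ = ρ at *
    generalize hρ' : z * v' * z⁻¹ * v'⁻¹ = ρ' at *
    have e1 : z * v * z⁻¹ = ρ * v := by rw [← hρ]; group
    have e2 : z * v' * z⁻¹ = ρ' * v' := by rw [← hρ']; group
    have c1' : Commute v ρ' := c1
    have c2' : Commute v' ρ := c2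
    have c3' : Commute ρ ρ' := c3
    calc z * (v * v' * v⁻¹ * v'⁻¹) * z⁻¹ =
        (z * v * z⁻¹) * (z * v' * z⁻¹) * (z * v * z⁻¹)⁻¹ * (z * v' * z⁻¹)⁻¹ := by group
      _ = ρ * v * (ρ' * v') * (ρ * v)⁻¹ * (ρ' * v')⁻¹ := by rw [e1, e2]
      _ = ρ * (v * ρ') * v' * v⁻¹ * ρ⁻¹ * v'⁻¹ * ρ'⁻¹ := by group
      _ = ρ * ρ' * (v * v' * v⁻¹) * (ρ⁻¹ * v'⁻¹) * ρ'⁻¹ := by rw [c1]; group
      _ = ρ * ρ' * (v * v' * v⁻¹) * (v'⁻¹ * ρ⁻¹) * ρ'⁻¹ := by rw [← mul_inv_rev, ← mul_inv_rev, c2]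
      _ = (ρ * ρ') * (v * v' * v⁻¹ * v'⁻¹) * (ρ * ρ')⁻¹ := by rw [c3]; group
      _ = v * v' * v⁻¹ * v'⁻¹ := by
          have c5 := h.W_comm_R (h.RW hr0) (mul_mem hz1 hz2)
          rw [← c5]; group
  have ht0 : t * (v * v' * v⁻¹ * v'⁻¹) * t⁻¹ = v * v' * v⁻¹ * v'⁻¹ := by
    rw [(h.act_R hc hz htc hr0).1, hz0]
  have hone := h.t1 t ht ht1 _ hr0 ht0
  have hcomm : v' * v = v * v' := by
    calc v' * v = (v * v' * v⁻¹ * v'⁻¹) * (v' * v) := by rw [hone, one_mul]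
      _ = v * v' := by group
  exact hva' (h.opp _ (h.cen v hv hva v' hvW' hcomm) hv')

/-- `t5` for `V^w` -/
theorem t5w {t x m : G} (ht : t ∈ T) (hx : x ∈ BTwo.cj w V) (hm : m ∈ W) :
    (w * t * w⁻¹) * (x * m * x⁻¹ * m⁻¹) * (w * t * w⁻¹)⁻¹ =
      ((w * t * w⁻¹)⁻¹ * x * (w * t * w⁻¹)) * m * ((w * t * w⁻¹)⁻¹ * x * (w * t * w⁻¹))⁻¹ * m⁻¹ := by
  have h1 := h.t5 t ht _ (mem_cj.1 hx) _ (h.of_W hm)
  calc (w * t * w⁻¹) * (x * m * x⁻¹ * m⁻¹) * (w * t * w⁻¹)⁻¹ =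
      w * (t * ((w⁻¹ * x * w) * (w⁻¹ * m * w) * (w⁻¹ * x * w)⁻¹ * (w⁻¹ * m * w)⁻¹) * t⁻¹) * w⁻¹ := by group
    _ = _ := by rw [h1]; group

/-- **(E3')** `(t^w)² t` centralises `V^w / R` -/
theorem E3 {t x : G} (ht : t ∈ T) (hx : x ∈ BTwo.cj w V) :
    (w * t * w⁻¹) * (w * t * w⁻¹) * t ∈ St R x := by
  obtain ⟨c, hc, z, hz, htc⟩ := h.dec t ht
  have htL := h.TL ht
  have hsL : w * t * w⁻¹ ∈ L := h.wL t htL
  have l' := h.ln'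
  refine ⟨h.LR (mul_mem (mul_mem hsL hsL) htL), ?_⟩
  by_cases hV : V ≤ R
  · have hxR : x ∈ R := h.R_of (hV (mem_cj.1 hx))
    exact mul_mem (conj_mem_of_normalizer (h.LR (mul_mem (mul_mem hsL hsL) htL)) hxR) (inv_mem hxR)
  obtain ⟨v, hv, hvR⟩ := SetLike.not_le_iff_exists.1 hV
  have hxW : x ∈ W := l'.VW hx
  have hvW : v ∈ W := h.VW hv
  have hT : ∀ r ∈ R, t * r * t⁻¹ = z * r * z⁻¹ ∧ (w * t * w⁻¹) * r * (w * t * w⁻¹)⁻¹ = z * r * z⁻¹ :=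
    fun r hr => h.act_R hc hz htc hr
  have h5w : ∀ x ∈ BTwo.cj w V, ∀ m ∈ W, _ := fun x hx m hm => h.t5w ht hx hm
  generalize w * t * w⁻¹ = s at *
  have htx : t * x * t⁻¹ ∈ BTwo.cj w V := conj_mem_of_normalizer (h.norm_cj h.LV htL) hx
  have hstx : s * (t * x * t⁻¹) * s⁻¹ ∈ BTwo.cj w V := conj_mem_of_normalizer (h.norm_cj h.LV hsL) htx
  have hsx : s⁻¹ * x * s ∈ BTwo.cj w V := conj_inv_mem_of_normalizer (h.norm_cj h.LV hsL) hx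
  have htv : t * v * t⁻¹ ∈ V := conj_mem_of_normalizer (h.LV htL) hv
  -- `(ii)`
  have ii : ∀ v₀ ∈ W, ∀ x₀ ∈ BTwo.cj w V, t * (v₀ * x₀ * v₀⁻¹ * x₀⁻¹) * t⁻¹ =
      v₀ * (s⁻¹ * x₀ * s) * v₀⁻¹ * (s⁻¹ * x₀ * s)⁻¹ := by
    intro v₀ hv₀ x₀ hx₀
    have h1 := h5w x₀ hx₀ v₀ hv₀
    have hr := h.WW _ hv₀ _ (l'.VW hx₀)
    rw [(hT _ hr).1, ← (hT _ hr).2]
    calc s * (v₀ * x₀ * v₀⁻¹ * x₀⁻¹) * s⁻¹ = (s * (x₀ * v₀ * x₀⁻¹ * v₀⁻¹) * s⁻¹)⁻¹ := by group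
      _ = _ := by rw [h1]; group
  have e1 := h.t5 t ht _ htv _ (l'.VW hstx)
  have e2 := ii _ (h.VW htv) _ hstx
  have e4 := ii _ hvW _ hx
  have e5 : v * (s * (t * x * t⁻¹) * s⁻¹) * v⁻¹ * (s * (t * x * t⁻¹) * s⁻¹)⁻¹ =
      v * (s⁻¹ * x * s) * v⁻¹ * (s⁻¹ * x * s)⁻¹ := by
    have e6 : t⁻¹ * (t * v * t⁻¹) * t = v := by group
    rw [e6] at e1
    rw [← e1, e2, ← e4]
    group
  have e7 := comm_of_comm_eq e5
  have e8 : (s * (t * x * t⁻¹) * s⁻¹)⁻¹ * (s⁻¹ * x * s) ∈ R := by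
    refine h.opp _ (h.cen v hv hvR _ (l'.VW ?_) e7.symm) ?_ <;>
    exact mul_mem (inv_mem hstx) hsx
  have e9 := conj_mem_of_normalizer (h.LR hsL) e8
  have hg := h.LR (mul_mem (mul_mem hsL hsL) htL)
  have e10 : s * ((s * (t * x * t⁻¹) * s⁻¹)⁻¹ * (s⁻¹ * x * s)) * s⁻¹ =
      (s * s * t * x * (s * s * t)⁻¹)⁻¹ * x := by
    simp only [mul_inv_rev, inv_inv, mul_assoc, mul_inv_cancel_left, inv_mul_cancel_left, mul_inv_cancel,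
    inv_mul_cancel, mul_one, one_mul]
  rw [e10] at e9
  have e11 : s * s * t * x * (s * s * t)⁻¹ * x⁻¹ =
      x * ((s * s * t * x * (s * s * t)⁻¹)⁻¹ * x)⁻¹ * x⁻¹ := by
    simp only [mul_inv_rev, inv_inv, mul_assoc, mul_inv_cancel_left, inv_mul_cancel_left, mul_inv_cancel,
    inv_mul_cancel, mul_one, one_mul]
  rw [e11, h.W_comm_R hxW (inv_mem e9)]
  have e12 : ((s * s * t * x * (s * s * t)⁻¹)⁻¹ * x)⁻¹ * x * x⁻¹ =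
    ((s * s * t * x * (s * s * t)⁻¹)⁻¹ * x)⁻¹ := by group
  rw [e12]
  exact inv_mem e9

/-- **(E5)** `t^w` centralises `U / D` -/
theorem E5 (hV : ¬ V ≤ R) {t u : G} (ht : t ∈ T) (hu : u ∈ U) : w * t * w⁻¹ ∈ St D u := by
  obtain ⟨c, hc, z, hz, htc⟩ := h.dec t ht
  have htL := h.TL ht
  have hsL : w * t * w⁻¹ ∈ L := h.wL t htL
  have hzL := h.ZL hz
  have l' := h.ln'
  obtain ⟨v, hv, hvR⟩ := SetLike.not_le_iff_exists.1 hV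
  -- `x ∈ V^w`
  have hx : w * v * w⁻¹ ∈ BTwo.cj w V := conj_mem_cj hv
  have hxR : w * v * w⁻¹ ∉ R := fun h' => hvR (by
    have := h.of_R h'
    have e : w⁻¹ * (w * v * w⁻¹) * w = v := by group
    rwa [e] at this)
  generalize w * v * w⁻¹ = x at hx hxR
  have hxW : x ∈ W := l'.VW hx
  have hxU : x ∉ U := fun h' => hxR (h.opp x h' hx)
  have hzs := h.z_sq hc hz htc
  have hE3 := (h.E3 ht hx).2
  refine mem_of_mul_self_mem (h.L_odd _ hsL) ⟨h.LD (mul_mem hsL hsL), ?_⟩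
  generalize w * t * w⁻¹ = s at *
  have hst : s * t = t * s := h.L_comm _ hsL _ htL
  obtain ⟨a, ha, hau⟩ := h.surj x hxW hxU u hu
  have haK := h.AK ha
  have ht4 : ∀ a ∈ A, (x * (t⁻¹ * a * t) * x⁻¹ * (t⁻¹ * a * t)⁻¹)⁻¹ * (t * (x * a * x⁻¹ * a⁻¹) * t⁻¹) ∈ D :=
    fun a ha => h.t4 t ht x hxW a ha
  -- `W`-membership of commutators
  have hcW : ∀ y ∈ W, ∀ a ∈ A, y * a * y⁻¹ * a⁻¹ ∈ W := by
    intro y hy a ha
    have e : y * a * y⁻¹ * a⁻¹ = y * (a * y⁻¹ * a⁻¹) := by group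
    rw [e]
    exact mul_mem hy (conj_mem_of_normalizer (h.AW ha) (inv_mem hy))
  -- `y = t x t⁻¹`
  have hyW : t * x * t⁻¹ ∈ W := conj_mem_of_normalizer (h.LW htL) hxW
  -- `z⁴ [x, a] ≡ [y, a]` modulo `R`
  have hA1 : ∃ r ∈ R, (z * z * (z * z)) * (x * a * x⁻¹ * a⁻¹) * (z * z * (z * z))⁻¹ =
      r * ((t * x * t⁻¹) * a * (t * x * t⁻¹)⁻¹ * a⁻¹) := by
    have hz4 : z * z * (z * z) ∈ Z := mul_mem (mul_mem hz hz) (mul_mem hz hz)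
    have hya := h.ZK _ hz4 a haK
    -- `z⁴ x = r₁ y`
    have e1 : (z * z * (z * z)) * x * (z * z * (z * z))⁻¹ =
        (t * (s * s * t * x * (s * s * t)⁻¹ * x⁻¹) * t⁻¹) * (t * x * t⁻¹) := by
      have e2 : z * z * (z * z) = t * (s * s * t) := by
        rw [← hzs]
        calc t * s * (t * s) = t * (s * t) * s := by group
          _ = t * (t * s) * s := by rw [hst]
          _ = t * (t * s * s) := by group
          _ = t * (s * t * s) := by rw [hst]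
          _ = t * (s * (t * s)) := by group
          _ = t * (s * s * t) := by rw [← hst]; group
      rw [e2]; group
    have hr1 : t * (s * s * t * x * (s * s * t)⁻¹ * x⁻¹) * t⁻¹ ∈ R := conj_mem_of_normalizer (h.LR htL) hE3
    generalize t * (s * s * t * x * (s * s * t)⁻¹ * x⁻¹) * t⁻¹ = r₁ at e1 hr1
    generalize hζ : z * z * (z * z) = ζ at *
    obtain ⟨r₂, hr₂, e3⟩ := h.comm_mul_left hyW hya (hcW _ hyW a ha)
    have e4 : ζ * a * ζ⁻¹ * a⁻¹ * a = ζ * a * ζ⁻¹ := by group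
    rw [e4] at e3
    have hzaK : ζ * a * ζ⁻¹ ∈ K := by rw [← e4]; exact mul_mem (h.WK hya) haK
    have c1 := h.KR _ hzaK _ hr1
    refine ⟨r₂, hr₂, ?_⟩
    calc ζ * (x * a * x⁻¹ * a⁻¹) * ζ⁻¹ = (ζ * x * ζ⁻¹) * (ζ * a * ζ⁻¹) * (ζ * x * ζ⁻¹)⁻¹ * (ζ * a * ζ⁻¹)⁻¹ := by group
      _ = r₁ * (t * x * t⁻¹) * (ζ * a * ζ⁻¹) * (t * x * t⁻¹)⁻¹ * (r₁⁻¹ * (ζ * a * ζ⁻¹)⁻¹) := by rw [e1]; group
      _ = r₁ * (t * x * t⁻¹) * (ζ * a * ζ⁻¹) * (t * x * t⁻¹)⁻¹ * ((ζ * a * ζ⁻¹)⁻¹ * r₁⁻¹) := by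
          rw [← mul_inv_rev, ← mul_inv_rev, c1]
      _ = r₁ * ((t * x * t⁻¹) * (ζ * a * ζ⁻¹) * (t * x * t⁻¹)⁻¹ * (ζ * a * ζ⁻¹)⁻¹) * r₁⁻¹ := by group
      _ = _ := by
          rw [e3]
          have c2 := h.W_comm_R (mul_mem (h.RW hr₂) (hcW _ hyW a ha)) hr1
          rw [← c2]; group
  -- `t² [x, a] ≡ [y, a]` modulo `D`
  have hA2 : (t * (t * (x * a * x⁻¹ * a⁻¹) * t⁻¹) * t⁻¹)⁻¹ * ((t * x * t⁻¹) * a * (t * x * t⁻¹)⁻¹ * a⁻¹) ∈ D := by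
    have ha1 : t⁻¹ * a * t ∈ A := conj_inv_mem_of_normalizer (h.LA htL) ha
    have f1 := conj_mem_of_normalizer (h.LD htL) (ht4 a ha)
    have f2 := ht4 _ ha1
    have e : (t * (t * (x * a * x⁻¹ * a⁻¹) * t⁻¹) * t⁻¹)⁻¹ * ((t * x * t⁻¹) * a * (t * x * t⁻¹)⁻¹ * a⁻¹) =
        (t * ((x * (t⁻¹ * a * t) * x⁻¹ * (t⁻¹ * a * t)⁻¹)⁻¹ * (t * (x * a * x⁻¹ * a⁻¹) * t⁻¹)) * t⁻¹)⁻¹ := by group
    rw [e]
    exact inv_mem f1
  obtain ⟨r, hr, hA1⟩ := hA1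
  have huW : u ∈ W := h.UW hu
  have hu0W := hcW x hxW a ha
  have hyaW := hcW _ hyW a ha
  generalize hu0 : x * a * x⁻¹ * a⁻¹ = u₀ at *
  generalize hyy : (t * x * t⁻¹) * a * (t * x * t⁻¹)⁻¹ * a⁻¹ = y at *
  -- `s² u₀ ≡ u₀`
  have hB : u₀⁻¹ * ((s * s) * u₀ * (s * s)⁻¹) ∈ D := by
    have e1 : s * s = t⁻¹ * (t⁻¹ * (z * z * (z * z))) := by
      rw [← hzs]
      calc s * s = t⁻¹ * (t * s) * s := by group
        _ = t⁻¹ * (s * t) * s := by rw [hst]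
        _ = t⁻¹ * (t⁻¹ * (t * s * (t * s))) := by group
    have e2 : u₀⁻¹ * ((s * s) * u₀ * (s * s)⁻¹) =
        t⁻¹ * (t⁻¹ * ((t * (t * u₀ * t⁻¹) * t⁻¹)⁻¹ * (z * z * (z * z) * u₀ * (z * z * (z * z))⁻¹)) * t) * t := by
      rw [e1]
      simp only [mul_inv_rev, inv_inv, mul_assoc, mul_inv_cancel_left, inv_mul_cancel_left, mul_inv_cancel,
    inv_mul_cancel, mul_one, one_mul]
    rw [e2, hA1]
    refine conj_inv_mem_of_normalizer (h.LD htL) (conj_inv_mem_of_normalizer (h.LD htL) ?_)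
    have c1 := h.W_comm_R hyaW hr
    rw [← c1, ← mul_assoc]
    exact mul_mem hA2 (h.RD hr)
  have e3 : s * s * u * (s * s)⁻¹ * u⁻¹ = u₀ * ((u₀⁻¹ * ((s * s) * u₀ * (s * s)⁻¹)) *
      ((s * s) * (u₀⁻¹ * u) * (s * s)⁻¹) * (u₀⁻¹ * u)⁻¹) * u₀⁻¹ := by group
  rw [e3]
  exact h.conj_mem h.RD h.DW hu0W (mul_mem (mul_mem hB (conj_mem_of_normalizer (h.LD (mul_mem hsL hsL)) hau))
    (inv_mem hau))

/-- **(E5)** for `U^w` -/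
theorem E5w (hV : ¬ V ≤ R) {t u : G} (ht : t ∈ T) (hu : u ∈ BTwo.cj w U) : t * u * t⁻¹ * u⁻¹ ∈ BTwo.cj w D := by
  obtain ⟨c, hc, z, hz, htc⟩ := h.dec t ht
  have h1 := (h.E5 hV ht (mem_cj.1 hu)).2
  have h2 := h.tww hc hz htc
  rw [mem_cj]
  have e : w⁻¹ * (t * u * t⁻¹ * u⁻¹) * w =
      w * t * w⁻¹ * (w⁻¹ * u * w) * (w * t * w⁻¹)⁻¹ * (w⁻¹ * u * w)⁻¹ := by
    have h3 : w⁻¹ * t * w = w * t * w⁻¹ := by
      calc w⁻¹ * t * w = w⁻¹ * (w * (w * t * w⁻¹) * w⁻¹) * w := by rw [h2]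
        _ = _ := by group
    rw [← h3]; group
  rw [e]; exact h1

/-- `D = V` implies `U = D` -/
theorem U_le_D (hV : ¬ V ≤ R) (hDV : D ≤ V) : U ≤ D := by
  intro u hu
  obtain ⟨t, ht, ht1⟩ := h.T_ne
  have htL := h.TL ht
  have l' := h.ln'
  refine h.t6 t ht ht1 u hu ?_
  obtain ⟨v, hv, hvu⟩ := h.cov' (h.UW hu)
  have h1 := h.E5w hV ht hvu
  have h2 : t * (v⁻¹ * u) * t⁻¹ * (v⁻¹ * u)⁻¹ ∈ R := by
    refine h.opp _ ?_ (cj_mono hDV h1)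
    have hvu' : v⁻¹ * u ∈ U := mul_mem (inv_mem (h.DU (h.VD hv))) hu
    exact mul_mem (conj_mem_of_normalizer (h.LU htL) hvu') (inv_mem hvu')
  have e : t * u * t⁻¹ * u⁻¹ = (t * v * t⁻¹) * (t * (v⁻¹ * u) * t⁻¹ * (v⁻¹ * u)⁻¹) * v⁻¹ := by group
  rw [e]
  refine h.VD (mul_mem (mul_mem (conj_mem_of_normalizer (h.LV htL) hv) (h.RV h2)) (inv_mem hv))

end

/-- `u ∈ (D^w ∩ U) D` -/
def InS (U D : Subgroup G) (w u : G) : Prop := ∃ y ∈ BTwo.cj w D, y ∈ U ∧ y⁻¹ * u ∈ D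

theorem InS.of_D {d : G} (hd : d ∈ D) : InS U D w d :=
  ⟨1, one_mem _, one_mem _, by simpa using hd⟩

theorem InS.mul {u u' : G} (hu : InS U D w u) (h : u⁻¹ * u' ∈ D) : InS U D w u' := by
  obtain ⟨y, hy, hyU, hyu⟩ := hu
  refine ⟨y, hy, hyU, ?_⟩
  have e : y⁻¹ * u' = (y⁻¹ * u) * (u⁻¹ * u') := by group
  rw [e]; exact mul_mem hyu h

section
variable (h : Cfg R W V U D A K L C Z T w)
include h

theorem InS_mem {u : G} (hu : InS U D w u) : u ∈ U := by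
  obtain ⟨y, hy, hyU, hyu⟩ := hu
  have := mul_mem hyU (h.DU hyu)
  rwa [mul_inv_cancel_left] at this

theorem InS_conj {g u : G} (hg : g ∈ L) (hu : InS U D w u) : InS U D w (g * u * g⁻¹) := by
  obtain ⟨y, hy, hyU, hyu⟩ := hu
  refine ⟨g * y * g⁻¹, conj_mem_of_normalizer (h.norm_cj h.LD hg) hy, conj_mem_of_normalizer (h.LU hg) hyU, ?_⟩
  have e : (g * y * g⁻¹)⁻¹ * (g * u * g⁻¹) = g * (y⁻¹ * u) * g⁻¹ := by group
  rw [e]; exact conj_mem_of_normalizer (h.LD hg) hyu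

/-- `P` is invariant under the elements of `L` fixing `x` modulo `R` -/
theorem P_stab {x g a : G} (hg : g ∈ L) (hgx : x⁻¹ * (g * x * g⁻¹) ∈ R) (ha : a ∈ A)
    (hP : InS U D w (x * a * x⁻¹ * a⁻¹)) : InS U D w (x * (g * a * g⁻¹) * x⁻¹ * (g * a * g⁻¹)⁻¹) := by
  have h1 := h.InS_conj hg hP
  have hga : g * a * g⁻¹ ∈ A := conj_mem_of_normalizer (h.LA hg) ha
  have c := h.KR _ (h.AK hga) _ hgx
  have e : g * (x * a * x⁻¹ * a⁻¹) * g⁻¹ = x * (g * a * g⁻¹) * x⁻¹ * (g * a * g⁻¹)⁻¹ := by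
    calc g * (x * a * x⁻¹ * a⁻¹) * g⁻¹ = x * ((x⁻¹ * (g * x * g⁻¹)) * (g * a * g⁻¹)) *
        (x⁻¹ * (g * x * g⁻¹))⁻¹ * x⁻¹ * (g * a * g⁻¹)⁻¹ := by group
      _ = x * ((g * a * g⁻¹) * (x⁻¹ * (g * x * g⁻¹))) *
        (x⁻¹ * (g * x * g⁻¹))⁻¹ * x⁻¹ * (g * a * g⁻¹)⁻¹ := by rw [c]
      _ = _ := by group
  rwa [e] at h1

/-- `P` is a union of cosets of `D` -/
theorem P_right {x a d : G} (hx : x ∈ W) (ha : a ∈ A) (hd : d ∈ D)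
    (hP : InS U D w (x * a * x⁻¹ * a⁻¹)) : InS U D w (x * (a * d) * x⁻¹ * (a * d)⁻¹) := by
  refine hP.mul ?_
  have hr := h.WW x hx d (h.DW hd)
  have c := h.KR a (h.AK ha) _ hr
  have e : (x * a * x⁻¹ * a⁻¹)⁻¹ * (x * (a * d) * x⁻¹ * (a * d)⁻¹) = a * (x * d * x⁻¹ * d⁻¹) * a⁻¹ := by group
  rw [e, c, mul_inv_cancel_right]
  exact h.RD hr

theorem P_left {x a d : G} (hx : x ∈ W) (hd : d ∈ D)
    (hP : InS U D w (x * a * x⁻¹ * a⁻¹)) : InS U D w (x * (d * a) * x⁻¹ * (d * a)⁻¹) := by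
  refine hP.mul ?_
  have hu := h.UW (h.InS_mem hP)
  obtain ⟨r, hr, e⟩ := h.comm_mul_left hx (h.DW hd) hu
  rw [e, ← h.W_comm_R hu hr, inv_mul_cancel_left]
  exact h.RD hr

/-- `P` is `C`-invariant -/
theorem P_C {x c a : G} (hx : x ∈ BTwo.cj w V) (hxR : x ∉ R) (hc : c ∈ C) (ha : a ∈ A)
    (hP : InS U D w (x * a * x⁻¹ * a⁻¹)) : InS U D w (x * (c * a * c⁻¹) * x⁻¹ * (c * a * c⁻¹)⁻¹) := by
  have hcL := h.CL hc
  have hxW : x ∈ W := h.ln'.VW hx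
  have hcx : c * x * c⁻¹ ∈ BTwo.cj w V := conj_mem_of_normalizer (h.norm_cj h.LV hcL) hx
  -- `t' x ≡ c x`
  have hcxR : c * x * c⁻¹ ∉ R := fun h' => hxR (by
    have := conj_inv_mem_of_normalizer (h.LR hcL) h'
    have e : c⁻¹ * (c * x * c⁻¹) * c = x := by group
    rwa [e] at this)
  obtain ⟨t, ht, htx⟩ := h.t2 _ (mem_cj.1 hx) (fun h' => hxR (h.R_of h')) _ (mem_cj.1 hcx)
    (fun h' => hcxR (h.R_of h'))
  obtain ⟨c₁, hc₁, z, hz, htc⟩ := h.dec t ht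
  have htL := h.TL ht
  have hsL : w * t * w⁻¹ ∈ L := h.wL t htL
  have e1 : (t * (w⁻¹ * x * w) * t⁻¹)⁻¹ * (w⁻¹ * (c * x * c⁻¹) * w) =
      w⁻¹ * (((w * t * w⁻¹) * x * (w * t * w⁻¹)⁻¹)⁻¹ * (c * x * c⁻¹)) * w := by group
  rw [e1] at htx
  have h2 := h.R_of htx
  have hg : (w * t * w⁻¹)⁻¹ * c ∈ L := mul_mem (inv_mem hsL) hcL
  have h3 : x⁻¹ * (((w * t * w⁻¹)⁻¹ * c) * x * ((w * t * w⁻¹)⁻¹ * c)⁻¹) ∈ R := by
    have e : x⁻¹ * (((w * t * w⁻¹)⁻¹ * c) * x * ((w * t * w⁻¹)⁻¹ * c)⁻¹) =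
      (w * t * w⁻¹)⁻¹ * (((w * t * w⁻¹) * x * (w * t * w⁻¹)⁻¹)⁻¹ * (c * x * c⁻¹)) * (w * t * w⁻¹) := by group
    rw [e]
    exact conj_inv_mem_of_normalizer (h.LR hsL) h2
  have h4 := h.P_stab hg h3 ha hP
  have hb : ((w * t * w⁻¹)⁻¹ * c) * a * ((w * t * w⁻¹)⁻¹ * c)⁻¹ ∈ A := conj_mem_of_normalizer (h.LA hg) ha
  have e5 : c * a * c⁻¹ = (w * t * w⁻¹) * (((w * t * w⁻¹)⁻¹ * c) * a * ((w * t * w⁻¹)⁻¹ * c)⁻¹) *
      (w * t * w⁻¹)⁻¹ := by group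
  rw [e5]
  generalize ((w * t * w⁻¹)⁻¹ * c) * a * ((w * t * w⁻¹)⁻¹ * c)⁻¹ = b at h4 hb
  -- `t' b ≡ t⁻¹ b`
  have h6 : InS U D w (x * (t⁻¹ * b * t) * x⁻¹ * (t⁻¹ * b * t)⁻¹) := by
    have h7 := h.InS_conj htL h4
    refine h7.mul ?_
    have h8 := inv_mem (h.t4 t ht x hxW b hb)
    have e : (x * (t⁻¹ * b * t) * x⁻¹ * (t⁻¹ * b * t)⁻¹)⁻¹ * (t * (x * b * x⁻¹ * b⁻¹) * t⁻¹) =
      ((t * (x * b * x⁻¹ * b⁻¹) * t⁻¹)⁻¹ * (x * (t⁻¹ * b * t) * x⁻¹ * (t⁻¹ * b * t)⁻¹))⁻¹ := by group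
    rw [e, inv_inv] at h8
    exact h8
  have hc₁L := h.CL hc₁
  have hzL := h.ZL hz
  have hb1 : c₁⁻¹ * b * c₁ ∈ A := conj_inv_mem_of_normalizer (h.LA hc₁L) hb
  have hzD : ∀ z ∈ Z, z * (c₁⁻¹ * b * c₁) * z⁻¹ * (c₁⁻¹ * b * c₁)⁻¹ ∈ D := fun z hz =>
    h.AWD (mem_inf.2 ⟨mul_mem (conj_mem_of_normalizer (h.LA (h.ZL hz)) hb1) (inv_mem hb1),
      h.ZK z hz _ (h.AK hb1)⟩)
  have e6 : w * t * w⁻¹ = z * c₁⁻¹ := by
    rw [h.tw hc₁ hz htc]; exact h.L_comm _ (inv_mem hc₁L) _ hzL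
  have e7 : t = z * c₁ := by rw [htc]; exact h.L_comm _ hc₁L _ hzL
  have e7' : t = c₁ * z := htc
  have e8 : (w * t * w⁻¹) * b * (w * t * w⁻¹)⁻¹ =
      ((z * (c₁⁻¹ * b * c₁) * z⁻¹ * (c₁⁻¹ * b * c₁)⁻¹) *
        (z⁻¹ * (c₁⁻¹ * b * c₁) * z⁻¹⁻¹ * (c₁⁻¹ * b * c₁)⁻¹)⁻¹) * (t⁻¹ * b * t) := by
    rw [e6, e7']; group
  rw [e8]
  exact h.P_left hxW (mul_mem (hzD z hz) (inv_mem (hzD z⁻¹ (inv_mem hz)))) h6

/-- **(E4)** `U = (D^w ∩ U) D` -/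
theorem E4 (hV : ¬ V ≤ R) (hU : ¬ U ≤ D) {u : G} (hu : u ∈ U) : InS U D w u := by
  have l' := h.ln'
  obtain ⟨v, hv, hvR⟩ := SetLike.not_le_iff_exists.1 hV
  have hx : w * v * w⁻¹ ∈ BTwo.cj w V := conj_mem_cj hv
  have hxR : w * v * w⁻¹ ∉ R := fun h' => hvR (by
    have := h.of_R h'
    have e : w⁻¹ * (w * v * w⁻¹) * w = v := by group
    rwa [e] at this)
  generalize w * v * w⁻¹ = x at hx hxR
  have hxW : x ∈ W := l'.VW hx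
  have hxU : x ∉ U := fun h' => hxR (h.opp x h' hx)
  by_cases hP : ∃ a ∈ A, a ∉ D ∧ InS U D w (x * a * x⁻¹ * a⁻¹)
  · obtain ⟨a, ha, haD, hPa⟩ := hP
    obtain ⟨b, hb, hbu⟩ := h.surj x hxW hxU u hu
    have hPb : InS U D w (x * b * x⁻¹ * b⁻¹) := by
      by_cases hbD : b ∈ D
      · exact InS.of_D (h.RD (h.WW x hxW b (h.DW hbD)))
      · obtain ⟨c, hc, hcb⟩ := h.Ctr a ha haD b hb hbD
        have h1 := h.P_C hx hxR hc ha hPa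
        have h2 := h.P_right hxW (conj_mem_of_normalizer (h.LA (h.CL hc)) ha) hcb h1
        rwa [mul_inv_cancel_left] at h2
    exact hPb.mul hbu
  · exfalso
    push Not at hP
    -- `D^w ∩ U ≤ R`
    have h1 : ∀ y ∈ BTwo.cj w D, y ∈ U → y ∈ R := by
      intro y hy hyU
      obtain ⟨b, hb, hby⟩ := h.surj x hxW hxU y hyU
      have h2 : InS U D w (x * b * x⁻¹ * b⁻¹) := by
        refine ⟨y, hy, hyU, ?_⟩
        have hW1 : x * b * x⁻¹ * b⁻¹ ∈ W := by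
          have e : x * b * x⁻¹ * b⁻¹ = x * (b * x⁻¹ * b⁻¹) := by group
          rw [e]
          exact mul_mem hxW (conj_mem_of_normalizer (h.AW hb) (inv_mem hxW))
        have e : y⁻¹ * (x * b * x⁻¹ * b⁻¹) = ((x * b * x⁻¹ * b⁻¹)⁻¹ * y)⁻¹ := by group
        rw [e]; exact inv_mem hby
      have hbD : b ∈ D := by
        by_contra hbD
        exact hP b hb hbD h2
      have hyD : y ∈ D := by
        have := mul_mem (h.RD (h.WW x hxW b (h.DW hbD))) hby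
        rwa [mul_inv_cancel_left] at this
      exact h.E2 ⟨hyD, hy⟩
    have h2 : D ≤ V := by
      intro d hd
      have hd' : w * d * w⁻¹ ∈ BTwo.cj w D := conj_mem_cj hd
      obtain ⟨y, hy, hyd⟩ := h.cov _ (l'.DW hd')
      have h3 := h1 _ (mul_mem (inv_mem (l'.VD hy)) hd') hyd
      have h4 := mul_mem hy (l'.RV h3)
      rw [mul_inv_cancel_left] at h4
      have h5 := mem_cj.1 h4
      have e : w⁻¹ * (w * d * w⁻¹) * w = d := by group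
      rwa [e] at h5
    exact hU (h.U_le_D hV h2)

theorem U_eq (hV : ¬ V ≤ R) (hU : ¬ U ≤ D) : U = (BTwo.cj w D ⊓ U) ⊔ D := by
  refine le_antisymm (fun u hu => ?_) (sup_le inf_le_right h.DU)
  obtain ⟨y, hy, hyU, hyu⟩ := h.E4 hV hU hu
  have := mul_mem (mem_sup_left (T := D) (show y ∈ BTwo.cj w D ⊓ U from ⟨hy, hyU⟩)) (mem_sup_right hyu)
  rwa [mul_inv_cancel_left] at this

theorem D_inf : D ⊓ BTwo.cj w D = R :=
  le_antisymm h.E2 (le_inf h.RD h.ln'.RD)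

/-- `|U / D| = |D^w ∩ U / R|` -/
theorem card_U (hV : ¬ V ≤ R) (hU : ¬ U ≤ D) : D.relIndex U = R.relIndex (BTwo.cj w D ⊓ U) := by
  have h1 : R = D ⊓ (BTwo.cj w D ⊓ U) :=
    le_antisymm (le_inf h.RD (le_inf h.ln'.RD (h.RD.trans h.DU)))
      fun x hx => h.E2 ⟨hx.1, hx.2.1⟩
  rw [relIndex_eq_of_cov (H := BTwo.cj w D ⊓ U) inf_le_right fun u hu => ?_]
  · rw [← inf_relIndex_right, ← h1]
  · obtain ⟨y, hy, hyU, hyu⟩ := h.E4 hV hU hu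
    exact ⟨y, ⟨hy, hyU⟩, hyu⟩

/-- `|D / V| = |U / D|` -/
theorem card_D (hV : ¬ V ≤ R) (hU : ¬ U ≤ D) : V.relIndex D = D.relIndex U := by
  have l' := h.ln'
  have h1 : R = BTwo.cj w V ⊓ (BTwo.cj w D ⊓ U) :=
    le_antisymm (le_inf l'.RV (le_inf l'.RD (h.RD.trans h.DU)))
      fun x hx => h.opp x hx.2.2 hx.1
  have h2 : (BTwo.cj w V).relIndex (BTwo.cj w D) = V.relIndex D :=
    relIndex_map_map_of_injective _ _ (MulAut.conj w).injective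
  rw [h.card_U hV hU, ← h2, relIndex_eq_of_cov (H := BTwo.cj w D ⊓ U) inf_le_left fun m hm => ?_]
  · rw [← inf_relIndex_right, ← h1]
  · obtain ⟨x, hx, hxm⟩ := h.cov m (l'.DW hm)
    have h3 : x⁻¹ * m ∈ BTwo.cj w D := mul_mem (inv_mem (l'.VD hx)) hm
    refine ⟨x⁻¹ * m, mem_inf.2 ⟨h3, hxm⟩, ?_⟩
    have e : (x⁻¹ * m)⁻¹ * m = m⁻¹ * x * m⁻¹⁻¹ := by group
    rw [e]
    exact h.conj_mem l'.RV l'.VW (inv_mem (l'.DW hm)) hx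

end

end Cfg

end Cfsg.Agent.Omega.SQEnd
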