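import Mathlib

/-!
# The exceptional case of LEMMA NA (bb OMEGA #12947): the final argument

A group `Y` acts semilinearly on a plane `E = k x₀ + k x₁`, a normal subgroup `J` acts linearly and its 2-elements trivially,
`z ∈ J` has different eigenvalues on `x₀`, `x₁`, the torus is transitive on the lines `≠ k x₀, k x₁`, and every 2-element
is conjugate to one fixing `k x₀`: then `Y` fixes `k x₀`.
-/

set_option autoImplicit false
set_option linter.unusedSectionVars false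

namespace Cfsg.Agent.Omega.SQEnd.Exc

section lin

variable {k E : Type*} [Field k] [AddCommGroup E] [Module k E]

/-- eigenvectors of a diagonal map -/
theorem eigen_cases {y0 y1 : E} (hb : ∀ x, ∃ a b : k, x = a • y0 + b • y1)
    (hi : ∀ a b : k, a • y0 + b • y1 = 0 → a = 0 ∧ b = 0) {A : E → E} (hadd : ∀ x y, A (x + y) = A x + A y)
    (hsm : ∀ (a : k) x, A (a • x) = a • A x) {α β : k} (h0 : A y0 = α • y0) (h1 : A y1 = β • y1) (hne : α ≠ β)
    {x : E} {γ : k} (hx : A x = γ • x) : (∃ a : k, x = a • y0) ∨ (∃ a : k, x = a • y1) := by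
  obtain ⟨a, b, rfl⟩ := hb x
  rw [hadd, hsm, hsm, h0, h1] at hx
  have h2 := hi (a * α - γ * a) (b * β - γ * b) (by
    have : a • α • y0 + b • β • y1 - γ • (a • y0 + b • y1) = 0 := by rw [hx, sub_self]
    rw [← this]; module)
  by_cases ha : a = 0
  · exact Or.inr ⟨b, by rw [ha]; simp⟩
  by_cases hbb : b = 0
  · exact Or.inl ⟨a, by rw [hbb]; simp⟩
  exfalso
  apply hne
  have e1 : α = γ := by
    have h3 : a * (α - γ) = 0 := by linear_combination h2.1
    rcases mul_eq_zero.1 h3 with h | h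
    · exact absurd h ha
    · exact sub_eq_zero.1 h
  have e2 : β = γ := by
    have h3 : b * (β - γ) = 0 := by linear_combination h2.2
    rcases mul_eq_zero.1 h3 with h | h
    · exact absurd h hbb
    · exact sub_eq_zero.1 h
  rw [e1, e2]

theorem eigen_zero {y0 y1 : E} (hb : ∀ x, ∃ a b : k, x = a • y0 + b • y1)
    (hi : ∀ a b : k, a • y0 + b • y1 = 0 → a = 0 ∧ b = 0) {A : E → E} (hadd : ∀ x y, A (x + y) = A x + A y)
    (hsm : ∀ (a : k) x, A (a • x) = a • A x) {α β : k} (h0 : A y0 = α • y0) (h1 : A y1 = β • y1) (hne : α ≠ β)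
    {x : E} (hx : A x = α • x) : ∃ a : k, x = a • y0 := by
  obtain ⟨a, b, rfl⟩ := hb x
  rw [hadd, hsm, hsm, h0, h1] at hx
  have h2 := hi (a * α - α * a) (b * β - α * b) (by
    have : a • α • y0 + b • β • y1 - α • (a • y0 + b • y1) = 0 := by rw [hx, sub_self]
    rw [← this]; module)
  have h3 : b * (β - α) = 0 := by linear_combination h2.2
  rcases mul_eq_zero.1 h3 with h | h
  · exact ⟨a, by rw [h]; simp⟩
  · exact absurd (sub_eq_zero.1 h).symm hne

end lin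

/-- the situation -/
structure Fin2 (Y k E : Type*) [Group Y] [Field k] [AddCommGroup E] [Module k E] [DistribMulAction Y E]
    (J : Subgroup Y) (x0 x1 : E) : Prop where
  semi : ∀ h : Y, ∃ τ : k ≃+* k, ∀ (a : k) (x : E), h • a • x = τ a • h • x
  nor : ∀ h : Y, ∀ j ∈ J, h * j * h⁻¹ ∈ J
  lin : ∀ j ∈ J, ∀ (a : k) (x : E), j • a • x = a • j • x
  J2 : ∀ j ∈ J, ∀ n : ℕ, j ^ 2 ^ n = 1 → ∀ x : E, j • x = x
  gen : ∀ x : E, ∃ a b : k, x = a • x0 + b • x1
  ind : ∀ a b : k, a • x0 + b • x1 = 0 → a = 0 ∧ b = 0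
  z : ∃ z ∈ J, ∃ a b : k, z • x0 = a • x0 ∧ z • x1 = b • x1 ∧ a ≠ b
  tor : ∀ r : k, r ≠ 0 → ∃ t : Y, ∃ c d : k, c ≠ 0 ∧ d ≠ 0 ∧ c = r * d ∧ t • x0 = c • x0 ∧ t • x1 = d • x1 ∧
    ∀ (a : k) (x : E), t • a • x = a • t • x
  syl : ∀ β : Y, ∀ n : ℕ, β ^ 2 ^ n = 1 → ∃ y : Y, ∃ c : k, (y * β * y⁻¹) • x0 = c • x0

namespace Fin2

variable {Y k E : Type*} [Group Y] [Field k] [AddCommGroup E] [Module k E] [DistribMulAction Y E]
  {J : Subgroup Y} {x0 x1 : E} (f : Fin2 Y k E J x0 x1)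
include f

theorem ne0 : x0 ≠ 0 := fun h => by
  have := (f.ind 1 0 (by rw [h]; simp)).1
  exact one_ne_zero this

theorem ne1 : x1 ≠ 0 := fun h => by
  have := (f.ind 0 1 (by rw [h]; simp)).2
  exact one_ne_zero this

theorem not01 (c : k) : x0 ≠ c • x1 := fun h => by
  have := (f.ind 1 (-c) (by rw [h]; simp)).1
  exact one_ne_zero this

theorem not10 (c : k) : x1 ≠ c • x0 := fun h => by
  have := (f.ind (-c) 1 (by rw [h]; simp)).2
  exact one_ne_zero this

theorem gen' (h : Y) (x : E) : ∃ a b : k, x = a • h • x0 + b • h • x1 := by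
  obtain ⟨τ, hτ⟩ := f.semi h
  obtain ⟨a, b, hx⟩ := f.gen (h⁻¹ • x)
  refine ⟨τ a, τ b, ?_⟩
  rw [← hτ, ← hτ, ← smul_add, ← hx, smul_inv_smul]

theorem ind' (h : Y) (a b : k) (hx : a • h • x0 + b • h • x1 = 0) : a = 0 ∧ b = 0 := by
  obtain ⟨τ, hτ⟩ := f.semi h
  have h1 : h • (τ.symm a • x0 + τ.symm b • x1) = 0 := by
    rw [smul_add, hτ, hτ, τ.apply_symm_apply, τ.apply_symm_apply, hx]
  have h2 : τ.symm a • x0 + τ.symm b • x1 = 0 := by
    have := congrArg (fun x => h⁻¹ • x) h1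
    simpa using this
  have h3 := f.ind _ _ h2
  exact ⟨by simpa using h3.1, by simpa using h3.2⟩

/-- an element of `J` whose square is trivial on `E` is trivial on `E` -/
theorem J2' [Finite Y] {u : Y} (hu : u ∈ J) (h : ∀ x : E, u • u • x = x) (x : E) : u • x = x := by
  obtain ⟨n, m, hm, hn⟩ := Nat.exists_eq_two_pow_mul_odd (orderOf_pos u).ne'
  have h1 : (u ^ m) ^ 2 ^ n = 1 := by
    rw [← pow_mul, mul_comm, ← hn, pow_orderOf_eq_one]
  have h2 := f.J2 (u ^ m) (J.pow_mem hu m) n h1 x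
  obtain ⟨l, rfl⟩ := hm
  have h3 : ∀ l : ℕ, ∀ y : E, u ^ (2 * l) • y = y := by
    intro l
    induction l with
    | zero => intro y; simp
    | succ l ih =>
      intro y
      have e : u ^ (2 * (l + 1)) = u ^ (2 * l) * (u * u) := by rw [mul_add, pow_add]; simp [pow_two]
      rw [e, mul_smul, mul_smul, h, ih]
  rw [pow_succ, mul_smul, h3] at h2
  exact h2

/-- two pairs of lines with a common line are equal -/
theorem star [Finite Y] [CharP k 2] (h : Y) {r s : E} (hr : r = h • x0 ∨ r = h • x1) (hs : s = x0 ∨ s = x1) {c : k}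
    (hc : c ≠ 0) (hrs : r = c • s) :
    ((∃ a : k, x0 = a • h • x0) ∨ (∃ a : k, x0 = a • h • x1)) ∧
      ((∃ a : k, x1 = a • h • x0) ∨ (∃ a : k, x1 = a • h • x1)) := by
  obtain ⟨z, hzJ, ξ0, ξ1, hz0, hz1, hne⟩ := f.z
  obtain ⟨τ, hτ⟩ := f.semi h
  set z' := h * z * h⁻¹ with hz'
  have hz'J : z' ∈ J := f.nor h z hzJ
  have e0 : z' • h • x0 = τ ξ0 • h • x0 := by
    rw [hz', ← mul_smul, inv_mul_cancel_right, mul_smul, hz0, hτ]
  have e1 : z' • h • x1 = τ ξ1 • h • x1 := by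
    rw [hz', ← mul_smul, inv_mul_cancel_right, mul_smul, hz1, hτ]
  have hne' : τ ξ0 ≠ τ ξ1 := fun hh => hne (τ.injective hh)
  clear_value z'
  -- `s` is a common eigenvector
  have hs0 : s ≠ 0 := by
    rcases hs with rfl | rfl
    · exact f.ne0
    · exact f.ne1
  obtain ⟨α, hα⟩ : ∃ α : k, z • s = α • s := by
    rcases hs with rfl | rfl
    · exact ⟨_, hz0⟩
    · exact ⟨_, hz1⟩
  obtain ⟨α', hα'⟩ : ∃ α' : k, z' • s = α' • s := by
    have h1 : ∃ α' : k, z' • r = α' • r := by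
      rcases hr with rfl | rfl
      · exact ⟨_, e0⟩
      · exact ⟨_, e1⟩
    obtain ⟨α', h1⟩ := h1
    refine ⟨α', ?_⟩
    rw [hrs, f.lin z' hz'J] at h1
    have h2 := congrArg (fun x => c⁻¹ • x) h1
    simp only [smul_smul] at h2
    rw [inv_mul_cancel₀ hc, one_smul] at h2
    rw [h2]
    congr 1
    field_simp
  have hα0 : α ≠ 0 := by
    rintro rfl
    rw [zero_smul, smul_eq_zero_iff_eq] at hα
    exact hs0 hα
  have hα'0 : α' ≠ 0 := by
    rintro rfl
    rw [zero_smul, smul_eq_zero_iff_eq] at hα'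
    exact hs0 hα'
  obtain ⟨s', β, hs', hgen⟩ : ∃ (s' : E) (β : k), z • s' = β • s' ∧ ∀ x, ∃ a b : k, x = a • s + b • s' := by
    rcases hs with rfl | rfl
    · exact ⟨x1, ξ1, hz1, f.gen⟩
    · refine ⟨x0, ξ0, hz0, fun x => ?_⟩
      obtain ⟨a, b, hx⟩ := f.gen x
      exact ⟨b, a, by rw [hx, add_comm]⟩
  have key : ∀ x : E, ∃ ν : k, z • z' • x = z' • z • x + ν • s := by
    intro x
    obtain ⟨a, b, rfl⟩ := hgen x
    obtain ⟨p, q, hpq⟩ := hgen (z' • s')
    refine ⟨b * (p * α - β * p), ?_⟩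
    simp only [smul_add, f.lin z' hz'J, f.lin z hzJ, hα, hα', hs', hpq]
    module
  have hcom : z • z' • s = z' • z • s := by
    rw [hα, hα', f.lin z hzJ, f.lin z' hz'J, hα, hα', smul_smul, smul_smul, mul_comm]
  set u := (z * z') * (z' * z)⁻¹ with hu
  have huJ : u ∈ J := J.mul_mem (J.mul_mem hzJ hz'J) (J.inv_mem (J.mul_mem hz'J hzJ))
  have hu1 : ∀ y : E, ∃ ν : k, u • y = y + ν • s := by
    intro y
    obtain ⟨ν, hν⟩ := key ((z' * z)⁻¹ • y)
    refine ⟨ν, ?_⟩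
    rw [hu, mul_smul, mul_smul, hν]
    congr 1
    rw [← mul_smul z' z, smul_inv_smul]
  have hus : u • s = s := by
    have h1 : u • (z' * z) • s = (z' * z) • s := by
      rw [hu, ← mul_smul, inv_mul_cancel_right, mul_smul, mul_smul, hcom]
    have h2 : (z' * z) • s = (α * α') • s := by
      rw [mul_smul, hα, f.lin z' hz'J, hα', smul_smul]
    rw [h2, f.lin u huJ] at h1
    have h3 := congrArg (fun x => (α * α')⁻¹ • x) h1
    simpa [smul_smul, hα0, hα'0] using h3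
  have hu2 : ∀ y : E, u • u • y = y := by
    intro y
    obtain ⟨ν, hν⟩ := hu1 y
    rw [hν, smul_add, f.lin u huJ, hus, hν, add_assoc, ← add_smul, CharTwo.add_self_eq_zero, zero_smul, add_zero]
  have hu3 := f.J2' huJ hu2
  have hcomm : ∀ x : E, z • z' • x = z' • z • x := by
    intro x
    have h1 := hu3 ((z' * z) • x)
    rw [hu, ← mul_smul, inv_mul_cancel_right, mul_smul, mul_smul] at h1
    exact h1
  have k0 : z • (z' • x0) = ξ0 • (z' • x0) := by rw [hcomm, hz0, f.lin z' hz'J]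
  have k1 : z • (z' • x1) = ξ1 • (z' • x1) := by rw [hcomm, hz1, f.lin z' hz'J]
  obtain ⟨γ0, g0⟩ := eigen_zero f.gen f.ind (A := fun x => z • x) (fun x y => smul_add z x y)
    (fun a x => f.lin z hzJ a x) hz0 hz1 hne k0
  obtain ⟨γ1, g1⟩ := eigen_zero (y0 := x1) (y1 := x0) (fun x => by
      obtain ⟨a, b, hx⟩ := f.gen x
      exact ⟨b, a, by rw [hx, add_comm]⟩) (fun a b hab => (f.ind b a (by rw [add_comm]; exact hab)).symm)
    (A := fun x => z • x) (fun x y => smul_add z x y)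
    (fun a x => f.lin z hzJ a x) hz1 hz0 hne.symm k1
  exact ⟨eigen_cases (f.gen' h) (f.ind' h) (A := fun x => z' • x) (fun x y => smul_add z' x y)
    (fun a x => f.lin z' hz'J a x) e0 e1 hne' g0, eigen_cases (f.gen' h) (f.ind' h) (A := fun x => z' • x)
    (fun x y => smul_add z' x y) (fun a x => f.lin z' hz'J a x) e0 e1 hne' g1⟩

/-- every `h` fixes `k x₀` or exchanges `k x₀` and `k x₁` -/
theorem swap [Finite Y] [CharP k 2] (h : Y) :
    (∃ a : k, h • x0 = a • x0) ∨ ((∃ a : k, h • x0 = a • x1) ∧ ∃ a : k, h • x1 = a • x0) := by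
  obtain ⟨τ, hτ⟩ := f.semi h
  obtain ⟨α, β, h0⟩ := f.gen (h • x0)
  obtain ⟨γ, δ, h1⟩ := f.gen (h • x1)
  have hn0 : h • x0 ≠ 0 := fun hh => f.ne0 ((smul_eq_zero_iff_eq h).1 hh)
  have hn1 : h • x1 ≠ 0 := fun hh => f.ne1 ((smul_eq_zero_iff_eq h).1 hh)
  -- lines
  have inv_line : ∀ {x y : E}, x ≠ 0 → (∃ a : k, x = a • y) → ∃ a : k, y = a • x := by
    rintro x y hx ⟨a, rfl⟩
    have ha : a ≠ 0 := fun h => hx (by rw [h, zero_smul])
    exact ⟨a⁻¹, by rw [smul_smul, inv_mul_cancel₀ ha, one_smul]⟩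
  have trans_line : ∀ {x y z : E}, (∃ a : k, x = a • y) → (∃ a : k, y = a • z) → ∃ a : k, x = a • z := by
    rintro x y z ⟨a, rfl⟩ ⟨b, rfl⟩
    exact ⟨a * b, by rw [smul_smul]⟩
  have n01 : ¬ ∃ a : k, x0 = a • x1 := fun ⟨a, ha⟩ => f.not01 a ha
  have n10 : ¬ ∃ a : k, x1 = a • x0 := fun ⟨a, ha⟩ => f.not10 a ha
  by_cases hβ : β = 0
  · left; exact ⟨α, by rw [h0, hβ]; simp⟩
  have hx0 : ¬ ∃ a : k, h • x0 = a • x0 := by
    rintro ⟨a, ha⟩
    rw [h0] at ha
    have := (f.ind (α - a) β (by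
      have h2 : α • x0 + β • x1 - a • x0 = 0 := by rw [ha, sub_self]
      rw [← h2]; module)).2
    exact hβ this
  right
  by_cases hα : α = 0
  · have e0 : h • x0 = β • x1 := by rw [h0, hα]; simp
    refine ⟨⟨β, e0⟩, ?_⟩
    rcases (f.star h (Or.inl rfl) (Or.inr rfl) hβ e0).1 with hh | hh
    · exact absurd (trans_line hh ⟨β, e0⟩) n01
    · exact inv_line f.ne0 hh
  exfalso
  by_cases hγ : γ = 0
  · have e1 : h • x1 = δ • x1 := by rw [h1, hγ]; simp
    have hδ : δ ≠ 0 := fun hh => hn1 (by rw [e1, hh, zero_smul])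
    rcases (f.star h (Or.inr rfl) (Or.inr rfl) hδ e1).1 with hh | hh
    · exact hx0 (inv_line f.ne0 hh)
    · exact n01 (trans_line hh ⟨δ, e1⟩)
  by_cases hδ : δ = 0
  · have e1 : h • x1 = γ • x0 := by rw [h1, hδ]; simp
    rcases (f.star h (Or.inr rfl) (Or.inl rfl) hγ e1).2 with hh | hh
    · obtain ⟨a, ha⟩ := inv_line f.ne1 hh
      rw [h0] at ha
      have := (f.ind α (β - a) (by
        have h2 : α • x0 + β • x1 - a • x1 = 0 := by rw [ha, sub_self]
        rw [← h2]; module)).1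
      exact hα this
    · exact n10 (trans_line hh ⟨γ, e1⟩)
  -- all coordinates nonzero
  obtain ⟨t, c, d, hc, hd, hcd, ht0, ht1, htl⟩ := f.tor (β * γ / (α * δ))
    (div_ne_zero (mul_ne_zero hβ hγ) (mul_ne_zero hα hδ))
  have hcd' : c * (α * δ) = d * (β * γ) := by
    rw [hcd]; field_simp
  -- `t h x₀ = (c α / γ) h x₁`
  have e0 : t • h • x0 = (c * α / γ) • h • x1 := by
    rw [h0, h1, smul_add, htl, htl, ht0, ht1, smul_add, smul_smul, smul_smul, smul_smul, smul_smul]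
    congr 2
    · field_simp
    · field_simp
      linear_combination -hcd'
  obtain ⟨τ', hτ'⟩ := f.semi h⁻¹
  have e1 : (h⁻¹ * t * h) • x0 = τ' (c * α / γ) • x1 := by
    rw [mul_smul, mul_smul, e0, hτ', inv_smul_smul]
  have hne : τ' (c * α / γ) ≠ 0 := by
    rw [ne_eq, map_eq_zero]
    exact div_ne_zero (mul_ne_zero hc hα) hγ
  rcases (f.star (h⁻¹ * t * h) (Or.inl rfl) (Or.inr rfl) hne e1).1 with hh | hh
  · exact n01 (trans_line hh ⟨_, e1⟩)
  · obtain ⟨a, ha⟩ := inv_line f.ne0 hh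
    have e2 : t • h • x1 = τ a • h • x0 := by
      rw [← hτ, ← ha, mul_smul, mul_smul, smul_inv_smul]
    rw [h0, h1, smul_add, htl, htl, ht0, ht1] at e2
    have h5 := f.ind (γ * c - τ a * α) (δ * d - τ a * β) (by
      have h2 : γ • c • x0 + δ • d • x1 - τ a • (α • x0 + β • x1) = 0 := by rw [e2, sub_self]
      rw [← h2]; module)
    have h6 : c * (β * γ) = d * (α * δ) := by linear_combination β * h5.1 - α * h5.2
    -- `(c / d)² = 1`
    have h7 : (c + d) ^ 2 = 0 := by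
      have h8 : (c ^ 2 - d ^ 2) * (α * δ * (β * γ)) = 0 := by
        linear_combination (c * (β * γ)) * hcd' + (d * (β * γ)) * h6
      have h9 : c ^ 2 - d ^ 2 = 0 := by
        rcases mul_eq_zero.1 h8 with h | h
        · exact h
        · exact absurd h (mul_ne_zero (mul_ne_zero hα hδ) (mul_ne_zero hβ hγ))
      rw [CharTwo.add_sq]
      rw [CharTwo.sub_eq_add] at h9
      exact h9
    have h8 : c = d := CharTwo.add_eq_zero.1 ((pow_eq_zero_iff two_ne_zero).1 h7)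
    rw [h8] at h6
    have h9 : β * γ = α * δ := mul_left_cancel₀ hd h6
    have h10 := f.ind' h δ (-β) (by
      rw [h0, h1]
      have h11 : δ • (α • x0 + β • x1) + -β • (γ • x0 + δ • x1) = (α * δ - β * γ) • x0 := by module
      rw [h11, h9, sub_self, zero_smul])
    exact hδ h10.1

/-- **the group `Y` fixes `k x₀`** -/
theorem fixed [Finite Y] [CharP k 2] (h : Y) : ∃ a : k, h • x0 = a • x0 := by
  rcases f.swap h with hh | ⟨⟨a, ha⟩, b, hb⟩
  · exact hh
  exfalso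
  obtain ⟨τ, hτ⟩ := f.semi h
  -- odd powers exchange the lines
  have hodd : ∀ l : ℕ, (∃ c : k, h ^ (2 * l + 1) • x0 = c • x1) ∧ ∃ c : k, h ^ (2 * l + 1) • x1 = c • x0 := by
    intro l
    induction l with
    | zero => exact ⟨⟨a, by simpa using ha⟩, ⟨b, by simpa using hb⟩⟩
    | succ l ih =>
      obtain ⟨⟨c, hc⟩, ⟨d, hd⟩⟩ := ih
      have e : h ^ (2 * (l + 1) + 1) = h * h * h ^ (2 * l + 1) := by
        rw [← pow_two, ← pow_add]; congr 1; ring
      constructor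
      · refine ⟨τ (τ c * b) * a, ?_⟩
        rw [e, mul_smul, hc, mul_smul, hτ, hb, smul_smul, hτ, ha, smul_smul]
      · refine ⟨τ (τ d * a) * b, ?_⟩
        rw [e, mul_smul, hd, mul_smul, hτ, ha, smul_smul, hτ, hb, smul_smul]
  obtain ⟨n, m, hm, hn⟩ := Nat.exists_eq_two_pow_mul_odd (orderOf_pos h).ne'
  have h1 : (h ^ m) ^ 2 ^ n = 1 := by
    rw [← pow_mul, mul_comm, ← hn, pow_orderOf_eq_one]
  obtain ⟨y, c, hy⟩ := f.syl (h ^ m) n h1
  obtain ⟨l, rfl⟩ := hm
  obtain ⟨⟨c0, hc0⟩, ⟨c1, hc1⟩⟩ := hodd l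
  set g := h ^ (2 * l + 1) with hg
  obtain ⟨τ', hτ'⟩ := f.semi y⁻¹
  obtain ⟨τg, hτg⟩ := f.semi g
  have hy2 : g • y⁻¹ • x0 = τ' c • y⁻¹ • x0 := by
    rw [← hτ', ← hy, mul_smul, mul_smul, inv_smul_smul]
  have hne : y⁻¹ • x0 ≠ 0 := fun hh => f.ne0 ((smul_eq_zero_iff_eq _).1 hh)
  rcases f.swap y⁻¹ with ⟨d, hd⟩ | ⟨⟨d, hd⟩, -⟩
  · have hd0 : d ≠ 0 := fun hh => hne (by rw [hd, hh, zero_smul])
    rw [hd, hτg, hc0, smul_smul, smul_smul] at hy2
    have h3 := f.ind (-(τ' c * d)) (τg d * c0) (by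
      have : (τg d * c0) • x1 - (τ' c * d) • x0 = 0 := by rw [hy2, sub_self]
      rw [← this]; module)
    have h4 : c0 = 0 := by
      rcases mul_eq_zero.1 h3.2 with h | h
      · exact absurd ((map_eq_zero τg).1 h) hd0
      · exact h
    rw [h4, zero_smul] at hc0
    exact f.ne0 ((smul_eq_zero_iff_eq _).1 hc0)
  · have hd0 : d ≠ 0 := fun hh => hne (by rw [hd, hh, zero_smul])
    rw [hd, hτg, hc1, smul_smul, smul_smul] at hy2
    have h3 := f.ind (τg d * c1) (-(τ' c * d)) (by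
      have : (τg d * c1) • x0 - (τ' c * d) • x1 = 0 := by rw [hy2, sub_self]
      rw [← this]; module)
    have h4 : c1 = 0 := by
      rcases mul_eq_zero.1 h3.1 with h | h
      · exact absurd ((map_eq_zero τg).1 h) hd0
      · exact h
    rw [h4, zero_smul] at hc1
    exact f.ne1 ((smul_eq_zero_iff_eq _).1 hc1)

end Fin2

end Cfsg.Agent.Omega.SQEnd.Exc
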