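import Cfsg.Agent.Omega.SQEnd.ExcSL
import Cfsg.Agent.Omega.SQEnd.ExcFin

/-!
# The exceptional case of LEMMA NA (bb OMEGA #12947): the abstract contradiction

`H` acts on `M` and `B`, `f : M × M → B` an `H`-form; `θ : H → Aut SL₂(k)`, `σ : SL₂(k) → End M` a quadratic module.
-/

set_option autoImplicit false
set_option linter.unusedSectionVars false

namespace Cfsg.Agent.Omega.SQEnd.Exc

open Cfsg.Agent.Lib.SL2Mat Cfsg.Agent.Lib.AutSL2 Cfsg.Agent.Lib.AutSL2Out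
open Quad (sc)

universe u

/-- the normaliser of `U` in `H` -/
def Yg {H : Type*} [Group H] {k : Type u} [Field k] (θ : H →* MulAut (SLk k)) : Subgroup H where
  carrier := {h | ∀ s, θ h s ∈ upG k ↔ s ∈ upG k}
  one_mem' := fun s => by rw [map_one]; rfl
  mul_mem' := fun {a b} ha hb s => by
    rw [map_mul]
    exact (ha (θ b s)).trans (hb s)
  inv_mem' := fun {a} ha s => by
    have h := ha (θ a⁻¹ s)
    have e : θ a (θ a⁻¹ s) = s := by
      have : (θ a * θ a⁻¹) s = s := by rw [← map_mul, mul_inv_cancel, map_one]; rfl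
      exact this
    rw [e] at h
    exact h.symm

section aut

variable {H : Type*} [Group H] {k : Type u} [Field k] [CharP k 2] [Finite k] {θ : H →* MulAut (SLk k)}

theorem mem_Yg_of {h : H} (hh : ∀ x, ∃ x', θ h (up x) = up x') : h ∈ Yg θ := by
  intro s
  constructor
  · choose g hg using hh
    have hinj : Function.Injective g := by
      intro x y hxy
      have h1 : θ h (up x) = θ h (up y) := by rw [hg, hg, hxy]
      exact up_inj ((θ h).injective h1)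
    have hsurj := Finite.surjective_of_injective hinj
    rintro ⟨x', hx'⟩
    obtain ⟨x, rfl⟩ := hsurj x'
    exact ⟨x, (θ h).injective (by rw [hg, hx'])⟩
  · rintro ⟨x, rfl⟩
    obtain ⟨x', hx'⟩ := hh x
    exact ⟨x', hx'.symm⟩

/-- the automorphisms normalising `U` -/
theorem exists_tri {h : H} (hh : h ∈ Yg θ) : ∃ (s : SLk k) (τ : k ≃+* k), ent s 1 0 = 0 ∧
    ∀ x, θ h x = s * fieldAut τ x * s⁻¹ := by
  obtain ⟨s, τ, hs⟩ := aut_eq (θ h)
  refine ⟨s, τ, ?_, hs⟩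
  obtain ⟨x', hx'⟩ := (hh (up 1)).2 ⟨1, rfl⟩
  rw [hs, fieldAut_up, map_one, eq_mul_inv_iff_mul_eq] at hx'
  exact ent_eq_zero one_ne_zero hx'.symm

theorem fieldAut_dg (τ : k ≃+* k) (a : k) (ha : a ≠ 0) :
    fieldAut τ (dg a ha) = dg (τ a) ((map_ne_zero τ).2 ha) := by
  refine ext_ent ?_ ?_ ?_ ?_ <;> simp

end aut

section core

variable {H : Type*} [Group H] [Finite H] {M B : Type*} [AddCommGroup M] [AddCommGroup B] [DistribMulAction H M]
  [DistribMulAction H B] {k : Type u} [Field k] {F : Type*} [Field F] {N : Type*} [AddCommGroup N] [Module F N]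

/-- the exceptional configuration -/
structure Core (θ : H →* MulAut (SLk k)) (σ : SLk k →* AddMonoid.End M) (f : M →+ M →+ B) (e D P : AddSubgroup M)
    (ω : M →+ F) (t : Fˣ → H) (n : k → N) (HV : Subgroup H) : Prop extends Quad σ where
  comp : ∀ (h : H) s m, h • σ s m = σ (θ h s) (h • m)
  lift : ∀ s, ∃ g : H, (∀ m : M, g • m = σ s m) ∧ (∀ β : B, g • β = β) ∧ ∀ x, θ g x = s * x * s⁻¹
  f_act : ∀ (h : H) a c, f (h • a) (h • c) = h • f a c
  f_symm : ∀ a c, f a c = f c a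
  eE : e ≤ EE σ
  eD : e ≤ D
  DP : D ≤ P
  ND : ∀ d ∈ D, ∀ x, NN σ x d ∈ e
  exD : ∃ d ∈ D, d ∉ EE σ
  card_e : Nat.card e = Nat.card k
  NP : ∀ m, m ∉ P → NN σ 1 m ∉ D
  ω_ker : ∀ m, ω m = 0 ↔ m ∈ P
  ω_ne : ∃ m, ω m ≠ 0
  ω_t : ∀ (a : Fˣ) m, ω (t a • m) = (a : F) ^ 2 * ω m
  tD : ∀ a, ∀ d ∈ D, t a • d - d ∈ e
  fP : ∀ m ∈ P, ∀ ε ∈ e, f m ε = 0
  f_surj : ∀ ε ∈ e, ε ≠ 0 → ∀ β, ∃ m, f m ε = β
  n_inj : Function.Injective n
  n_add : ∀ x y, n (x + y) = n x + n y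
  t_up : ∀ (a : Fˣ) x, ∃ x', θ (t a) (up x) = up x' ∧ n x' = (a : F)⁻¹ • n x
  t_mul : ∀ a a', ∀ y ∈ EE σ, t a • t a' • y = t (a * a') • y
  card_F : Nat.card F = Nat.card k
  exF : ∃ a : Fˣ, a ≠ 1
  g0 : ∃ g ∈ Yg θ, (∀ ε ∈ e, g • ε ∈ e → ε = 0) ∧ ∀ y ∈ EE σ, ∃ ε ∈ e, ∃ ε' ∈ e, y = ε + g • ε'
  HVe : ∀ h ∈ HV, ∀ ε ∈ e, h • ε ∈ e
  syl1 : ∀ (β : H) (n : ℕ), β ^ 2 ^ n = 1 → ∃ y : H, y * β * y⁻¹ ∈ HV
  syl2 : ∀ β ∈ Yg θ, ∀ (n : ℕ), β ^ 2 ^ n = 1 → ∃ y ∈ Yg θ, y * β * y⁻¹ ∈ HV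
  tors : ∀ j ∈ HV, θ j = 1 → (∀ β : B, j • β = β) → (∀ ε ∈ e, j • ε = ε) →
    ∃ c : H, θ c = 1 ∧ (∀ m : M, c • m = j • m) ∧ ∀ a, ∃ x,
      (∀ s, θ (c * t a * c⁻¹ * (t a)⁻¹) s = up x * s * (up x)⁻¹) ∧
      ∀ m : M, (c * t a * c⁻¹ * (t a)⁻¹) • m = σ (up x) m

namespace Core

variable {θ : H →* MulAut (SLk k)} {σ : SLk k →* AddMonoid.End M} {f : M →+ M →+ B} {e D P : AddSubgroup M}
  {ω : M →+ F} {t : Fˣ → H} {n : k → N} {HV : Subgroup H} (c : Core θ σ f e D P ω t n HV)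
include c

theorem f_inv (s : SLk k) (a b : M) : f (σ s a) (σ s b) = f a b := by
  obtain ⟨g, hg, hg', -⟩ := c.lift s
  rw [← hg, ← hg, c.f_act, hg']

variable [CharP k 2] [Finite k]

/-- `f(E, E) = 0` -/
theorem f_EE {x y : M} (hx : x ∈ EE σ) (hy : y ∈ EE σ) : f x y = 0 := by
  have h1 : x = σ (up 1) (σ (wv k) x) - σ (wv k) x := (c.toQuad.sc_one hx).symm
  have h2 := c.f_inv (up 1) (σ (wv k) x) y
  rw [hy 1] at h2
  rw [h1, map_sub, AddMonoidHom.sub_apply, h2, sub_self]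

theorem smul_EE {h : H} (hh : h ∈ Yg θ) {y : M} (hy : y ∈ EE σ) : h • y ∈ EE σ := by
  intro x
  obtain ⟨x', hx'⟩ := ((Yg θ).inv_mem hh (up x)).2 ⟨x, rfl⟩
  have e : θ h (up x') = up x := by
    rw [hx']
    have : (θ h * θ h⁻¹) (up x) = up x := by rw [← map_mul, mul_inv_cancel, map_one]; rfl
    exact this
  rw [← e, ← c.comp, hy]

/-- semilinearity -/
theorem semi {h : H} (hh : h ∈ Yg θ) : ∃ τ : k ≃+* k, ∀ (a : k), ∀ y ∈ EE σ, h • sc σ a y = sc σ (τ a) (h • y) := by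
  obtain ⟨s, τ, hs, hx⟩ := exists_tri hh
  refine ⟨τ, fun a y hy => ?_⟩
  by_cases ha : a = 0
  · subst ha
    rw [map_zero, c.toQuad.sc_zero, c.toQuad.sc_zero, smul_zero]
  have ha' : τ a ≠ 0 := (map_ne_zero τ).2 ha
  obtain ⟨y', hy'⟩ := tri_dg hs (τ a) ha'
  rw [c.toQuad.sc_eq_dg a ha hy, c.toQuad.sc_eq_dg (τ a) ha' (c.smul_EE hh hy), c.comp, hx, fieldAut_dg, hy', σ_mul]
  exact c.toQuad.dg_mem _ _ (c.smul_EE hh hy) _

theorem t_mem (a : Fˣ) : t a ∈ Yg θ := mem_Yg_of fun x => by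
  obtain ⟨x', hx', -⟩ := c.t_up a x
  exact ⟨x', hx'⟩

/-- the torus acts linearly: `θ(t a)` is inner -/
theorem t_inner [CharP F 2] (a : Fˣ) : ∃ s : SLk k, ent s 1 0 = 0 ∧ ∀ x, θ (t a) x = s * x * s⁻¹ := by
  obtain ⟨s, τ, hs, hx⟩ := exists_tri (c.t_mem a)
  refine ⟨s, hs, ?_⟩
  have hup : ∀ x : k, n ((ent s 0 0) ^ 2 * τ x) = (a : F)⁻¹ • n x := by
    intro x
    obtain ⟨x', hx', hn⟩ := c.t_up a x
    rw [hx, fieldAut_up, tri_up hs] at hx'
    rw [up_inj hx', hn]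
  set p := (ent s 0 0) ^ 2 with hp
  have hp0 : p ≠ 0 := pow_ne_zero _ (ent00_ne hs)
  have hτ : ∀ x, τ x = x := by
    by_cases ha : (a : F) = 1
    · have h1 : ∀ x, p * τ x = x := fun x => c.n_inj (by rw [hup, ha, inv_one, one_smul])
      have h2 := h1 1
      rw [map_one, mul_one] at h2
      intro x
      have h3 := h1 x
      rwa [h2, one_mul] at h3
    · have hb : 1 + (a : F)⁻¹ ≠ 0 := by
        intro h
        apply ha
        have : (a : F)⁻¹ = 1 := by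
          have h2 := CharTwo.add_eq_zero.1 h
          exact h2.symm
        rw [inv_eq_one] at this
        exact this
      obtain ⟨s', τ', hs', hx'⟩ := exists_tri (c.t_mem (Units.mk0 _ hb)⁻¹)
      have hup' : ∀ x : k, (ent s' 0 0) ^ 2 * τ' x = x + p * τ x := by
        intro x
        apply c.n_inj
        obtain ⟨y, hy, hn⟩ := c.t_up (Units.mk0 _ hb)⁻¹ x
        rw [hx', fieldAut_up, tri_up hs'] at hy
        rw [up_inj hy, hn, c.n_add, hup, Units.val_inv_eq_inv_val, inv_inv, Units.val_mk0, add_smul, one_smul]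
      set p' := (ent s' 0 0) ^ 2
      intro x
      have h1 := hup' 1
      have h2 := hup' x
      have h3 := hup' (x * x)
      rw [map_one, map_one, mul_one, mul_one] at h1
      rw [map_mul, map_mul] at h3
      have h4 : p * (x + τ x) ^ 2 = 0 := by
        rw [CharTwo.add_sq]
        have e1 : (x + p * τ x) ^ 2 = (1 + p) * (x * x + p * (τ x * τ x)) := by
          rw [← h2, ← h3, ← h1]; ring
        have two : (2 : k) = 0 := CharTwo.two_eq_zero
        linear_combination (-1) * e1 + (p * x * τ x) * two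
      rcases mul_eq_zero.1 h4 with h | h
      · exact absurd h hp0
      · exact (CharTwo.add_eq_zero.1 ((pow_eq_zero_iff two_ne_zero).1 h)).symm
  intro x
  have h0 : fieldAut τ x = x := by
    refine ext_ent ?_ ?_ ?_ ?_ <;> rw [fieldAut_ent, hτ]
  rw [hx, h0]

/-- `θ(t a)(up x) = up (c x)` and `t a` is `k`-linear on `E` -/
theorem t_lin [CharP F 2] (a : Fˣ) : ∃ r : k, r ≠ 0 ∧ (∀ x, θ (t a) (up x) = up (r * x)) ∧
    ∀ (b : k), ∀ y ∈ EE σ, t a • sc σ b y = sc σ b (t a • y) := by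
  obtain ⟨s, hs, hx⟩ := c.t_inner a
  refine ⟨(ent s 0 0) ^ 2, pow_ne_zero _ (ent00_ne hs), fun x => by rw [hx, tri_up hs], fun b y hy => ?_⟩
  by_cases hb : b = 0
  · subst hb
    rw [c.toQuad.sc_zero, c.toQuad.sc_zero, smul_zero]
  obtain ⟨y', hy'⟩ := tri_dg hs b hb
  rw [c.toQuad.sc_eq_dg b hb hy, c.toQuad.sc_eq_dg b hb (c.smul_EE (c.t_mem a) hy), c.comp, hx, hy', σ_mul]
  exact c.toQuad.dg_mem _ _ (c.smul_EE (c.t_mem a) hy) _

/-- `h N_x(m) = N_x'(h m)` -/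
theorem smul_NN {h : H} {x x' : k} (hx : θ h (up x) = up x') (m : M) : h • NN σ x m = NN σ x' (h • m) := by
  unfold NN
  rw [smul_sub, c.comp, hx]

/-- the vector `x₀` with `e = k x₀` -/
theorem exists_x0 [CharP F 2] : ∃ x0 ∈ e, x0 ≠ 0 ∧ (∀ ε ∈ e, ∃ a, ε = sc σ a x0) ∧ (∀ a, sc σ a x0 ∈ e) ∧
    (∃ d ∈ D, x0 = NN σ 1 d) ∧
    ∀ (a : Fˣ) (r : k), (∀ x, θ (t a) (up x) = up (r * x)) → t a • x0 = sc σ r x0 := by
  obtain ⟨d, hd, hdE⟩ := c.exD
  have hx0 : NN σ 1 d ≠ 0 := fun h => hdE (c.toQuad.mem_of_NN one_ne_zero h)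
  have hmem : NN σ 1 d ∈ EE σ := c.toQuad.NN_mem _ _
  have hsc : ∀ a, sc σ a (NN σ 1 d) ∈ e := fun a => by
    rw [← c.toQuad.NN_eq_sc]; exact c.ND d hd a
  refine ⟨NN σ 1 d, c.ND d hd 1, hx0, ?_, hsc, ⟨d, hd, rfl⟩, fun a r hr => ?_⟩
  · -- counting
    have hfin : Finite e := Nat.finite_of_card_ne_zero (by rw [c.card_e]; exact Nat.card_ne_zero.2 ⟨⟨0⟩, inferInstance⟩)
    let g : k → e := fun a => ⟨sc σ a (NN σ 1 d), hsc a⟩
    have hinj : Function.Injective g := by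
      intro a b hab
      have h1 : sc σ a (NN σ 1 d) = sc σ b (NN σ 1 d) := congrArg Subtype.val hab
      by_contra hne
      have h2 : sc σ (a - b) (NN σ 1 d) = 0 := by
        have h3 := c.toQuad.sc_add (a - b) b (NN σ 1 d)
        rw [sub_add_cancel, h1] at h3
        exact (right_eq_add.1 h3)
      have h3 := c.toQuad.sc_mul (a - b)⁻¹ (a - b) hmem
      rw [inv_mul_cancel₀ (sub_ne_zero.2 hne), c.toQuad.sc_one hmem, h2] at h3
      apply hx0
      rw [h3]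
      have h4 := c.toQuad.sc_add_right (a - b)⁻¹ 0 0
      rw [add_zero] at h4
      exact left_eq_add.1 h4
    have hbij := (Function.Injective.bijective_of_nat_card_le hinj (le_of_eq c.card_e))
    intro ε hε
    obtain ⟨a, ha⟩ := hbij.2 ⟨ε, hε⟩
    exact ⟨a, (congrArg Subtype.val ha).symm⟩
  · rw [c.smul_NN (x' := r) (by rw [hr, mul_one])]
    have h1 : t a • d = d + (t a • d - d) := by abel
    rw [h1, NN_add_right, NN_E (c.eE (c.tD a d hd)), add_zero, c.toQuad.NN_eq_sc]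

/-- `t a` is not a scalar modulo `e` -/
theorem t_ne [CharP F 2] {a : Fˣ} {r : k} (hr0 : r ≠ 0) (hr : ∀ x, θ (t a) (up x) = up (r * x))
    (hE : ∀ y ∈ EE σ, t a • y - sc σ r y ∈ e) (hsc : ∀ ε ∈ e, ∀ b : k, sc σ b ε ∈ e) : a = 1 := by
  obtain ⟨m, hm⟩ := c.ω_ne
  have h1 : NN σ 1 (t a • m) = sc σ r⁻¹ (t a • NN σ 1 m) := by
    rw [← c.smul_NN (x := r⁻¹) (x' := 1) (by rw [hr, mul_inv_cancel₀ hr0]), c.toQuad.NN_eq_sc]
    obtain ⟨r', hr', h2, h3⟩ := c.t_lin a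
    exact h3 _ _ (c.toQuad.NN_mem _ _)
  have h2 : NN σ 1 (t a • m - m) ∈ e := by
    rw [NN_sub_right, h1]
    have h3 := hE _ (c.toQuad.NN_mem 1 m)
    have h4 : t a • NN σ 1 m = (t a • NN σ 1 m - sc σ r (NN σ 1 m)) + sc σ r (NN σ 1 m) := by abel
    rw [h4, c.toQuad.sc_add_right, ← c.toQuad.sc_mul r⁻¹ r (c.toQuad.NN_mem 1 m), inv_mul_cancel₀ hr0,
      c.toQuad.sc_one (c.toQuad.NN_mem 1 m), add_sub_cancel_right]
    exact hsc _ h3 _
  have h3 : t a • m - m ∈ P := by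
    by_contra h
    exact c.NP _ h (c.eD h2)
  have h4 := (c.ω_ker _).2 h3
  rw [map_sub, c.ω_t, sub_eq_zero] at h4
  have h5 : (a : F) ^ 2 = 1 := mul_right_cancel₀ hm (h4.trans (one_mul _).symm)
  have h6 : ((a : F) + 1) ^ 2 = 0 := by
    rw [CharTwo.add_sq, h5, one_pow, CharTwo.add_self_eq_zero]
  have h7 := CharTwo.add_eq_zero.1 ((pow_eq_zero_iff two_ne_zero).1 h6)
  exact Units.ext h7

theorem smul_wv {j : H} (hj : θ j = 1) (m : M) (s : SLk k) : j • σ s m = σ s (j • m) := by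
  rw [c.comp, hj]; rfl

theorem ker_Yg {j : H} (hj : θ j = 1) : j ∈ Yg θ := fun s => by rw [hj]; rfl

theorem ker_lin {j : H} (hj : θ j = 1) (a : k) {y : M} (hy : y ∈ EE σ) : j • sc σ a y = sc σ a (j • y) := by
  by_cases ha : a = 0
  · subst ha
    rw [c.toQuad.sc_zero, c.toQuad.sc_zero, smul_zero]
  rw [c.toQuad.sc_eq_dg a ha hy, c.toQuad.sc_eq_dg a ha (c.smul_EE (c.ker_Yg hj) hy), c.smul_wv hj]

/-- the 2-elements of `J` act trivially -/
theorem J_two [CharP F 2] {x0 x1 : M} (hx0 : x0 ∈ e) (hx1 : x1 ∈ EE σ) (he : ∀ ε ∈ e, ∃ a, ε = sc σ a x0)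
    (he' : ∀ a, sc σ a x0 ∈ e)
    (hd : ∃ d ∈ D, x0 = NN σ 1 d) (gen : ∀ y ∈ EE σ, ∃ a b, y = sc σ a x0 + sc σ b x1)
    (ind : ∀ a b, sc σ a x0 + sc σ b x1 = 0 → a = 0 ∧ b = 0) {a0 : Fˣ} {r κ : k} (hne : r ≠ κ)
    (h0 : t a0 • x0 = sc σ r x0) (h1 : t a0 • x1 = sc σ κ x1) {j : H} (hj : θ j = 1) {l : ℕ} (hl : j ^ 2 ^ l = 1)
    (m : M) : j • m = m := by
  obtain ⟨y, hy⟩ := c.syl1 j l hl
  -- it is enough to prove it for the conjugate
  suffices h : ∀ j : H, θ j = 1 → j ^ 2 ^ l = 1 → j ∈ HV → ∀ m : M, j • m = m by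
    have h2 := h (y * j * y⁻¹) (by rw [map_mul, map_mul, hj, mul_one, ← map_mul, mul_inv_cancel, map_one])
      (by rw [conj_pow, hl, mul_one, mul_inv_cancel]) hy (y • m)
    rw [← mul_smul, inv_mul_cancel_right, mul_smul] at h2
    exact smul_left_cancel y h2
  clear hy y m hl hj j
  intro j hj hl hHV
  let _ := c.toQuad.modE
  let X0 : EE σ := ⟨x0, c.eE hx0⟩
  let X1 : EE σ := ⟨x1, hx1⟩
  let A : EE σ → EE σ := fun y => ⟨j • (y : M), c.smul_EE (c.ker_Yg hj) y.2⟩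
  have Aadd : ∀ y z, A (y + z) = A y + A z := fun y z => Subtype.ext (smul_add j (y : M) (z : M))
  have Asm : ∀ (b : k) (y : EE σ), A (b • y) = b • A y := fun b y => Subtype.ext (c.ker_lin hj b y.2)
  have Gen : ∀ y : EE σ, ∃ a b : k, y = a • X0 + b • X1 := by
    intro y
    obtain ⟨a, b, h⟩ := gen y y.2
    exact ⟨a, b, Subtype.ext h⟩
  have Ind : ∀ a b : k, a • X0 + b • X1 = 0 → a = 0 ∧ b = 0 := fun a b h => ind a b (congrArg Subtype.val h)
  have hiter : ∀ q : ℕ, ∀ y : EE σ, ((A^[q] y : EE σ) : M) = j ^ q • (y : M) := by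
    intro q
    induction q with
    | zero => intro y; simp
    | succ q ih =>
      intro y
      rw [Function.iterate_succ_apply', pow_succ', mul_smul, ← ih]
  have hA1 : ∀ y : EE σ, A^[2 ^ l] y = y := fun y => Subtype.ext (by rw [hiter, hl, one_smul])
  -- on `x₀`
  obtain ⟨ξ, hξ⟩ : ∃ ξ : k, A X0 = ξ • X0 := by
    obtain ⟨a, ha⟩ := he _ (c.HVe j hHV x0 hx0)
    exact ⟨a, Subtype.ext ha⟩
  have hone : ∀ ξ : k, ξ ^ 2 ^ l = 1 → ξ = 1 := by
    intro ξ h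
    have h2 : (ξ + 1) ^ 2 ^ l = 0 := by
      rw [add_pow_char_pow, h, one_pow, CharTwo.add_self_eq_zero]
    exact CharTwo.add_eq_zero.1 ((pow_eq_zero_iff (by positivity)).1 h2)
  have hξ1 : ξ = 1 := by
    apply hone
    have h2 : ∀ q : ℕ, A^[q] X0 = ξ ^ q • X0 := by
      intro q
      induction q with
      | zero => simp
      | succ q ih => rw [Function.iterate_succ_apply', ih, Asm, hξ, smul_smul, pow_succ]
    have h3 := h2 (2 ^ l)
    rw [hA1] at h3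
    have h4 := Ind (ξ ^ 2 ^ l - 1) 0 (by rw [sub_smul, ← h3]; simp)
    exact sub_eq_zero.1 h4.1
  rw [hξ1, one_smul] at hξ
  obtain ⟨ζ, η, hη⟩ := Gen (A X1)
  have hη1 : η = 1 := by
    apply hone
    have h2 : ∀ q : ℕ, ∃ b : k, A^[q] X1 = b • X0 + η ^ q • X1 := by
      intro q
      induction q with
      | zero => exact ⟨0, by simp⟩
      | succ q ih =>
        obtain ⟨b, hb⟩ := ih
        refine ⟨b + η ^ q * ζ, ?_⟩
        rw [Function.iterate_succ_apply', hb, Aadd, Asm, Asm, hξ, hη]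
        module
    obtain ⟨b, h3⟩ := h2 (2 ^ l)
    rw [hA1] at h3
    have h4 := Ind b (η ^ 2 ^ l - 1) (by rw [sub_smul, one_smul, ← add_sub_assoc, ← h3, sub_self])
    exact sub_eq_zero.1 h4.2
  rw [hη1, one_smul] at hη
  have je : ∀ ε ∈ e, j • ε = ε := by
    intro ε hε
    obtain ⟨a, rfl⟩ := he ε hε
    rw [c.ker_lin hj a (c.eE hx0)]
    congr 1
    exact congrArg Subtype.val hξ
  have jE : ∀ y ∈ EE σ, j • y - y ∈ e := by
    intro y hy
    obtain ⟨a, b, h⟩ := Gen ⟨y, hy⟩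
    have h2 : A ⟨y, hy⟩ - ⟨y, hy⟩ = (b * ζ) • X0 := by
      rw [h, Aadd, Asm, Asm, hξ, hη]; module
    have h3 : j • y - y = sc σ (b * ζ) x0 := congrArg Subtype.val h2
    rw [h3]
    exact he' _
  -- trivial on `B`
  have hw0 : ∀ ε ∈ e, f ε (σ (wv k) x0) = 0 := by
    intro ε hε
    obtain ⟨d, hdD, hd1⟩ := hd
    obtain ⟨z, hz, h⟩ := c.toQuad.exists_add d
    have h2 : σ (wv k) x0 = d - z := by rw [hd1, eq_sub_iff_add_eq, add_comm]; exact h.symm
    rw [h2, map_sub, c.f_symm ε d, c.fP d (c.DP hdD) ε hε, c.f_EE (c.eE hε) hz, sub_zero]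
  have hx0ne : x0 ≠ 0 := fun h => by
    have := (Ind 1 0 (by
      have h2 : X0 = 0 := Subtype.ext h
      rw [h2]; simp)).1
    exact one_ne_zero this
  have jB : ∀ β : B, j • β = β := by
    intro β
    obtain ⟨m, rfl⟩ := c.f_surj x0 hx0 hx0ne β
    obtain ⟨z, hz, h⟩ := c.toQuad.exists_add m
    have hy := c.toQuad.NN_mem 1 m
    set y := NN σ 1 m
    have e1 : f m x0 = f y (σ (wv k) x0) := by
      rw [h, map_add, AddMonoidHom.add_apply, c.f_EE hz (c.eE hx0), zero_add, ← c.f_inv (wv k), c.toQuad.wv_wv]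
    rw [e1, ← c.f_act, c.smul_wv hj, je x0 hx0]
    have e2 : j • y = y + (j • y - y) := by abel
    rw [e2, map_add, AddMonoidHom.add_apply, hw0 _ (jE y hy), add_zero]
  obtain ⟨c', hc1, hc2, hc3⟩ := c.tors j hHV hj jB je
  obtain ⟨x, hx1', hx2⟩ := hc3 a0
  have hx0' : x = 0 := by
    apply eq_zero_of_conj
    intro s
    rw [← hx1', map_mul, map_mul, map_mul, hc1, one_mul, map_inv, map_inv, hc1, inv_one, mul_one, mul_inv_cancel]
    rfl
  have hcom : ∀ m : M, j • t a0 • m = t a0 • j • m := by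
    intro m
    have h2 := hx2 (t a0 • c' • m)
    rw [hx0', up_zero, σ_one] at h2
    rw [← hc2, ← hc2, ← h2, ← mul_smul, ← mul_smul, ← mul_smul]
    congr 1
    group
  have hζ : ζ = 0 := by
    have h2 := hcom x1
    have h3 : j • x1 = sc σ ζ x0 + x1 := congrArg Subtype.val hη
    obtain ⟨r', hr', -, hlin⟩ := c.t_lin a0
    rw [h1, c.ker_lin hj _ hx1, h3, smul_add, hlin _ _ (c.eE hx0), h0, h1] at h2
    have h4 : κ • (ζ • X0 + X1) = ζ • r • X0 + κ • X1 := Subtype.ext h2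
    have h5 := (Ind (ζ * (κ - r)) 0 (by
      have : κ • (ζ • X0 + X1) - (ζ • r • X0 + κ • X1) = 0 := by rw [h4, sub_self]
      rw [← this]; module)).1
    rcases mul_eq_zero.1 h5 with h | h
    · exact h
    · exact absurd (sub_eq_zero.1 h).symm hne
  have jE' : ∀ y ∈ EE σ, j • y = y := by
    intro y hy
    obtain ⟨a, b, h⟩ := Gen ⟨y, hy⟩
    have h2 : A ⟨y, hy⟩ = ⟨y, hy⟩ := by
      rw [h, Aadd, Asm, Asm, hξ, hη, hζ]; module
    exact congrArg Subtype.val h2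
  intro m
  obtain ⟨z, hz, h⟩ := c.toQuad.exists_add m
  rw [h, smul_add, jE' z hz, c.smul_wv hj, jE' _ (c.toQuad.NN_mem 1 m)]

/-- the action of `Y` on `E` -/
@[reducible] def actE : DistribMulAction (Yg θ) (EE σ) where
  smul h y := ⟨(h : H) • (y : M), c.smul_EE h.2 y.2⟩
  one_smul y := Subtype.ext (one_smul H (y : M))
  mul_smul h h' y := Subtype.ext (mul_smul (h : H) (h' : H) (y : M))
  smul_zero h := Subtype.ext (smul_zero (h : H))
  smul_add h y y' := Subtype.ext (smul_add (h : H) (y : M) (y' : M))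

/-- **the exceptional configuration does not exist** -/
theorem false [CharP F 2] : False := by
  let _ := c.toQuad.modE
  let _ := c.actE
  obtain ⟨x0', hx0e, hx0ne, he, he', hd, hx0t⟩ := c.exists_x0
  let x0 : EE σ := ⟨x0', c.eE hx0e⟩
  let T : Fˣ → Yg θ := fun a => ⟨t a, c.t_mem a⟩
  choose r hr0 hrup hrlin using c.t_lin
  have Tlin : ∀ (a : Fˣ) (b : k) (y : EE σ), T a • b • y = b • T a • y := fun a b y => Subtype.ext (hrlin a b y y.2)
  have Tx0 : ∀ a : Fˣ, T a • x0 = r a • x0 := fun a => Subtype.ext (hx0t a (r a) (hrup a))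
  have Tmul : ∀ (a b : Fˣ) (y : EE σ), T a • T b • y = T (a * b) • y := fun a b y => Subtype.ext (c.t_mul a b y y.2)
  obtain ⟨g, hgY, hg1, hg2⟩ := c.g0
  let g0 : Yg θ := ⟨g, hgY⟩
  obtain ⟨τ, hτ⟩ := c.semi hgY
  have g0semi : ∀ (b : k) (y : EE σ), g0 • b • y = τ b • g0 • y := fun b y => Subtype.ext (hτ b y y.2)
  obtain ⟨ρ, hρ⟩ : ∃ ρ : EE σ, ρ = g0 • x0 := ⟨_, rfl⟩
  have mem_e : ∀ y : EE σ, (y : M) ∈ e ↔ ∃ a : k, y = a • x0 := by
    intro y
    constructor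
    · intro h
      obtain ⟨a, ha⟩ := he _ h
      exact ⟨a, Subtype.ext ha⟩
    · rintro ⟨a, rfl⟩
      exact he' a
  have gρ : ∀ y : EE σ, ∃ a b : k, y = a • x0 + b • ρ := by
    intro y
    obtain ⟨ε, hε, ε', hε', h⟩ := hg2 y y.2
    obtain ⟨a, ha⟩ := (mem_e ⟨ε, c.eE hε⟩).1 hε
    obtain ⟨b, hb⟩ := (mem_e ⟨ε', c.eE hε'⟩).1 hε'
    refine ⟨a, τ b, ?_⟩
    rw [← ha, hρ, ← g0semi, ← hb]
    exact Subtype.ext h
  have hρe : ∀ a : k, ρ ≠ a • x0 := by
    intro a ha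
    apply hx0ne
    apply hg1 x0' hx0e
    have h2 : (ρ : M) ∈ e := (mem_e ρ).2 ⟨a, ha⟩
    rw [hρ] at h2
    exact h2
  have hx0' : x0 ≠ 0 := fun h => hx0ne (congrArg Subtype.val h)
  have iρ : ∀ a b : k, a • x0 + b • ρ = 0 → a = 0 ∧ b = 0 := by
    intro a b h
    have hb : b = 0 := by
      by_contra hb
      apply hρe (-(b⁻¹ * a))
      have h2 := congrArg (fun y => b⁻¹ • y) h
      simp only [smul_add, smul_smul, inv_mul_cancel₀ hb, one_smul, smul_zero] at h2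
      rw [neg_smul, eq_neg_iff_add_eq_zero, add_comm]
      exact h2
    rw [hb, zero_smul, add_zero] at h
    exact ⟨(smul_eq_zero.1 h).resolve_right hx0', hb⟩
  obtain ⟨a0, ha0⟩ := c.exF
  obtain ⟨ν, κ, hκ⟩ := gρ (T a0 • ρ)
  -- a scalar modulo `e` is trivial
  have tne : ∀ (a : Fˣ), (∀ y : EE σ, ∃ b : k, T a • y - r a • y = b • x0) → a = 1 := by
    intro a h
    refine c.t_ne (hr0 a) (hrup a) (fun y hy => ?_) (fun ε hε b => ?_)
    · obtain ⟨b, hb⟩ := h ⟨y, hy⟩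
      exact (mem_e _).2 ⟨b, hb⟩
    · obtain ⟨a, ha⟩ := (mem_e ⟨ε, c.eE hε⟩).1 hε
      refine (mem_e (b • ⟨ε, c.eE hε⟩)).2 ⟨b * a, ?_⟩
      rw [ha, smul_smul]
  have hne : r a0 ≠ κ := by
    intro h
    apply ha0
    apply tne
    intro y
    obtain ⟨a, b, rfl⟩ := gρ y
    refine ⟨b * ν, ?_⟩
    rw [smul_add, Tlin, Tlin, Tx0, hκ, h]
    module
  have hsub : κ - r a0 ≠ 0 := sub_ne_zero.2 hne.symm
  obtain ⟨x1, hx1⟩ : ∃ x1 : EE σ, x1 = ρ + ((κ - r a0)⁻¹ * ν) • x0 := ⟨_, rfl⟩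
  have hTx1 : T a0 • x1 = κ • x1 := by
    rw [hx1, smul_add, Tlin, Tx0, hκ]
    have h2 : ν = (κ - r a0) * ((κ - r a0)⁻¹ * ν) := by rw [← mul_assoc, mul_inv_cancel₀ hsub, one_mul]
    generalize (κ - r a0)⁻¹ * ν = q at h2 ⊢
    rw [h2]
    module
  have gen : ∀ y : EE σ, ∃ a b : k, y = a • x0 + b • x1 := by
    intro y
    obtain ⟨a, b, h⟩ := gρ y
    refine ⟨a - b * ((κ - r a0)⁻¹ * ν), b, ?_⟩
    rw [h, hx1]; module
  have ind : ∀ a b : k, a • x0 + b • x1 = 0 → a = 0 ∧ b = 0 := by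
    intro a b h
    rw [hx1] at h
    have h2 := iρ (a + b * ((κ - r a0)⁻¹ * ν)) b (by rw [← h]; module)
    refine ⟨?_, h2.2⟩
    have h3 := h2.1
    rw [h2.2, zero_mul, add_zero] at h3
    exact h3
  have genr : ∀ y : EE σ, ∃ a b : k, y = a • x1 + b • x0 := fun y => by
    obtain ⟨a, b, h⟩ := gen y
    exact ⟨b, a, by rw [h, add_comm]⟩
  have indr : ∀ a b : k, a • x1 + b • x0 = 0 → a = 0 ∧ b = 0 := fun a b h =>
    (ind b a (by rw [add_comm]; exact h)).symm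
  have hx1t : ∀ a : Fˣ, ∃ q : k, T a • x1 = q • x1 := by
    intro a
    refine eigen_zero genr indr (A := fun y => T a0 • y) (fun x y => smul_add _ x y) (fun b y => Tlin a0 b y)
      hTx1 (Tx0 a0) hne.symm ?_
    change T a0 • T a • x1 = κ • T a • x1
    rw [Tmul, mul_comm, ← Tmul, hTx1, Tlin]
  choose K hK using hx1t
  have hx1ne : x1 ≠ 0 := fun h => by
    have := (ind 0 1 (by rw [h]; simp)).2
    exact one_ne_zero this
  have hK0 : ∀ a, K a ≠ 0 := by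
    intro a h
    have h2 := hK a
    rw [h, zero_smul, smul_eq_zero_iff_eq] at h2
    exact hx1ne h2
  have smul_inj0 : ∀ {a b : k}, a • x0 = b • x0 → a = b := by
    intro a b h
    have h2 := (ind (a - b) 0 (by rw [sub_smul, h, sub_self]; simp)).1
    exact sub_eq_zero.1 h2
  have smul_inj1 : ∀ {a b : k}, a • x1 = b • x1 → a = b := by
    intro a b h
    have h2 := (ind 0 (a - b) (by rw [sub_smul, h, sub_self]; simp)).2
    exact sub_eq_zero.1 h2
  have hKne : ∀ a, a ≠ 1 → K a ≠ r a := by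
    intro a ha h
    apply ha
    apply tne
    intro y
    obtain ⟨p, q, rfl⟩ := gen y
    refine ⟨0, ?_⟩
    rw [smul_add, Tlin, Tlin, Tx0, hK, h]
    module
  have hrmul : ∀ a b, r (a * b) = r a * r b := by
    intro a b
    apply smul_inj0
    rw [← Tx0, ← Tmul, Tx0, Tlin, Tx0, smul_smul, mul_comm]
  have hKmul : ∀ a b, K (a * b) = K a * K b := by
    intro a b
    apply smul_inj1
    rw [← hK, ← Tmul, hK, Tlin, hK, smul_smul, mul_comm]
  -- surjectivity of `r / K`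
  have hFfin : Finite F := Nat.finite_of_card_ne_zero (by
    rw [c.card_F]; exact Nat.card_ne_zero.2 ⟨⟨0⟩, inferInstance⟩)
  have hsurj : ∀ x : k, x ≠ 0 → ∃ a : Fˣ, r a = x * K a := by
    let χ : Fˣ → kˣ := fun a => Units.mk0 (r a / K a) (div_ne_zero (hr0 a) (hK0 a))
    have hinj : Function.Injective χ := by
      intro a b hab
      have h1 : r a / K a = r b / K b := congrArg Units.val hab
      by_contra hne
      have h2 : a * b⁻¹ ≠ 1 := fun h => hne (mul_inv_eq_one.1 h)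
      apply hKne _ h2
      have h3 : r (a * b⁻¹) * r b = r a := by rw [← hrmul, inv_mul_cancel_right]
      have h4 : K (a * b⁻¹) * K b = K a := by rw [← hKmul, inv_mul_cancel_right]
      rw [div_eq_div_iff (hK0 a) (hK0 b), ← h3, ← h4] at h1
      have h5 : (K (a * b⁻¹) - r (a * b⁻¹)) * (r b * K b) = 0 := by linear_combination -h1
      rcases mul_eq_zero.1 h5 with h | h
      · exact sub_eq_zero.1 h
      · exact absurd h (mul_ne_zero (hr0 b) (hK0 b))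
    have hcard : Nat.card kˣ ≤ Nat.card Fˣ := by
      rw [Nat.card_units, Nat.card_units, c.card_F]
    have hb := Function.Injective.bijective_of_nat_card_le hinj hcard
    intro x hx
    obtain ⟨a, ha⟩ := hb.2 (Units.mk0 x hx)
    refine ⟨a, ?_⟩
    have h1 : r a / K a = x := congrArg Units.val ha
    rw [← h1, div_mul_cancel₀ _ (hK0 a)]
  -- the element `z`
  obtain ⟨s, hs, hsx⟩ := c.t_inner a0
  obtain ⟨gz, hgz1, -, hgz3⟩ := c.lift s
  have hp := ent00_ne hs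
  have hθ : θ (gz⁻¹ * t a0) = 1 := by
    have h1 : θ (t a0) = θ gz := MulEquiv.ext fun x => by rw [hsx, hgz3]
    rw [map_mul, h1, ← map_mul, inv_mul_cancel, map_one]
  have hgzE : ∀ y ∈ EE σ, gz⁻¹ • y = sc σ (ent s 0 0)⁻¹ y := by
    intro y hy
    have h1 : gz • sc σ (ent s 0 0)⁻¹ y = y := by
      rw [hgz1, c.toQuad.tri hs (c.toQuad.sc_mem _ _), ← c.toQuad.sc_mul _ _ hy, mul_inv_cancel₀ hp,
        c.toQuad.sc_one hy]
    rw [inv_smul_eq_iff, h1]
  let z : Yg θ := ⟨gz⁻¹ * t a0, c.ker_Yg hθ⟩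
  have hz : ∀ y : EE σ, z • y = (ent s 0 0)⁻¹ • T a0 • y := by
    intro y
    apply Subtype.ext
    change (gz⁻¹ * t a0) • (y : M) = sc σ (ent s 0 0)⁻¹ (t a0 • (y : M))
    rw [mul_smul, hgzE _ (c.smul_EE (c.t_mem a0) y.2)]
  -- assemble
  let J : Subgroup (Yg θ) := (θ.comp (Yg θ).subtype).ker
  have memJ : ∀ {h : Yg θ}, h ∈ J ↔ θ (h : H) = 1 := Iff.rfl
  have hfin : Fin2 (Yg θ) k (EE σ) J x0 x1 :=
    { semi := fun h => by
        obtain ⟨τ, hτ⟩ := c.semi h.2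
        exact ⟨τ, fun a y => Subtype.ext (hτ a y y.2)⟩
      nor := fun h j hj => by
        have hj' : θ (j : H) = 1 := hj
        show θ ((h * j * h⁻¹ : Yg θ) : H) = 1
        push_cast
        rw [map_mul, map_mul, hj', mul_one, ← map_mul, mul_inv_cancel, map_one]
      lin := fun j hj a y => Subtype.ext (c.ker_lin hj a y.2)
      J2 := fun j hj n hn y => Subtype.ext (by
        refine c.J_two hx0e x1.2 he he' hd (fun y hy => ?_) (fun a b h => ind a b (Subtype.ext h)) hne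
          (hx0t a0 _ (hrup a0)) (congrArg Subtype.val hTx1) hj (l := n) ?_ y
        · obtain ⟨a, b, h⟩ := gen ⟨y, hy⟩
          exact ⟨a, b, congrArg Subtype.val h⟩
        · have := congrArg Subtype.val hn
          simpa using this)
      gen := gen
      ind := ind
      z := ⟨z, hθ, (ent s 0 0)⁻¹ * r a0, (ent s 0 0)⁻¹ * κ, by rw [hz, Tx0, smul_smul],
        by rw [hz, hTx1, smul_smul], fun h => hne (mul_left_cancel₀ (inv_ne_zero hp) h)⟩
      tor := fun x hx => by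
        obtain ⟨a, ha⟩ := hsurj x hx
        exact ⟨T a, r a, K a, hr0 a, hK0 a, ha, Tx0 a, hK a, Tlin a⟩
      syl := fun β n hn => by
        obtain ⟨y, hy, hyV⟩ := c.syl2 β β.2 n (by
          have := congrArg Subtype.val hn
          simpa using this)
        obtain ⟨a, ha⟩ := he _ (c.HVe _ hyV x0' hx0e)
        exact ⟨⟨y, hy⟩, a, Subtype.ext ha⟩ }
  obtain ⟨a, ha⟩ := hfin.fixed g0
  rw [← hρ] at ha
  exact hρe a ha

end Core

end core

end Cfsg.Agent.Omega.SQEnd.Exc
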