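import Cfsg.Agent.Lib.AutSL2Out

/-!
# The exceptional case of LEMMA NA (bb OMEGA #12947): quadratic modules for `SL₂(k)`, `k` of characteristic 2

`σ : SL₂(k) → End M`, `E = C_M(U)`, `[M, U] ≤ E`, `C_M(u) = E` for `1 ≠ u ∈ U`, `C_M(SL₂(k)) = 0`:
`E` is a `k`-module (`sc`), `diag(a, 1/a)` acts on `E` as `a`, `M = E + w E`.
-/

set_option autoImplicit false
set_option linter.unusedSectionVars false

namespace Cfsg.Agent.Omega.SQEnd.Exc

open Cfsg.Agent.Lib.SL2Mat Cfsg.Agent.Lib.AutSL2 Cfsg.Agent.Lib.AutSL2Out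

universe u

/-- `SL₂(k)` -/
abbrev SLk (k : Type u) [Field k] := Matrix.SpecialLinearGroup (Fin 2) k

section mat

variable {k : Type u} [Field k]

/-- the Weyl element -/
def wv (k : Type u) [Field k] : SLk k := wm 1 one_ne_zero

theorem wm_eq_up (a : k) (ha : a ≠ 0) : wm a ha = up a * lo (-a⁻¹) * up a := by
  refine ext_ent ?_ ?_ ?_ ?_ <;> simp [ent_mul, ha]

theorem wm_eq_dg (a : k) (ha : a ≠ 0) : wm a ha = dg a ha * wv k := by
  unfold wv
  refine ext_ent ?_ ?_ ?_ ?_ <;> simp [ent_mul]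

theorem dg_mul_wv (a : k) (ha : a ≠ 0) : dg a ha * wv k = wv k * dg a⁻¹ (inv_ne_zero ha) := by
  unfold wv
  refine ext_ent ?_ ?_ ?_ ?_ <;> simp [ent_mul]

theorem dg_mul_dg (a b : k) (ha : a ≠ 0) (hb : b ≠ 0) : dg a ha * dg b hb = dg (a * b) (mul_ne_zero ha hb) := by
  refine ext_ent ?_ ?_ ?_ ?_ <;> simp [ent_mul, mul_comm]

theorem dg_one : dg (1 : k) one_ne_zero = 1 := by
  refine ext_ent ?_ ?_ ?_ ?_ <;> simp

theorem wv_up (x : k) : wv k * up x = lo (-x) * wv k := by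
  unfold wv
  refine ext_ent ?_ ?_ ?_ ?_ <;> simp [ent_mul]

theorem dg_inv (a : k) (ha : a ≠ 0) : (dg a ha)⁻¹ = dg a⁻¹ (inv_ne_zero ha) := by
  rw [inv_eq_iff_mul_eq_one, dg_mul_dg]
  refine ext_ent ?_ ?_ ?_ ?_ <;> simp [ha]

/-- an element conjugating one `up` to an `up` is upper triangular -/
theorem ent_eq_zero {s : SLk k} {x x' : k} (hx : x ≠ 0) (h : s * up x = up x' * s) : ent s 1 0 = 0 := by
  have h1 := congrArg (fun y => ent y 1 1) h
  simp only [ent_mul, up_01, up_11, up_10] at h1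
  have h2 : ent s 1 0 * x = 0 := by linear_combination h1
  rcases mul_eq_zero.1 h2 with h3 | h3
  · exact h3
  · exact absurd h3 hx

theorem ent00_ne {s : SLk k} (h : ent s 1 0 = 0) : ent s 0 0 ≠ 0 := by
  intro h0
  have := det_eq s
  rw [h0, h] at this
  simp at this

theorem ent11_eq {s : SLk k} (h : ent s 1 0 = 0) : ent s 1 1 = (ent s 0 0)⁻¹ := by
  have h1 := det_eq s
  rw [h, mul_zero, sub_zero] at h1
  exact eq_inv_of_mul_eq_one_right h1

/-- upper triangular matrices -/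
theorem eq_up_dg {s : SLk k} (h : ent s 1 0 = 0) :
    s = up (ent s 0 1 * ent s 0 0) * dg (ent s 0 0) (ent00_ne h) := by
  have h1 := ent11_eq h
  have h0 := ent00_ne h
  refine ext_ent ?_ ?_ ?_ ?_ <;> simp [ent_mul, h, h1, h0]

theorem tri_up {s : SLk k} (h : ent s 1 0 = 0) (x : k) : s * up x * s⁻¹ = up ((ent s 0 0) ^ 2 * x) := by
  rw [mul_inv_eq_iff_eq_mul]
  have h1 := ent11_eq h
  have h0 := ent00_ne h
  refine ext_ent ?_ ?_ ?_ ?_ <;> simp only [ent_mul, h, h1, up_00, up_01, up_10, up_11]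
  all_goals (try field_simp)
  all_goals ring

theorem tri_dg {s : SLk k} (h : ent s 1 0 = 0) (a : k) (ha : a ≠ 0) :
    ∃ y, s * dg a ha * s⁻¹ = up y * dg a ha := by
  have h0 := ent00_ne h
  refine ⟨ent s 0 1 * ent s 0 0 * (1 - a ^ 2), ?_⟩
  rw [mul_inv_eq_iff_eq_mul]
  have h1 := ent11_eq h
  refine ext_ent ?_ ?_ ?_ ?_ <;>
    simp only [ent_mul, h, h1, up_00, up_01, up_10, up_11, dg_00, dg_01, dg_10, dg_11]
  all_goals (try field_simp)
  all_goals ring

/-- `up x` is central only for `x = 0` -/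
theorem eq_zero_of_conj {x : k} (h : ∀ s : SLk k, up x * s * (up x)⁻¹ = s) : x = 0 := by
  have h1 : up x ∈ Subgroup.center (SLk k) := by
    rw [Subgroup.mem_center_iff]
    intro s
    have := h s
    rw [mul_inv_eq_iff_eq_mul] at this
    exact this.symm
  have := (mem_center_offdiag h1).1
  rwa [up_01] at this

variable [CharP k 2]

theorem wv_sq : wv k * wv k = 1 := by
  unfold wv
  have h : (-1 : k) = 1 := CharTwo.neg_eq 1
  refine ext_ent ?_ ?_ ?_ ?_ <;> simp [ent_mul, h]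

theorem conj_wv_up (x : k) : wv k * up x * wv k = lo (-x) := by
  rw [wv_up, mul_assoc, wv_sq, mul_one]

/-- automorphisms of `SL₂(k)`, `k` finite of characteristic 2 -/
theorem aut_eq [Finite k] (α : MulAut (SLk k)) :
    ∃ (s : SLk k) (τ : k ≃+* k), ∀ x, α x = s * fieldAut τ x * s⁻¹ := by
  obtain ⟨g, τ, h⟩ := exists_eq α
  have h2 : IsSquare (g.1.det) := FiniteField.isSquare_of_char_two (CharP.ringChar_of_prime_eq_zero Nat.prime_two
    (by exact_mod_cast CharTwo.two_eq_zero (R := k))) _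
  obtain ⟨d, hd⟩ := h2
  have hg : g.1.det ≠ 0 := by
    have : IsUnit g.1.det := (Matrix.isUnit_iff_isUnit_det _).1 g.isUnit
    exact this.ne_zero
  have hd0 : d ≠ 0 := fun h0 => hg (by rw [hd, h0, mul_zero])
  obtain ⟨s, hs⟩ := conjGL_of_det_sq g d hd0 (by rw [hd, pow_two])
  refine ⟨s, τ, fun x => ?_⟩
  rw [h, ← hs]
  rfl

end mat

section quad

variable {k : Type u} [Field k] {M : Type*} [AddCommGroup M]

/-- `C_M(U)` -/
def EE (σ : SLk k →* AddMonoid.End M) : AddSubgroup M where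
  carrier := {m | ∀ x, σ (up x) m = m}
  zero_mem' := fun x => map_zero _
  add_mem' := fun {a b} ha hb x => by rw [map_add, ha x, hb x]
  neg_mem' := fun {a} ha x => by rw [map_neg, ha x]

theorem mem_EE {σ : SLk k →* AddMonoid.End M} {m : M} : m ∈ EE σ ↔ ∀ x, σ (up x) m = m := Iff.rfl

/-- the hypotheses of this section -/
structure Quad (σ : SLk k →* AddMonoid.End M) : Prop where
  two : ∀ m : M, m + m = 0
  quad : ∀ x m, σ (up x) m - m ∈ EE σ
  reg : ∀ x, x ≠ 0 → ∀ m, σ (up x) m = m → m ∈ EE σ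
  cen : ∀ m, (∀ s, σ s m = m) → m = 0

theorem σ_mul (σ : SLk k →* AddMonoid.End M) (s s' : SLk k) (m : M) : σ (s * s') m = σ s (σ s' m) := by
  rw [map_mul]; rfl

theorem σ_one (σ : SLk k →* AddMonoid.End M) (m : M) : σ 1 m = m := by rw [map_one]; rfl

variable {σ : SLk k →* AddMonoid.End M}

/-- `N_x(m) = [m, up x]` -/
def NN (σ : SLk k →* AddMonoid.End M) (x : k) (m : M) : M := σ (up x) m - m

theorem NN_E {x : k} {m : M} (hm : m ∈ EE σ) : NN σ x m = 0 := by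
  unfold NN; rw [hm x, sub_self]

theorem NN_add_right (x : k) (m m' : M) : NN σ x (m + m') = NN σ x m + NN σ x m' := by
  unfold NN; rw [map_add]; abel

theorem NN_sub_right (x : k) (m m' : M) : NN σ x (m - m') = NN σ x m - NN σ x m' := by
  unfold NN; rw [map_sub]; abel

theorem NN_zero_left (m : M) : NN σ (0 : k) m = 0 := by
  unfold NN; rw [up_zero, σ_one, sub_self]

variable (q : Quad σ)
include q

namespace Quad

theorem neg (m : M) : -m = m := by
  rw [neg_eq_iff_add_eq_zero]; exact q.two m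

theorem NN_mem (x : k) (m : M) : NN σ x m ∈ EE σ := q.quad x m

theorem NN_add_left (x y : k) (m : M) : NN σ (x + y) m = NN σ x m + NN σ y m := by
  have h1 := q.quad y m x
  rw [map_sub] at h1
  have h2 : σ (up (x + y)) m = σ (up x) (σ (up y) m) := by rw [← up_mul, σ_mul]
  unfold NN
  rw [h2, sub_eq_iff_eq_add.1 h1]
  abel

theorem mem_of_NN {x : k} (hx : x ≠ 0) {m : M} (h : NN σ x m = 0) : m ∈ EE σ := q.reg x hx m (sub_eq_zero.1 h)

variable [CharP k 2]

theorem wv_wv (m : M) : σ (wv k) (σ (wv k) m) = m := by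
  have _ := q
  rw [← σ_mul, wv_sq, σ_one]

theorem lo_wv (x : k) (m : M) : σ (lo (-x)) m = σ (wv k) (σ (up x) (σ (wv k) m)) := by
  have _ := q
  rw [← conj_wv_up, σ_mul, σ_mul]

/-- `E ∩ w E = 0` -/
theorem inf {m : M} (h1 : m ∈ EE σ) (h2 : σ (wv k) m ∈ EE σ) : m = 0 := by
  apply q.cen
  have hlo : ∀ x : k, σ (lo x) m = m := by
    intro x
    have h3 := q.lo_wv (-x) m
    rw [neg_neg, h2, q.wv_wv] at h3
    exact h3
  intro s
  obtain ⟨a, b, c, d, rfl⟩ := exists_up_lo s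
  rw [σ_mul, σ_mul, σ_mul, hlo, h1, hlo, h1]

/-- the scalar action -/
def sc (σ : SLk k →* AddMonoid.End M) (a : k) (m : M) : M := NN σ a (σ (wv k) m)

theorem sc_mem (a : k) (m : M) : sc σ a m ∈ EE σ := q.NN_mem _ _

theorem sc_zero (m : M) : sc σ (0 : k) m = 0 := by
  have _ := q
  exact NN_zero_left _

theorem sc_add (a b : k) (m : M) : sc σ (a + b) m = sc σ a m + sc σ b m := q.NN_add_left _ _ _

theorem sc_add_right (a : k) (m m' : M) : sc σ a (m + m') = sc σ a m + sc σ a m' := by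
  have _ := q
  unfold sc
  rw [map_add, NN_add_right]

omit q in
theorem up_eq (a : k) (m : M) : σ (up a) m = m + NN σ a m := by unfold NN; abel

theorem dg_mem (a : k) (ha : a ≠ 0) {m : M} (hm : m ∈ EE σ) : σ (dg a ha) m ∈ EE σ := by
  have _ := q
  intro x
  have h1 : up x * dg a ha = dg a ha * up ((a⁻¹) ^ 2 * x) := by
    rw [dg_up]
    congr 2
    field_simp
  rw [← σ_mul, h1, σ_mul, hm]

/-- **`diag(a, 1/a)` acts on `E` as the scalar `a`** -/
theorem sc_eq_dg (a : k) (ha : a ≠ 0) {m : M} (hm : m ∈ EE σ) : sc σ a m = σ (dg a ha) m := by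
  -- first for `a⁻¹`
  have key : ∀ (b : k) (hb : b ≠ 0), sc σ b⁻¹ m = σ (dg b⁻¹ (inv_ne_zero hb)) m := by
    intro b hb
    have e1 : σ (wm b hb) m = σ (wv k) (σ (dg b⁻¹ (inv_ne_zero hb)) m) := by
      rw [wm_eq_dg, dg_mul_wv, σ_mul]
    have e2 : σ (wm b hb) m = m + σ (wv k) (sc σ b⁻¹ m) + sc σ b (sc σ b⁻¹ m) := by
      rw [wm_eq_up, σ_mul, σ_mul, hm, q.lo_wv, up_eq b⁻¹ (σ (wv k) m), map_add, q.wv_wv]
      change σ (up b) (m + σ (wv k) (sc σ b⁻¹ m)) = _
      rw [map_add, hm, up_eq b (σ (wv k) (sc σ b⁻¹ m))]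
      change m + (σ (wv k) (sc σ b⁻¹ m) + sc σ b (sc σ b⁻¹ m)) = _
      rw [add_assoc]
    rw [e1] at e2
    -- `w (d m - sc m) = m + ...`
    have e3 : σ (wv k) (σ (dg b⁻¹ (inv_ne_zero hb)) m - sc σ b⁻¹ m) = m + sc σ b (sc σ b⁻¹ m) := by
      rw [map_sub, e2]; abel
    have m1 : m + sc σ b (sc σ b⁻¹ m) ∈ EE σ := add_mem hm (q.sc_mem _ _)
    have m2 : σ (dg b⁻¹ (inv_ne_zero hb)) m - sc σ b⁻¹ m ∈ EE σ := sub_mem (q.dg_mem _ _ hm) (q.sc_mem _ _)
    have e4 := q.inf m2 (by rw [e3]; exact m1)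
    exact (sub_eq_zero.1 e4).symm
  have h1 := key a⁻¹ (inv_ne_zero ha)
  have h2 : ∀ (c : k) (hc : c ≠ 0), c = a → σ (dg c hc) m = σ (dg a ha) m := by
    rintro c hc rfl; rfl
  rw [h2 _ _ (inv_inv a), inv_inv] at h1
  exact h1

theorem sc_one {m : M} (hm : m ∈ EE σ) : sc σ (1 : k) m = m := by
  rw [q.sc_eq_dg 1 one_ne_zero hm, dg_one, σ_one]

theorem sc_mul (a b : k) {m : M} (hm : m ∈ EE σ) : sc σ (a * b) m = sc σ a (sc σ b m) := by
  by_cases ha : a = 0
  · subst ha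
    rw [zero_mul, q.sc_zero, q.sc_zero]
  by_cases hb : b = 0
  · subst hb
    rw [mul_zero, q.sc_zero]
    have := q.sc_add_right a 0 0
    rw [add_zero] at this
    exact (left_eq_add.1 this).symm
  rw [q.sc_eq_dg a ha (q.sc_mem _ _), q.sc_eq_dg b hb hm, q.sc_eq_dg _ (mul_ne_zero ha hb) hm, ← σ_mul, dg_mul_dg]

/-- upper triangular matrices act on `E` as scalars -/
theorem tri {s : SLk k} (hs : ent s 1 0 = 0) {m : M} (hm : m ∈ EE σ) : σ s m = sc σ (ent s 0 0) m := by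
  have h1 : σ s m = σ (up (ent s 0 1 * ent s 0 0) * dg (ent s 0 0) (ent00_ne hs)) m := by rw [← eq_up_dg hs]
  rw [h1, σ_mul, q.sc_eq_dg _ (ent00_ne hs) hm]
  exact q.dg_mem _ _ hm _

/-- `E` is a `k`-module -/
@[reducible] def modE : Module k (EE σ) where
  smul a m := ⟨sc σ a m, q.sc_mem _ _⟩
  one_smul m := Subtype.ext (q.sc_one m.2)
  mul_smul a b m := Subtype.ext (q.sc_mul a b m.2)
  smul_zero a := Subtype.ext (by
    have := q.sc_add_right a 0 0
    rw [add_zero] at this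
    exact left_eq_add.1 this)
  smul_add a m m' := Subtype.ext (q.sc_add_right a m m')
  add_smul a b m := Subtype.ext (q.sc_add a b m)
  zero_smul m := Subtype.ext (q.sc_zero _)

/-- `M = E + w E` -/
theorem exists_add (m : M) : ∃ z ∈ EE σ, m = z + σ (wv k) (NN σ 1 m) := by
  refine ⟨m - σ (wv k) (NN σ 1 m), q.mem_of_NN one_ne_zero ?_, by abel⟩
  rw [NN_sub_right]
  have h1 : NN σ 1 (σ (wv k) (NN σ 1 m)) = NN σ 1 m := q.sc_one (q.NN_mem _ _)
  rw [h1, sub_self]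

/-- `N_a(m) = a N_1(m)` -/
theorem NN_eq_sc (a : k) (m : M) : NN σ a m = sc σ a (NN σ 1 m) := by
  obtain ⟨z, hz, h⟩ := q.exists_add m
  conv_lhs => rw [h]
  rw [NN_add_right, NN_E hz, zero_add]
  rfl

end Quad

end quad

end Cfsg.Agent.Omega.SQEnd.Exc
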