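import Cfsg.Agent.Omega.SQEnd.ToPLoc
import Cfsg.Agent.Omega.Hex.GlobOf

/-!
# The structure `Hex` around a Sylow 2-subgroup of `N(V) ∩ N(R)` (input of the end for `G₂(4)`)
-/

set_option autoImplicit false

universe u v w z

namespace Cfsg.Agent.Omega.SQEnd

open Subgroup Cfsg.Agent.Omega.BTwo Cfsg.Agent.Lib.SL2Mat Cfsg.Agent.Omega.Hex

variable {G : Type u} [Group G] [Finite G] {ι : Type v} {V : Subgroup G} {R : ι → Subgroup G} {i j : ι} {k : Type w}
  [Field k] {K : Subgroup G} {φ : K →* Matrix.SpecialLinearGroup (Fin 2) k} {F : Type z} [Field F] [Finite F]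
  [CharP F 2] {v : F → F → G} {w1 w2 : F → G}

omit [Finite G] [Finite F] [CharP F 2] in
theorem card_R (c : Coord V R i j v w1 w2) : Nat.card (R i) = Nat.card F := by
  refine (Nat.card_eq_of_bijective (fun x : F => (⟨v x 0, (c.mem_R1 _).2 ⟨x, rfl⟩⟩ : R i)) ⟨?_, ?_⟩).symm
  · intro x y h
    exact (c.v_inj (congrArg Subtype.val h)).1
  · rintro ⟨y, hy⟩
    obtain ⟨x, hx⟩ := (c.mem_R1 y).1 hy
    exact ⟨x, Subtype.ext hx⟩

/-- `Hex` with `S ≤ B`, `S` a Sylow 2-subgroup of `G` in `N(V) ∩ N(R)` -/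
theorem exists_hex (b : BTC V R) (c : Coord V R i j v w1 w2) (kd : KD V R i j K φ)
    (hC : centralizer (WW V (R i) : Set G) ≤ R i)
    (NAe : ∀ g ∈ normalizer (R i : Set G), cj g (WW V (R i) ⊔ UU V R j) = WW V (R i) ⊔ UU V R j → cj g V = V)
    (hF : 4 ≤ Nat.card F) (S : Sylow 2 G) (hSV : (S : Subgroup G) ≤ normalizer (V : Set G))
    (hSR : (S : Subgroup G) ≤ normalizer (R i : Set G)) :
    ∃ (P₁ P₂ B U H : Subgroup G) (n₁ n₂ : G), Hex P₁ P₂ B U H V (R i) (WW V (R i)) (YY V R) (DD V R) n₁ n₂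
      (Nat.card F) (Nat.card k) ∧ B ⊓ centralizer (U : Set G) ≤ U ∧ U ≤ S ∧ (S : Subgroup G) ≤ B ∧
      P₁ ≤ normalizer (V : Set G) ∧ P₂ ≤ normalizer (R i : Set G) := by
  have l := ploc b c kd hC NAe hF
  obtain ⟨H, hH⟩ := l.nt.exists_cpl
  have hSF : (S : Subgroup G) ≤ PLoc.NF V R i := le_inf hSV hSR
  obtain ⟨n₁, -, n₂, -, h⟩ := l.hex S.isPGroup' hSF hH
  rw [card_R c] at h
  refine ⟨_, _, _, _, H, n₁, n₂, h, ?_, ?_, le_sup_right, h.nV, h.nR⟩
  · refine inf_le_right.trans ((centralizer_le ?_).trans (hC.trans (h.RV.trans (h.VD.trans (h.DW.trans h.WU)))))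
    exact h.WU
  · have h1 : IsPGroup 2 (PLoc.UZ V R i ⊔ S : Subgroup G) :=
      h.two.to_sup_of_normal_left' S.isPGroup' ((le_sup_right : (S : Subgroup G) ≤ PLoc.BB V R i K S).trans h.nU)
    exact le_sup_left.trans (S.is_maximal' h1 le_sup_right).le

/-- `|k| = |F|^c` -/
theorem card_k_eq (b : BTC V R) (c : Coord V R i j v w1 w2) (kd : KD V R i j K φ)
    (NAe : ∀ g ∈ normalizer (R i : Set G), cj g (WW V (R i) ⊔ UU V R j) = WW V (R i) ⊔ UU V R j → cj g V = V)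
    (hF : 4 ≤ Nat.card F) (hk : Nat.card k = 4) : Nat.card F = 4 := by
  have := kd.finite
  have := kd.charP b
  have n : KIn V R i j K φ := { kd := kd, NA := NAe }
  obtain ⟨N, _, _, P1, P2, y⟩ := c.exists_yPair b.toBT
  have h1 : Nat.card N = Nat.card k := by rw [← y.index_D_U, n.relIndex_D b.toBT]
  have h2 := y.card_M
  rw [h1, hk] at h2
  have h3 : Module.finrank F N ≠ 0 := by
    intro h0
    rw [h0, pow_zero] at h2
    omega
  have h4 : Nat.card F ^ 1 ≤ Nat.card F ^ Module.finrank F N :=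
    Nat.pow_le_pow_right (by omega) (Nat.one_le_iff_ne_zero.2 h3)
  rw [pow_one, ← h2] at h4
  omega

end Cfsg.Agent.Omega.SQEnd
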