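import Cfsg.Agent.Omega.Hex.OfKD

/-!
# `⟨X, K⟩` is normalised by `N(V)` and `N(R i)`
-/

set_option autoImplicit false

universe u v w

namespace Cfsg.Agent.Omega.SQEnd

open Subgroup Cfsg.Agent.Omega.BTwo

variable {G : Type u} [Group G] {ι : Type v} {V : Subgroup G} {R : ι → Subgroup G} {i : ι} {K : Subgroup G}

theorem norm_sup {A B : Subgroup G} {g : G} (hA : g ∈ normalizer (A : Set G)) (hB : g ∈ normalizer (B : Set G)) :
    g ∈ normalizer ((A ⊔ B : Subgroup G) : Set G) := by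
  rw [← cj_eq_self_iff, cj_sup, cj_eq_self_iff.2 hA, cj_eq_self_iff.2 hB]

/-- `N(V)` normalises `⟨X, K⟩` -/
theorem NV_norm (b : BT V R) (hK : normalizer (R i : Set G) ≤ normalizer (K : Set G)) :
    normalizer (V : Set G) ≤ normalizer ((XX V R ⊔ K : Subgroup G) : Set G) := by
  intro g hg
  obtain ⟨j, hj⟩ := b.perm g hg i
  obtain ⟨x, hx, hxj⟩ := b.trans_X_one i j
  have h1 : x⁻¹ * g ∈ normalizer (R i : Set G) := by
    rw [← cj_eq_self_iff, cj_mul, hj, ← hxj, cj_inv_cj]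
  have h2 : x⁻¹ * g ∈ normalizer (V : Set G) := mul_mem (inv_mem (b.X_le_NV hx)) hg
  have h3 := norm_sup (b.NV_le_NX h2) (hK h1)
  have h4 := mul_mem (le_normalizer ((le_sup_left : XX V R ≤ XX V R ⊔ K) hx)) h3
  rwa [mul_inv_cancel_left] at h4

/-- `N(R i)` normalises `⟨X, K⟩` -/
theorem NR_norm (b : BT V R) (hK : normalizer (R i : Set G) ≤ normalizer (K : Set G))
    (hfrat : ∀ g ∈ normalizer (R i : Set G), ∃ x ∈ K, x⁻¹ * g ∈ normalizer (V : Set G))
    (hKR : K ≤ normalizer (R i : Set G)) :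
    normalizer (R i : Set G) ≤ normalizer ((XX V R ⊔ K : Subgroup G) : Set G) := by
  intro g hg
  obtain ⟨x, hx, hxg⟩ := hfrat g hg
  have h1 : x⁻¹ * g ∈ normalizer (R i : Set G) := mul_mem (inv_mem (hKR hx)) hg
  have h3 := norm_sup (b.NV_le_NX hxg) (hK h1)
  have h4 := mul_mem (le_normalizer ((le_sup_right : K ≤ XX V R ⊔ K) hx)) h3
  rwa [mul_inv_cancel_left] at h4

end Cfsg.Agent.Omega.SQEnd
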