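import Cfsg.Agent.Omega.SQEnd.Cfg
import Cfsg.Agent.Omega.SQEnd.KD
import Cfsg.Agent.Omega.SQEnd.Tor
import Cfsg.Agent.Omega.SQEnd.AutK
import Cfsg.Agent.Omega.BTwo.XMod
import Cfsg.Agent.Omega.Hex.Loc

/-!
# From `KD` to `Cfg`, part 1: `K ∩ N(V)` and the Borel subgroup of `SL₂(k)`
-/

set_option autoImplicit false
set_option linter.unusedSectionVars false

universe u v w

namespace Cfsg.Agent.Omega.SQEnd

open Subgroup Cfsg.Agent.Omega.BTwo Cfsg.Agent.Lib.SL2Mat Cfsg.Agent.Omega.Hex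

variable {G : Type u} [Group G] {ι : Type v} {V : Subgroup G} {R : ι → Subgroup G} {i j : ι} {k : Type w} [Field k]
  {K : Subgroup G} {φ : K →* Matrix.SpecialLinearGroup (Fin 2) k}

theorem up_val (x : k) : (up x : Matrix.SpecialLinearGroup (Fin 2) k).1 = !![1, x; 0, 1] := rfl

theorem eq_up_iff {A : Matrix.SpecialLinearGroup (Fin 2) k} {x : k} :
    (A : Matrix (Fin 2) (Fin 2) k) = !![1, x; 0, 1] ↔ A = up x := by
  rw [← up_val]
  exact ⟨fun h => Subtype.ext h, fun h => congrArg Subtype.val h⟩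

/-- upper triangular matrices -/
theorem eq_up_of_ent {A : Matrix.SpecialLinearGroup (Fin 2) k} (h : ent A 1 0 = 0) (h0 : ent A 0 0 = 1) :
    A = up (ent A 0 1) := by
  have hd := det_eq A
  rw [h, h0, mul_zero, sub_zero, one_mul] at hd
  exact ext_ent h0 rfl h hd

theorem ent_pow {A : Matrix.SpecialLinearGroup (Fin 2) k} (h : ent A 1 0 = 0) (n : ℕ) :
    ent (A ^ n) 1 0 = 0 ∧ ent (A ^ n) 0 0 = ent A 0 0 ^ n := by
  induction n with
  | zero => simp
  | succ n ih =>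
    rw [pow_succ, ent_mul, ent_mul, ih.1, ih.2, h]
    constructor
    · ring
    · rw [pow_succ]; ring

/-- `A up(x) A⁻¹` for upper triangular `A` -/
theorem conj_up {A : Matrix.SpecialLinearGroup (Fin 2) k} (h : ent A 1 0 = 0) (x : k) :
    A * up x * A⁻¹ = up (ent A 0 0 ^ 2 * x) := by
  have hd := det_eq A
  rw [h, mul_zero, sub_zero] at hd
  rw [mul_inv_eq_iff_eq_mul]
  refine ext_ent ?_ ?_ ?_ ?_
  · rw [ent_mul, ent_mul, up_00, up_10, up_00, up_01, h]; ring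
  · rw [ent_mul, ent_mul, up_01, up_11, up_00, up_01]
    linear_combination (ent A 0 0 * x) * (1 - hd)
  · rw [ent_mul, ent_mul, up_00, up_10, up_10, up_11, h]; ring
  · rw [ent_mul, ent_mul, up_01, up_11, up_10, up_11, h]; ring

namespace KD

variable (kd : KD V R i j K φ)
include kd

theorem mem_iff (g : K) : (g : G) ∈ WW V (R i) ⊔ UU V R j ↔ ∃ x : k, φ g = up x := by
  rw [kd.uni]
  exact exists_congr fun x => eq_up_iff

theorem exists_up (g : K) (hg : (g : G) ∈ WW V (R i) ⊔ UU V R j) : ∃ x : k, φ g = up x := (kd.mem_iff g).1 hg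

theorem S_le : WW V (R i) ⊔ UU V R j ≤ K := sup_le kd.WK kd.UK

theorem K_le_N : K ≤ normalizer (R i : Set G) := by
  intro g hg
  rw [mem_normalizer_iff]
  intro a
  constructor
  · intro ha
    rw [kd.KR g hg a ha, mul_inv_cancel_right]
    exact ha
  · intro ha
    have h1 := kd.KR _ (inv_mem hg) _ ha
    have e : a = g * a * g⁻¹ := by
      calc a = g⁻¹ * (g * a * g⁻¹) * g := by group
        _ = (g * a * g⁻¹) * g⁻¹ * g := by rw [h1]
        _ = g * a * g⁻¹ := by group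
    rw [e]
    exact ha

/-- preimage of `up x` in `U j` -/
theorem exists_U (hN : UU V R j ≤ normalizer (WW V (R i) : Set G)) (x : k) :
    ∃ a ∈ UU V R j, ∀ ha : a ∈ K, φ ⟨a, ha⟩ = up x := by
  obtain ⟨g, hg⟩ := kd.surj (up x)
  have h1 := (kd.mem_iff g).2 ⟨x, hg⟩
  obtain ⟨w, hw, a, ha, e⟩ := exists_mul hN le_rfl h1
  refine ⟨a, ha, fun haK => ?_⟩
  have h2 : φ ⟨w, kd.WK hw⟩ = 1 := (kd.ker _).2 hw
  have h3 : g = ⟨w, kd.WK hw⟩ * ⟨a, haK⟩ := Subtype.ext e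
  rw [h3, map_mul, h2, one_mul] at hg
  exact hg

/-- the field `k` is finite -/
theorem finite [Finite G] : Finite k := by
  have h1 : Finite (Matrix.SpecialLinearGroup (Fin 2) k) := Finite.of_surjective φ kd.surj
  exact Finite.of_injective (fun x : k => (up x : Matrix.SpecialLinearGroup (Fin 2) k)) fun x y h => up_inj h

/-- `k` has characteristic 2 -/
theorem charP (b : BTC V R) : CharP k 2 := by
  obtain ⟨a, ha, h⟩ := kd.exists_U ((UU_le_cen j).trans (b.cen_le_NW i)) 1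
  have haK := kd.UK ha
  have h1 := h haK
  have h2 : φ (⟨a, haK⟩ * ⟨a, haK⟩) = 1 := by
    rw [kd.ker]
    exact b.R_le_W j i (b.W_sq j (UU_le_WW j ha))
  rw [map_mul, h1, up_mul] at h2
  have h3 : (1 : k) + 1 = 0 := up_inj (h2.trans up_zero.symm)
  exact CharTwo.of_one_ne_zero_of_two_eq_zero one_ne_zero (by rw [← h3]; norm_num)

variable (b : BTC V R)
include b

/-- `W U j = W Y` -/
theorem S_eq : WW V (R i) ⊔ UU V R j = WW V (R i) ⊔ YY V R := by
  rw [b.Y_eq kd.ne]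
  apply le_antisymm
  · exact sup_le le_sup_left (le_sup_right.trans le_sup_right)
  · exact sup_le le_sup_left (sup_le ((UU_le_WW i).trans le_sup_left) le_sup_right)

theorem Y_le_K : YY V R ≤ K := by
  rw [b.Y_eq kd.ne]
  exact sup_le ((UU_le_WW i).trans kd.WK) kd.UK

/-- `N(R i) ∩ N(V)` normalises `W U j` -/
theorem S_normal {g : G} (hR : g ∈ normalizer (R i : Set G)) (hV : g ∈ normalizer (V : Set G)) :
    cj g (WW V (R i) ⊔ UU V R j) = WW V (R i) ⊔ UU V R j := by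
  rw [kd.S_eq b, cj_sup, cj_eq_self_iff.2 (normalizer_le_WW V (R i) hR), cj_eq_self_iff.2 (b.NV_le_NY hV)]

/-- `φ(K ∩ N(V))` is upper triangular -/
theorem ent_of_mem (g : K) (hg : cj (g : G) (WW V (R i) ⊔ UU V R j) = WW V (R i) ⊔ UU V R j) :
    ent (φ g) 1 0 = 0 := by
  obtain ⟨a, ha, h⟩ := kd.exists_U ((UU_le_cen j).trans (b.cen_le_NW i)) 1
  have haK := kd.UK ha
  have h1 := h haK
  have h2 : (g : G) * a * (g : G)⁻¹ ∈ WW V (R i) ⊔ UU V R j := by
    rw [← hg]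
    exact conj_mem_cj (le_sup_right (a := WW V (R i)) ha)
  obtain ⟨x, hx⟩ := kd.exists_up (g * ⟨a, haK⟩ * g⁻¹) h2
  rw [map_mul, map_mul, map_inv, h1, mul_inv_eq_iff_eq_mul] at hx
  have h3 := congrArg (fun z => ent z 0 0) hx
  simp only [ent_mul, up_00, up_01, up_10, mul_one, mul_zero, add_zero, one_mul] at h3
  have h4 : x * ent (φ g) 1 0 = 0 := by linear_combination -h3
  rcases mul_eq_zero.1 h4 with h5 | h5
  · exfalso
    rw [h5, up_zero, one_mul] at hx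
    have h6 : (up (1 : k) : Matrix.SpecialLinearGroup (Fin 2) k) = up 0 := by
      rw [up_zero]
      exact mul_left_cancel (hx.trans (mul_one _).symm)
    exact one_ne_zero (up_inj h6)
  · exact h5

/-- `(W U j) ∩ N(R j) ≤ Y` -/
theorem mem_Y {g : G} (hg : g ∈ WW V (R i) ⊔ UU V R j) (hR : g ∈ normalizer (R j : Set G)) : g ∈ YY V R := by
  obtain ⟨w, hw, a, ha, rfl⟩ := exists_mul ((UU_le_cen j).trans (b.cen_le_NW i)) le_rfl hg
  have haN : a ∈ normalizer (R j : Set G) := b.cen_le_N j (UU_le_cen j ha)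
  have hwN : w ∈ normalizer (R j : Set G) := by
    have := mul_mem hR (inv_mem haN)
    rwa [mul_inv_cancel_right] at this
  have h1 := b.mem_cen (Ne.symm kd.ne) hw (cj_eq_self_iff.2 hwN)
  exact mul_mem (UU_le_YY i h1) (UU_le_YY j ha)

/-- `W ∩ N(R j) ≤ Y` -/
theorem W_inf_N {g : G} (hg : g ∈ WW V (R i)) (hR : g ∈ normalizer (R j : Set G)) : g ∈ YY V R :=
  kd.mem_Y b (le_sup_left (b := UU V R j) hg) hR

variable [Finite G]
  (NAe : ∀ g ∈ normalizer (R i : Set G), cj g (WW V (R i) ⊔ UU V R j) = WW V (R i) ⊔ UU V R j → cj g V = V)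
include NAe

/-- `K ∩ N(V)` is the preimage of the Borel subgroup -/
theorem mem_NV_iff (g : K) : (g : G) ∈ normalizer (V : Set G) ↔ ent (φ g) 1 0 = 0 := by
  constructor
  · exact fun h => kd.ent_of_mem b g (kd.S_normal b (kd.K_le_N g.2) h)
  · intro h
    rw [← cj_eq_self_iff]
    refine NAe _ (kd.K_le_N g.2) (cj_eq_self_iff.2 (mem_normalizer_of_conj fun x hx => ?_))
    have hxK := kd.S_le hx
    obtain ⟨y, hy⟩ := kd.exists_up ⟨x, hxK⟩ hx
    have h1 : φ (g * ⟨x, hxK⟩ * g⁻¹) = up (ent (φ g) 0 0 ^ 2 * y) := by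
      rw [map_mul, map_mul, map_inv, hy, conj_up h]
    exact (kd.mem_iff (g * ⟨x, hxK⟩ * g⁻¹)).2 ⟨_, h1⟩

/-- **Frattini**: `N(R i) = K (N(R i) ∩ N(V))` -/
theorem frat {h : G} (hh : h ∈ normalizer (R i : Set G)) : ∃ g ∈ K, g⁻¹ * h ∈ normalizer (V : Set G) := by
  have := kd.finite
  have := kd.charP b
  have : Fact (Nat.Prime 2) := ⟨Nat.prime_two⟩
  have hhK := kd.NK hh
  obtain ⟨α, hα⟩ := exists_aut kd.surj kd.ker hhK (normalizer_le_WW V (R i) hh)
  set P := Lib.AutSL2.sylU k 2 with hP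
  have hPm : ∀ x, x ∈ P ↔ ∃ b : k, up b = x := fun x => Iff.rfl
  obtain ⟨s, hs⟩ := MulAction.exists_smul_eq (Matrix.SpecialLinearGroup (Fin 2) k) P (α • P)
  obtain ⟨g, hg⟩ := kd.surj s
  refine ⟨g, g.2, ?_⟩
  rw [← cj_eq_self_iff]
  refine NAe _ (mul_mem (inv_mem (kd.K_le_N g.2)) hh) (cj_eq_self_iff.2 (mem_normalizer_of_conj fun u hu => ?_))
  have huK := kd.S_le hu
  obtain ⟨x, hx⟩ := kd.exists_up ⟨u, huK⟩ hu
  have h1 : α (up x) ∈ α • P := Lib.AutSL2.mem_aut_smul_sylow P α ((hPm _).2 ⟨x, rfl⟩)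
  rw [← hs, Lib.AutSL2.mem_smul_sylow, hPm] at h1
  obtain ⟨y, hy⟩ := h1
  have hu' : h * u * h⁻¹ ∈ K := conj_mem_of_normalizer hhK huK
  have h2 := hα ⟨u, huK⟩ ⟨h * u * h⁻¹, hu'⟩ rfl
  have h3 : φ (g⁻¹ * ⟨h * u * h⁻¹, hu'⟩ * g) = up y := by
    rw [map_mul, map_mul, map_inv, hg, ← h2, hx, ← hy]
  have h4 := (kd.mem_iff (g⁻¹ * ⟨h * u * h⁻¹, hu'⟩ * g)).2 ⟨y, h3⟩
  have e : ((g : G)⁻¹ * h) * u * ((g : G)⁻¹ * h)⁻¹ = (g : G)⁻¹ * (h * u * h⁻¹) * g := by group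
  rw [e]
  exact h4

end KD

end Cfsg.Agent.Omega.SQEnd
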