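import Cfsg.Agent.Omega.SQEnd.KDOf
import Cfsg.Agent.Omega.Lie.Quot

/-!
# `KD` from a normal subgroup `K ≅ SL₂(k)` of `N(R i) / O₂(N(R i))` containing `A = im (U j)` with odd index
-/

set_option autoImplicit false

universe u v w

namespace Cfsg.Agent.Omega.SQEnd

open Subgroup Cfsg.Agent.Omega.BTwo Cfsg.Agent.Omega.Lie.Quot

variable {G : Type u} [Group G] [Finite G] {ι : Type v} {V : Subgroup G} {R : ι → Subgroup G} {i j : ι} {k : Type w}
  [Field k] [Finite k] [CharP k 2]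

/-- the preimage in `G` of a subgroup of `N(R)/O₂(N(R))` -/
def prei (R : Subgroup G) (K : Subgroup (HQ R)) : Subgroup G :=
  (K.comap (pr R)).map (normalizer (R : Set G)).subtype

omit [Finite G] in
theorem mem_prei {R : Subgroup G} {K : Subgroup (HQ R)} {g : G} :
    g ∈ prei R K ↔ ∃ hg : g ∈ normalizer (R : Set G), pr R ⟨g, hg⟩ ∈ K := by
  unfold prei
  rw [mem_map]
  constructor
  · rintro ⟨x, hx, rfl⟩
    exact ⟨x.2, hx⟩
  · rintro ⟨hg, h⟩
    exact ⟨⟨g, hg⟩, h, rfl⟩

omit [Finite G] in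
theorem relIndex_prei {R : Subgroup G} (A K : Subgroup (HQ R)) :
    (prei R A).relIndex (prei R K) = A.relIndex K := by
  unfold prei
  rw [relIndex_map_map_of_injective _ _ (subtype_injective _), relIndex_comap,
    map_comap_eq_self_of_surjective (pr_surjective R)]

/-- the projection of the preimage -/
noncomputable def preiHom {R : Subgroup G} (K : Subgroup (HQ R)) : prei R K →* K :=
  ((pr R).subgroupComap K).comp
    ((K.comap (pr R)).equivMapOfInjective _ (subtype_injective (normalizer (R : Set G)))).symm.toMonoidHom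

omit [Finite G] in
theorem preiHom_apply {R : Subgroup G} {K : Subgroup (HQ R)} (g : prei R K)
    (hg : (g : G) ∈ normalizer (R : Set G)) : ((preiHom K g : K) : HQ R) = pr R ⟨g, hg⟩ := by
  have h1 : (((K.comap (pr R)).equivMapOfInjective _ (subtype_injective (normalizer (R : Set G)))).symm g).1 =
      (⟨g, hg⟩ : ↥(normalizer (R : Set G))) := by
    obtain ⟨x, rfl⟩ := ((K.comap (pr R)).equivMapOfInjective _
      (subtype_injective (normalizer (R : Set G)))).surjective g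
    rw [MulEquiv.symm_apply_apply]
    rfl
  exact congrArg (pr R) h1

omit [Finite G] in
theorem preiHom_surjective {R : Subgroup G} (K : Subgroup (HQ R)) : Function.Surjective (preiHom K) :=
  ((pr R).subgroupComap_surjective_of_surjective K (pr_surjective R)).comp (MulEquiv.surjective _)

/-- **`KD`** from a normal subgroup `K` of `H = N(R i)/O₂(N(R i))` with `A ≤ K ≤ H⁰`, `|K : A|` odd, `K ≅ SL₂(k)` -/
theorem exists_kd_of_normal (b : BTC V R) (hij : i ≠ j) (hQ : QQ (R i) = WW V (R i)) {K : Subgroup (HQ (R i))}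
    (hKn : K.Normal) (hK0 : K ≤ H0 R i) (hAK : AA V R i j ≤ K) (hodd : Odd ((AA V R i j).relIndex K))
    (e : K ≃* Matrix.SpecialLinearGroup (Fin 2) k) :
    ∃ (𝒦 : Subgroup G) (φ : 𝒦 →* Matrix.SpecialLinearGroup (Fin 2) k), KD V R i j 𝒦 φ := by
  have hWN : WW V (R i) ≤ normalizer (R i : Set G) := b.toBT.W_le_N i
  have hUN : UU V R j ≤ normalizer (R i : Set G) := U_le_N b.toBT i j
  have hAA : prei (R i) (AA V R i j) = WW V (R i) ⊔ UU V R j := by
    apply le_antisymm
    · intro g hg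
      obtain ⟨hgN, h1⟩ := mem_prei.1 hg
      obtain ⟨u, hu, h2⟩ := (mem_AA b.toBT).1 h1
      have h3 : u⁻¹ * g ∈ WW V (R i) := by
        rw [← hQ]
        exact (pr_eq_pr _ hgN).1 h2
      have e' : g = u * (u⁻¹ * g) := by group
      rw [e']
      exact mul_mem (mem_sup_right hu) (mem_sup_left h3)
    · refine sup_le (fun w hw => mem_prei.2 ⟨hWN hw, ?_⟩) fun u hu => mem_prei.2 ⟨hUN hu, ?_⟩
      · rw [(pr_eq_one (hWN hw)).2 (by rw [hQ]; exact hw)]
        exact one_mem _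
      · exact (mem_AA b.toBT).2 ⟨u, hu, rfl⟩
  refine ⟨prei (R i) K, exists_kd b hij (ψ := e.toMonoidHom.comp (preiHom K))
    (e.surjective.comp (preiHom_surjective K)) ?_ ?_ ?_ ?_ ?_ ?_⟩
  · intro g
    obtain ⟨hgN, -⟩ := mem_prei.1 g.2
    have h1 : (e.toMonoidHom.comp (preiHom K)) g = 1 ↔ preiHom K g = 1 := by
      change e (preiHom K g) = 1 ↔ _
      exact e.map_eq_one_iff
    rw [h1, ← OneMemClass.coe_eq_one, preiHom_apply g hgN, pr_eq_one, hQ]
  · intro w hw
    refine mem_prei.2 ⟨hWN hw, ?_⟩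
    rw [(pr_eq_one (hWN hw)).2 (by rw [hQ]; exact hw)]
    exact one_mem _
  · intro u hu
    exact mem_prei.2 ⟨hUN hu, hAK ((mem_AA b.toBT).2 ⟨u, hu, rfl⟩)⟩
  · intro g hg
    obtain ⟨hgN, h1⟩ := mem_prei.1 hg
    exact (pr_mem_im_iff (Q_le_C b.toBT i) hgN).1 (hK0 h1)
  · intro n hn
    rw [mem_normalizer_iff]
    have key : ∀ n ∈ normalizer (R i : Set G), ∀ g ∈ prei (R i) K, n * g * n⁻¹ ∈ prei (R i) K := by
      intro n hn g hg
      obtain ⟨hgN, h1⟩ := mem_prei.1 hg
      refine mem_prei.2 ⟨mul_mem (mul_mem hn hgN) (inv_mem hn), ?_⟩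
      exact hKn.conj_mem _ h1 (pr (R i) ⟨n, hn⟩)
    refine fun g => ⟨key n hn g, fun hg => ?_⟩
    have h1 := key n⁻¹ (inv_mem hn) _ hg
    have e' : n⁻¹ * (n * g * n⁻¹) * n⁻¹⁻¹ = g := by group
    rwa [e'] at h1
  · rw [← hAA, relIndex_prei]
    exact hodd

end Cfsg.Agent.Omega.SQEnd
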