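import Cfsg.Agent.Omega.SQK.All
import Cfsg.Agent.Omega.SQEnd.BAct
import Cfsg.Prelude.Def_LieTypeChar

/-!
# SQT, `b = 2`, `KD`: the list of the simple groups of Lie type of characteristic 2 with `m_p ≤ 2` for all odd `p`
(helper912)
-/

set_option autoImplicit false

namespace Cfsg.Agent.Omega.SQEnd

open Cfsg Cfsg.Agent.Omega.SQK Cfsg.Agent.Omega.SQK.Rank

/-- `L₂(F)`, `|F| = 2^n ≥ 4` -/
def YTwo (Y : Type*) [Group Y] : Prop :=
  ∃ (F : Type) (_ : Field F) (_ : Fintype F) (n : ℕ), 2 ≤ n ∧ Fintype.card F = 2 ^ n ∧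
    Nonempty (Y ≃* Matrix.ProjectiveSpecialLinearGroup (Fin 2) F)

/-- `L₃(F)`, `|F| = 2^n ≥ 4` -/
def YThree (Y : Type*) [Group Y] : Prop :=
  ∃ (F : Type) (_ : Field F) (_ : Fintype F) (n : ℕ), 2 ≤ n ∧ Fintype.card F = 2 ^ n ∧
    Nonempty (Y ≃* Matrix.ProjectiveSpecialLinearGroup (Fin 3) F)

/-- `Sp₄(F)`, `|F| = 2^n ≥ 4` -/
def YFour (Y : Type*) [Group Y] : Prop :=
  ∃ (F : Type) (_ : Field F) (_ : Fintype F) (n : ℕ), 2 ≤ n ∧ Fintype.card F = 2 ^ n ∧ Nonempty (Y ≃* PSp 2 F)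

/-- `L₃(2)`, `L₄(2)`, `L₅(2)` -/
def YSL (Y : Type*) [Group Y] : Prop :=
  ∃ (F : Type) (_ : Field F) (_ : Fintype F) (n : ℕ), 3 ≤ n ∧ Fintype.card F = 2 ∧
    Nonempty (Y ≃* Matrix.ProjectiveSpecialLinearGroup (Fin n) F)

/-- `U₃(q)`, `q = 2^n ≥ 4` -/
def YU (Y : Type*) [Group Y] : Prop :=
  ∃ (F : Type) (_ : Field F) (_ : Fintype F) (q n : ℕ), 2 ≤ n ∧ q = 2 ^ n ∧ Fintype.card F = q ^ 2 ∧
    Nonempty (Y ≃* PSU 3 F q)

/-- `G₂(F)`, `|F| = 2^n ≥ 4` -/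
def YG (Y : Type*) [Group Y] : Prop :=
  ∃ (F : Type) (_ : Field F) (_ : Fintype F) (n : ℕ), 2 ≤ n ∧ Fintype.card F = 2 ^ n ∧
    Nonempty (Y ≃* ↥(Lie.chevG2.group F))

/-- `³D₄(q)`, `q = 2^n` -/
def YD (Y : Type*) [Group Y] : Prop :=
  ∃ (K : Type) (_ : Field K) (_ : Fintype K) (n : ℕ), 1 ≤ n ∧ Fintype.card K = (2 ^ n) ^ 3 ∧
    Nonempty (Y ≃* ↥(Lie.twistedD4 K (2 ^ n)))

universe u

/-- **The list.** -/
theorem list_two {X : Type u} [Group X] (hK : IsLieTypeChar 2 X) (hp : ∀ p, p.Prime → p ≠ 2 → PRankLE p 2 X) :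
    YTwo X ∨ YThree X ∨ YFour X ∨ YSL X ∨ YU X ∨ YG X ∨ YD X ∨ Lie.IsoSuzuki X ∨ Lie.Iso2F4 X := by
  have R := SQK.All.rows.{0}
  have key : ∀ {P : Prop} {Y : Type} [Group Y] (p : ℕ), p.Prime → p ≠ 2 → Nonempty (X ≃* Y) →
      ¬ PRankLE p 2 Y → P := by
    intro P Y _ p h1 h2 ⟨e⟩ h3
    exact absurd (hp p h1 h2) (not_of_mulEquiv e h3)
  have h2 : ∀ (F : Type) [Field F] [Fintype F] [CharP F 2], ∃ a, 1 ≤ a ∧ Fintype.card F = 2 ^ a := by
    intro F _ _ _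
    obtain ⟨a, -, ha⟩ := FiniteField.card F 2
    exact ⟨a, a.pos, ha⟩
  rcases hK with h | h | h | h | h | h | h | h | ⟨-, h⟩ | ⟨-, h⟩ | ⟨h, -⟩
  · obtain ⟨F, _, _, _, n, hn, h4, he⟩ := h
    obtain ⟨a, ha, hF⟩ := h2 F
    rcases Nat.lt_or_ge a 2 with ha2 | ha2
    · have ha1 : a = 1 := by omega
      subst ha1
      rcases (show n = 2 ∨ 3 ≤ n by omega) with rfl | hn3
      · have := h4 rfl
        rw [hF] at this
        omega
      · exact Or.inr (Or.inr (Or.inr (Or.inl ⟨F, _, _, n, hn3, by rw [hF]; norm_num, he⟩)))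
    · rcases (show n = 2 ∨ n = 3 ∨ 4 ≤ n by omega) with rfl | rfl | hn4
      · exact Or.inl ⟨F, _, _, a, ha2, hF, he⟩
      · exact Or.inr (Or.inl ⟨F, _, _, a, ha2, hF, he⟩)
      · obtain ⟨p, h1, h2', h3⟩ := R.pslTwo F a n hF hn4 (Or.inl ha2)
        exact key p h1 h2' he h3
  · obtain ⟨F, _, _, _, m, hm, h3, he⟩ := h
    obtain ⟨a, ha, hF⟩ := h2 F
    rcases (show m = 2 ∨ 3 ≤ m by omega) with rfl | hm3
    · have h3' := h3 rfl
      have ha2 : 2 ≤ a := by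
        by_contra hcon
        have : a = 1 := by omega
        subst this
        omega
      exact Or.inr (Or.inr (Or.inl ⟨F, _, _, a, ha2, hF, he⟩))
    · exact key 3 Nat.prime_three (by norm_num) he (R.pspTwo F a m hF hm3)
  · obtain ⟨F, _, _, _, n, q, hq, hn, hn3, he⟩ := h
    obtain ⟨b, hb, hF⟩ := h2 F
    obtain ⟨a, rfl⟩ := Frame.eq_pow_of_sq Nat.prime_two two_ne_zero (hF.symm.trans hq)
    rcases (show n = 3 ∨ 4 ≤ n by omega) with rfl | hn4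
    · have ha2 : 2 ≤ a := by
        by_contra hcon
        rcases (show a = 0 ∨ a = 1 by omega) with rfl | rfl
        · rw [pow_zero, one_pow] at hq
          have := Fintype.one_lt_card (α := F)
          omega
        · exact hn3 ⟨rfl, rfl⟩
      exact Or.inr (Or.inr (Or.inr (Or.inr (Or.inl ⟨F, _, _, 2 ^ a, a, ha2, rfl, hq, he⟩))))
    · obtain ⟨p, h1, h2', h3⟩ := R.psuTwo F _ a n rfl hq hn4
      exact key p h1 h2' he h3
  · obtain ⟨F, _, _, _, m, hm, hodd, he⟩ := h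
    obtain ⟨a, ha, hF⟩ := h2 F
    rw [hF] at hodd
    exact absurd hodd (Nat.not_odd_iff_even.2 (Nat.even_pow.2 ⟨even_two, by omega⟩))
  · obtain ⟨F, _, _, _, m, hm, he⟩ := h
    obtain ⟨a, ha, hF⟩ := h2 F
    exact key 3 Nat.prime_three (by norm_num) he (R.plusTwo F a m hF hm)
  · obtain ⟨F, _, _, _, m, b, c, hm, hani, he⟩ := h
    obtain ⟨a, ha, hF⟩ := h2 F
    exact key 3 Nat.prime_three (by norm_num) he (R.minusTwo F a m b c hF hm hani)
  · obtain ⟨F, _, _, _, h⟩ := h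
    obtain ⟨a, ha, hF⟩ := h2 F
    rcases h with ⟨h3, he⟩ | he | he | he | he
    · have ha2 : 2 ≤ a := by
        by_contra hcon
        have : a = 1 := by omega
        subst this
        omega
      exact Or.inr (Or.inr (Or.inr (Or.inr (Or.inr (Or.inl ⟨F, _, _, a, ha2, hF, he⟩)))))
    · exact key 3 Nat.prime_three (by norm_num) he (R.chevTwo _ (by simp) F a hF)
    · exact key 3 Nat.prime_three (by norm_num) he (R.chevTwo _ (by simp) F a hF)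
    · exact key 3 Nat.prime_three (by norm_num) he (R.chevTwo _ (by simp) F a hF)
    · exact key 3 Nat.prime_three (by norm_num) he (R.chevTwo _ (by simp) F a hF)
  · obtain ⟨K, _, _, _, q, hq, h⟩ := h
    obtain ⟨a, ha, hF⟩ := h2 K
    rcases h with ⟨hc, he⟩ | ⟨hc, he⟩
    · obtain ⟨b, rfl⟩ := Frame.eq_pow_of_sq Nat.prime_two two_ne_zero (hF.symm.trans hc)
      exact key 3 Nat.prime_three (by norm_num) he (R.e6tTwo K _ b rfl hc)
    · obtain ⟨b, rfl⟩ := Frame.eq_pow_of_sq Nat.prime_two three_ne_zero (hF.symm.trans hc)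
      have hb : 1 ≤ b := by
        by_contra hcon
        have : b = 0 := by omega
        subst this
        exact hq.ne_one (pow_zero 2)
      exact Or.inr (Or.inr (Or.inr (Or.inr (Or.inr (Or.inr (Or.inl ⟨K, _, _, b, hb, hc, he⟩))))))
  · exact Or.inr (Or.inr (Or.inr (Or.inr (Or.inr (Or.inr (Or.inr (Or.inl h)))))))
  · exact Or.inr (Or.inr (Or.inr (Or.inr (Or.inr (Or.inr (Or.inr (Or.inr h)))))))
  · exact absurd h (by norm_num)

end Cfsg.Agent.Omega.SQEnd
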