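import Cfsg.Agent.Omega.SQEnd.RowDeadG
import Cfsg.Agent.Omega.SQEnd.KQTab

/-!
# The rows `L_n(2)`, `G₂(q)`, `³D₄(q)` of `KQRows` (helper78)
-/

set_option autoImplicit false

namespace Cfsg.Agent.Omega.SQEnd

open Cfsg Cfsg.Agent.Omega.Lie.End

universe u

theorem charP_two {F : Type*} [Field F] [Fintype F] {n : ℕ} (hF : Fintype.card F = 2 ^ n) : CharP F 2 := by
  obtain ⟨p, hp⟩ := CharP.exists F
  obtain ⟨k, hpp, hk⟩ := FiniteField.card F p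
  have h2 : p ∣ 2 ^ n := by
    rw [← hF, hk]
    exact dvd_pow_self p k.ne_zero
  obtain rfl := (Nat.prime_dvd_prime_iff_eq hpp Nat.prime_two).1 (hpp.dvd_of_dvd_pow h2)
  exact hp

/-- **`L_n(2)`, `n ≥ 3`** -/
theorem deadB_SL (Y : Type u) [Group Y] (h : YSL Y) : DeadB Y := by
  obtain ⟨F, _, _, n, hn, hF, ⟨e⟩⟩ := h
  have : CharP F 2 := charP_two (n := 1) (by rw [hF]; rfl)
  obtain ⟨m, rfl⟩ : ∃ m, n = m + 1 := ⟨n - 1, by omega⟩
  exact Dead.deadB_of_dRow e (Dead.dRow_SL (by rw [Nat.card_eq_fintype_card, hF]) (by omega))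

/-- **`G₂(q)`** -/
theorem deadB_G (Y : Type u) [Group Y] (h : YG Y) : DeadB Y := by
  obtain ⟨F, _, _, n, hn, hF, ⟨e⟩⟩ := h
  have : CharP F 2 := charP_two hF
  exact Dead.deadB_of_dRow e (Dead.dRow_G2 F)

/-- **`³D₄(q)`** -/
theorem deadB_D (Y : Type u) [Group Y] (h : YD Y) : DeadB Y := by
  obtain ⟨F, _, _, n, hn, hF, ⟨e⟩⟩ := h
  have : CharP F 2 := charP_two (n := n * 3) (by rw [hF, pow_mul])
  exact Dead.deadB_of_dRow e (Dead.dRow_D4 ((isPrimePow_def _).2 ⟨2, n, Nat.prime_two.prime, by omega, rfl⟩) hF)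

end Cfsg.Agent.Omega.SQEnd
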