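import Cfsg.Agent.Omega.SQEnd.BAct
import Cfsg.Agent.StdRank2.FrameL3P

/-!
# SQT, `b = 2`, `KD`: `RowLThree`
-/

set_option autoImplicit false

namespace Cfsg.Agent.Omega.SQEnd.LThree

open Matrix
open Matrix.SpecialLinearGroup (transvection)
open Cfsg.Agent.ClassicalGeometry.AutPSL.Root
open Cfsg.Agent.ClassicalGeometry.AutPSL.SylowU
open Cfsg.Agent.StdRank2 Cfsg.Agent.StdRank2.FrameLift
open Cfsg.Agent.StdRank2.ModelL3 Cfsg.Agent.StdRank2.FrameL3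

/-! ### The stabiliser of a point normalises its row -/

section frame

variable {G : Type*} [Group G] {A : Subgroup G} {F : Type*} [Field F] [CharP F 2] (R : FrameL3 A F)
  (hZ : Odd (Nat.card (Subgroup.center ↥A)))
include hZ

theorem row_of_fix {g : ↥A} {M : Matrix.SpecialLinearGroup (Fin 3) F} (hg : R.f g = pr M)
    (hM : (M : Matrix (Fin 3) (Fin 3) F) *ᵥ Pi.single 0 1 = Pi.single 0 1) {b : G} (hb : b ∈ R.Row 0) :
    (g : G) * b * (g : G)⁻¹ ∈ R.Row 0 := by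
  obtain ⟨β, δ, rfl⟩ := (R.mem_Row hZ h01 h02 h12).1 hb
  obtain ⟨h1, e1⟩ := tv_row h01 h02 β δ
  obtain ⟨h2, e2⟩ := sl_conj_tr M _ _ h1
  set ψ := (β • Pi.single 1 1 + δ • Pi.single 2 1 : Fin 3 → F) ᵥ*
    ((M⁻¹ : Matrix.SpecialLinearGroup (Fin 3) F) : Matrix (Fin 3) (Fin 3) F) with hψ
  have h0 : ψ 0 = 0 := by
    have h3 := h2
    rw [hM, dotProduct_single, mul_one] at h3
    exact h3
  obtain ⟨h4, e4⟩ := tv_row h01 h02 (ψ 1) (ψ 2)
  have e5 : (ψ 1 • Pi.single 1 1 + ψ 2 • Pi.single 2 1 : Fin 3 → F) = ψ := by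
    funext l
    fin_cases l
    · simpa using h0.symm
    · simp
    · simp
  have e6 : M * (transvection h01 β * transvection h02 δ) * M⁻¹ =
      transvection h01 (ψ 1) * transvection h02 (ψ 2) := by
    rw [e1, e2, e4, tr_eq_iff, hM, e5]
  have hc1 : R.X h01 β * R.X h02 δ = R.X h02 δ * R.X h01 β :=
    Subtype.ext (R.comm hZ h01 h02 (by decide) (by decide) β δ)
  have hc2 : R.X h01 (ψ 1) * R.X h02 (ψ 2) = R.X h02 (ψ 2) * R.X h01 (ψ 1) :=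
    Subtype.ext (R.comm hZ h01 h02 (by decide) (by decide) (ψ 1) (ψ 2))
  have h7 := (R.cover hZ).conj_eq' (g := g) ((R.is2_X h01 β).mul (R.is2_X h02 δ) hc1)
    ((R.is2_X h01 (ψ 1)).mul (R.is2_X h02 (ψ 2)) hc2) (by
      rw [map_mul, map_mul, R.f_X, R.f_X, R.f_X, R.f_X, hg, ← map_inv, ← map_mul, ← map_mul, ← map_mul,
        ← map_mul, e6])
  refine (R.mem_Row hZ h01 h02 h12).2 ⟨ψ 1, ψ 2, ?_⟩
  exact congrArg Subtype.val h7

theorem exists_row {k : G} (hk : k ∈ A) : ∃ a ∈ R.Row 0, a ≠ 1 ∧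
    ∀ b ∈ R.Row 0, k⁻¹ * (a * (k * b * k⁻¹) * a⁻¹) * k ∈ R.Row 0 := by
  obtain ⟨M, hM⟩ := pr_surjective (R.f ⟨k, hk⟩)
  -- the linear form
  obtain ⟨p, q, hpq, h0⟩ : ∃ p q : F, (p ≠ 0 ∨ q ≠ 0) ∧
      p * (M : Matrix (Fin 3) (Fin 3) F) 1 0 + q * (M : Matrix (Fin 3) (Fin 3) F) 2 0 = 0 := by
    by_cases h : (M : Matrix (Fin 3) (Fin 3) F) 1 0 = 0 ∧ (M : Matrix (Fin 3) (Fin 3) F) 2 0 = 0
    · exact ⟨1, 0, Or.inl one_ne_zero, by rw [h.1, h.2]; ring⟩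
    · refine ⟨(M : Matrix (Fin 3) (Fin 3) F) 2 0, (M : Matrix (Fin 3) (Fin 3) F) 1 0, ?_, ?_⟩
      · by_contra hcon
        push Not at hcon
        exact h ⟨hcon.2, hcon.1⟩
      · rw [mul_comm]; exact CharTwo.add_self_eq_zero _
  refine ⟨R.x 0 1 p * R.x 0 2 q, mul_mem (R.x_mem_Row h01 p) (R.x_mem_Row h02 q), ?_, ?_⟩
  · intro h
    have h1 : R.x 0 1 p * R.x 0 2 q = R.x 0 1 0 * R.x 0 2 0 := by
      rw [h, R.x_zero hZ h01, R.x_zero hZ h02, one_mul]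
    have h2 := (R.row_inj hZ h01 h02 h12).1 h1
    rcases hpq with h3 | h3
    · exact h3 h2.1
    · exact h3 h2.2
  · intro b hb
    obtain ⟨h1, e1⟩ := tv_row h01 h02 p q
    obtain ⟨h2, e2⟩ := sl_conj_tr M⁻¹ _ _ h1
    have hg : R.f ((⟨k, hk⟩ : ↥A)⁻¹ * (R.X h01 p * R.X h02 q) * (⟨k, hk⟩ : ↥A)) =
        pr (M⁻¹ * (transvection h01 p * transvection h02 q) * M) := by
      rw [map_mul, map_mul, map_mul, map_inv, R.f_X, R.f_X, ← hM, map_mul, map_mul, map_mul, map_inv]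
    have hfix : ((M⁻¹ * (transvection h01 p * transvection h02 q) * M :
        Matrix.SpecialLinearGroup (Fin 3) F) : Matrix (Fin 3) (Fin 3) F) *ᵥ Pi.single 0 1 = Pi.single 0 1 := by
      have e3 : M⁻¹ * (transvection h01 p * transvection h02 q) * M =
          M⁻¹ * tr (Pi.single 0 1) (p • Pi.single 1 1 + q • Pi.single 2 1) h1 * M⁻¹⁻¹ := by
        rw [e1, inv_inv]
      rw [e3, e2, tr_mulVec]
      have h3 : ((p • Pi.single 1 1 + q • Pi.single 2 1 : Fin 3 → F) ᵥ*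
          (((M⁻¹)⁻¹ : Matrix.SpecialLinearGroup (Fin 3) F) : Matrix (Fin 3) (Fin 3) F)) ⬝ᵥ Pi.single 0 1 = 0 := by
        rw [inv_inv, dotProduct_single, mul_one]
        rw [add_vecMul, smul_vecMul, smul_vecMul]
        simp only [Pi.add_apply, Pi.smul_apply, smul_eq_mul, single_one_vecMul]
        exact h0
      rw [h3, zero_smul, add_zero]
    have h5 := row_of_fix R hZ hg hfix hb
    have e : k⁻¹ * (R.x 0 1 p * R.x 0 2 q * (k * b * k⁻¹) * (R.x 0 1 p * R.x 0 2 q)⁻¹) * k =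
        (((⟨k, hk⟩ : ↥A)⁻¹ * (R.X h01 p * R.X h02 q) * (⟨k, hk⟩ : ↥A) : ↥A) : G) * b *
          (((⟨k, hk⟩ : ↥A)⁻¹ * (R.X h01 p * R.X h02 q) * (⟨k, hk⟩ : ↥A) : ↥A) : G)⁻¹ := by
      push_cast
      simp only [coe_X]
      group
    rw [e]
    exact h5

/-! ### The stabiliser of a line normalises its column -/

theorem col_of_fix {g : ↥A} {M : Matrix.SpecialLinearGroup (Fin 3) F} (hg : R.f g = pr M)
    (hM : Pi.single 2 1 ᵥ* ((M⁻¹ : Matrix.SpecialLinearGroup (Fin 3) F) : Matrix (Fin 3) (Fin 3) F) =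
      Pi.single 2 1) {b : G} (hb : b ∈ R.Col 2) :
    (g : G) * b * (g : G)⁻¹ ∈ R.Col 2 := by
  obtain ⟨β, δ, rfl⟩ := (R.mem_Col hZ h01 h02 h12).1 hb
  obtain ⟨h1, e1⟩ := tv_col h02 h12 β δ
  obtain ⟨h2, e2⟩ := sl_conj_tr M _ _ h1
  set ψ := (M : Matrix (Fin 3) (Fin 3) F) *ᵥ (β • Pi.single 0 1 + δ • Pi.single 1 1 : Fin 3 → F) with hψ
  have h0 : ψ 2 = 0 := by
    have h3 := h2
    rw [hM, single_dotProduct, one_mul] at h3
    exact h3
  obtain ⟨h4, e4⟩ := tv_col h02 h12 (ψ 0) (ψ 1)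
  have e5 : (ψ 0 • Pi.single 0 1 + ψ 1 • Pi.single 1 1 : Fin 3 → F) = ψ := by
    funext l
    fin_cases l
    · simp
    · simp
    · simpa using h0.symm
  have e6 : M * (transvection h02 β * transvection h12 δ) * M⁻¹ =
      transvection h02 (ψ 0) * transvection h12 (ψ 1) := by
    rw [e1, e2, e4, tr_eq_iff, hM, e5]
  have hc1 : R.X h02 β * R.X h12 δ = R.X h12 δ * R.X h02 β :=
    Subtype.ext (R.comm hZ h02 h12 (by decide) (by decide) β δ)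
  have hc2 : R.X h02 (ψ 0) * R.X h12 (ψ 1) = R.X h12 (ψ 1) * R.X h02 (ψ 0) :=
    Subtype.ext (R.comm hZ h02 h12 (by decide) (by decide) (ψ 0) (ψ 1))
  have h7 := (R.cover hZ).conj_eq' (g := g) ((R.is2_X h02 β).mul (R.is2_X h12 δ) hc1)
    ((R.is2_X h02 (ψ 0)).mul (R.is2_X h12 (ψ 1)) hc2) (by
      rw [map_mul, map_mul, R.f_X, R.f_X, R.f_X, R.f_X, hg, ← map_inv, ← map_mul, ← map_mul, ← map_mul,
        ← map_mul, e6])
  refine (R.mem_Col hZ h01 h02 h12).2 ⟨ψ 0, ψ 1, ?_⟩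
  exact congrArg Subtype.val h7

theorem exists_col {k : G} (hk : k ∈ A) : ∃ a ∈ R.Col 2, a ≠ 1 ∧
    ∀ b ∈ R.Col 2, k⁻¹ * (a * (k * b * k⁻¹) * a⁻¹) * k ∈ R.Col 2 := by
  obtain ⟨M, hM⟩ := pr_surjective (R.f ⟨k, hk⟩)
  -- the vector
  obtain ⟨p, q, hpq, h0⟩ : ∃ p q : F, (p ≠ 0 ∨ q ≠ 0) ∧
      ((M⁻¹ : Matrix.SpecialLinearGroup (Fin 3) F) : Matrix (Fin 3) (Fin 3) F) 2 0 * p +
        ((M⁻¹ : Matrix.SpecialLinearGroup (Fin 3) F) : Matrix (Fin 3) (Fin 3) F) 2 1 * q = 0 := by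
    by_cases h : ((M⁻¹ : Matrix.SpecialLinearGroup (Fin 3) F) : Matrix (Fin 3) (Fin 3) F) 2 0 = 0 ∧
        ((M⁻¹ : Matrix.SpecialLinearGroup (Fin 3) F) : Matrix (Fin 3) (Fin 3) F) 2 1 = 0
    · exact ⟨1, 0, Or.inl one_ne_zero, by rw [h.1, h.2]; ring⟩
    · refine ⟨((M⁻¹ : Matrix.SpecialLinearGroup (Fin 3) F) : Matrix (Fin 3) (Fin 3) F) 2 1,
        ((M⁻¹ : Matrix.SpecialLinearGroup (Fin 3) F) : Matrix (Fin 3) (Fin 3) F) 2 0, ?_, ?_⟩
      · by_contra hcon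
        push Not at hcon
        exact h ⟨hcon.2, hcon.1⟩
      · rw [mul_comm]; exact CharTwo.add_self_eq_zero _
  refine ⟨R.x 0 2 p * R.x 1 2 q, mul_mem (R.x_mem_Col h02 p) (R.x_mem_Col h12 q), ?_, ?_⟩
  · intro h
    have h1 : R.x 0 2 p * R.x 1 2 q = R.x 0 2 0 * R.x 1 2 0 := by
      rw [h, R.x_zero hZ h02, R.x_zero hZ h12, one_mul]
    have h2 := (R.col_inj hZ h01 h02 h12).1 h1
    rcases hpq with h3 | h3
    · exact h3 h2.1
    · exact h3 h2.2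
  · intro b hb
    obtain ⟨h1, e1⟩ := tv_col h02 h12 p q
    obtain ⟨h2, e2⟩ := sl_conj_tr M⁻¹ _ _ h1
    have hg : R.f ((⟨k, hk⟩ : ↥A)⁻¹ * (R.X h02 p * R.X h12 q) * (⟨k, hk⟩ : ↥A)) =
        pr (M⁻¹ * (transvection h02 p * transvection h12 q) * M) := by
      rw [map_mul, map_mul, map_mul, map_inv, R.f_X, R.f_X, ← hM, map_mul, map_mul, map_mul, map_inv]
    set N := M⁻¹ * (transvection h02 p * transvection h12 q) * M with hN
    have hfix : Pi.single 2 1 ᵥ* (N : Matrix (Fin 3) (Fin 3) F) = Pi.single 2 1 := by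
      have e3 : N = M⁻¹ * tr (p • Pi.single 0 1 + q • Pi.single 1 1) (Pi.single 2 1) h1 * M⁻¹⁻¹ := by
        rw [hN, e1, inv_inv]
      rw [e3, e2, coe_tr, vecMul_add, vecMul_one, vecMul_vecMulVec]
      have h3 : (Pi.single 2 1 : Fin 3 → F) ⬝ᵥ
          (((M⁻¹ : Matrix.SpecialLinearGroup (Fin 3) F) : Matrix (Fin 3) (Fin 3) F) *ᵥ
            (p • Pi.single 0 1 + q • Pi.single 1 1 : Fin 3 → F)) = 0 := by
        rw [single_dotProduct, one_mul, mulVec_add, mulVec_smul, mulVec_smul]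
        simp only [Pi.add_apply, Pi.smul_apply, smul_eq_mul, mulVec_single_one, col_apply]
        rw [mul_comm p, mul_comm q]
        exact h0
      rw [h3, zero_smul, add_zero]
    have hfix' : Pi.single 2 1 ᵥ* ((N⁻¹ : Matrix.SpecialLinearGroup (Fin 3) F) : Matrix (Fin 3) (Fin 3) F) =
        Pi.single 2 1 := by
      have e' : (N : Matrix (Fin 3) (Fin 3) F) *
          ((N⁻¹ : Matrix.SpecialLinearGroup (Fin 3) F) : Matrix (Fin 3) (Fin 3) F) = 1 := by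
        rw [← Matrix.SpecialLinearGroup.coe_mul, mul_inv_cancel, Matrix.SpecialLinearGroup.coe_one]
      conv_lhs => rw [← hfix, vecMul_vecMul, e', vecMul_one]
    have h5 := col_of_fix R hZ hg hfix' hb
    have e : k⁻¹ * (R.x 0 2 p * R.x 1 2 q * (k * b * k⁻¹) * (R.x 0 2 p * R.x 1 2 q)⁻¹) * k =
        (((⟨k, hk⟩ : ↥A)⁻¹ * (R.X h02 p * R.X h12 q) * (⟨k, hk⟩ : ↥A) : ↥A) : G) * b *
          (((⟨k, hk⟩ : ↥A)⁻¹ * (R.X h02 p * R.X h12 q) * (⟨k, hk⟩ : ↥A) : ↥A) : G)⁻¹ := by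
      push_cast
      simp only [coe_X]
      group
    rw [e]
    exact h5

/-! ### Subgroups of a row or a column -/

theorem row_le {P : Subgroup G} (hU : ∀ u ∈ R.U, ∀ a ∈ P, u * a * u⁻¹ ∈ P)
    (hT : ∀ (y : G) (c : Fin 3 → F), R.Tor y c → ∀ a ∈ P, y * a * y⁻¹ ∈ P) {a c : F} (ha : a ≠ 0)
    (h : R.x 0 1 a * R.x 0 2 c ∈ P) : R.Row 0 ≤ P := by
  have h2 : ∀ d, R.x 0 2 d ∈ P := by
    intro d
    have e1 := R.conj' hZ h01 h12 h02 a (a⁻¹ * d)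
    rw [mul_inv_cancel_left₀ ha] at e1
    have e2 := R.comm hZ h12 h02 (by decide) (by decide) (a⁻¹ * d) c
    have h3 := mul_mem (hU _ (R.x_mem_U (i := 1) (j := 2) (by decide) (a⁻¹ * d)) _ h) (inv_mem h)
    have e3 : R.x 1 2 (a⁻¹ * d) * (R.x 0 1 a * R.x 0 2 c) * (R.x 1 2 (a⁻¹ * d))⁻¹ *
        (R.x 0 1 a * R.x 0 2 c)⁻¹ = R.x 0 2 d := by
      calc R.x 1 2 (a⁻¹ * d) * (R.x 0 1 a * R.x 0 2 c) * (R.x 1 2 (a⁻¹ * d))⁻¹ *
            (R.x 0 1 a * R.x 0 2 c)⁻¹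
          = (R.x 1 2 (a⁻¹ * d) * R.x 0 1 a * (R.x 1 2 (a⁻¹ * d))⁻¹) *
            ((R.x 1 2 (a⁻¹ * d) * R.x 0 2 c) * (R.x 1 2 (a⁻¹ * d))⁻¹) * (R.x 0 1 a * R.x 0 2 c)⁻¹ := by
            group
        _ = R.x 0 2 d := by rw [e1, e2]; group
    rwa [e3] at h3
  have h1 : R.x 0 1 a ∈ P := by
    have := mul_mem h (inv_mem (h2 c))
    rwa [mul_inv_cancel_right] at this
  have h4 : ∀ b, R.x 0 1 b ∈ P := by
    intro b
    by_cases hb : b = 0
    · rw [hb, R.x_zero hZ h01]; exact one_mem _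
    · obtain ⟨y, hy⟩ := R.exists_tor (c := ![b * a⁻¹, 1, (b * a⁻¹)⁻¹]) (by
        have : b * a⁻¹ ≠ 0 := mul_ne_zero hb (inv_ne_zero ha)
        change b * a⁻¹ * 1 * (b * a⁻¹)⁻¹ = 1
        rw [mul_one, mul_inv_cancel₀ this])
      have h5 := hT y _ hy _ h1
      rw [hy.conj hZ h01] at h5
      have e : (![b * a⁻¹, 1, (b * a⁻¹)⁻¹] : Fin 3 → F) 0 * a * ((![b * a⁻¹, 1, (b * a⁻¹)⁻¹] : Fin 3 → F) 1)⁻¹ =
          b := by simp [ha]
      rwa [e] at h5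
  intro g hg
  obtain ⟨β, δ, rfl⟩ := (R.mem_Row hZ h01 h02 h12).1 hg
  exact mul_mem (h4 β) (h2 δ)

theorem col_le {P : Subgroup G} (hU : ∀ u ∈ R.U, ∀ a ∈ P, u * a * u⁻¹ ∈ P)
    (hT : ∀ (y : G) (c : Fin 3 → F), R.Tor y c → ∀ a ∈ P, y * a * y⁻¹ ∈ P) {a c : F} (hc : c ≠ 0)
    (h : R.x 0 2 a * R.x 1 2 c ∈ P) : R.Col 2 ≤ P := by
  have h2 : ∀ d, R.x 0 2 d ∈ P := by
    intro d
    have e1 := R.conj hZ h01 h12 h02 (d * c⁻¹) c
    rw [inv_mul_cancel_right₀ hc] at e1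
    have e2 := R.comm hZ h01 h02 (by decide) (by decide) (d * c⁻¹) a
    have e4 := R.comm hZ h02 h12 (by decide) (by decide) a c
    have e5 := R.comm hZ h02 h12 (by decide) (by decide) d c
    have h3 := mul_mem (hU _ (R.x_mem_U (i := 0) (j := 1) (by decide) (d * c⁻¹)) _ h) (inv_mem h)
    have e3 : R.x 0 1 (d * c⁻¹) * (R.x 0 2 a * R.x 1 2 c) * (R.x 0 1 (d * c⁻¹))⁻¹ *
        (R.x 0 2 a * R.x 1 2 c)⁻¹ = R.x 0 2 d := by
      calc R.x 0 1 (d * c⁻¹) * (R.x 0 2 a * R.x 1 2 c) * (R.x 0 1 (d * c⁻¹))⁻¹ *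
            (R.x 0 2 a * R.x 1 2 c)⁻¹
          = ((R.x 0 1 (d * c⁻¹) * R.x 0 2 a) * (R.x 0 1 (d * c⁻¹))⁻¹) *
            (R.x 0 1 (d * c⁻¹) * R.x 1 2 c * (R.x 0 1 (d * c⁻¹))⁻¹) * (R.x 0 2 a * R.x 1 2 c)⁻¹ := by
            group
        _ = R.x 0 2 a * (R.x 0 2 d * R.x 1 2 c) * (R.x 0 2 a * R.x 1 2 c)⁻¹ := by
            rw [e1, e2]; group
        _ = R.x 0 2 a * R.x 0 2 d * (R.x 0 2 a)⁻¹ := by group
        _ = R.x 0 2 d := by
            rw [R.add hZ h02, add_comm, ← R.add hZ h02]; group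
    rwa [e3] at h3
  have h1 : R.x 1 2 c ∈ P := by
    have := mul_mem (inv_mem (h2 a)) h
    rwa [inv_mul_cancel_left] at this
  have h4 : ∀ b, R.x 1 2 b ∈ P := by
    intro b
    by_cases hb : b = 0
    · rw [hb, R.x_zero hZ h12]; exact one_mem _
    · obtain ⟨y, hy⟩ := R.exists_tor (c := ![(b * c⁻¹)⁻¹, b * c⁻¹, 1]) (by
        have : b * c⁻¹ ≠ 0 := mul_ne_zero hb (inv_ne_zero hc)
        change (b * c⁻¹)⁻¹ * (b * c⁻¹) * 1 = 1
        rw [mul_one, inv_mul_cancel₀ this])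
      have h5 := hT y _ hy _ h1
      rw [hy.conj hZ h12] at h5
      have e : (![(b * c⁻¹)⁻¹, b * c⁻¹, 1] : Fin 3 → F) 1 * c * ((![(b * c⁻¹)⁻¹, b * c⁻¹, 1] : Fin 3 → F) 2)⁻¹ =
          b := by simp [hc]
      rwa [e] at h5
  intro g hg
  obtain ⟨β, δ, rfl⟩ := (R.mem_Col hZ h01 h02 h12).1 hg
  exact mul_mem (h2 β) (h4 δ)

end frame

/-! ### The frame of an odd cover -/

section cover

variable {K : Type*} [Group K] {F : Type*} [Field F]

theorem map_center : (Subgroup.center ↥(⊤ : Subgroup K)).map (Subgroup.topEquiv : ↥(⊤ : Subgroup K) ≃* K).toMonoidHom =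
    Subgroup.center K := by
  ext x
  constructor
  · rintro ⟨y, hy, rfl⟩
    rw [Subgroup.mem_center_iff]
    intro g
    exact congrArg Subtype.val (Subgroup.mem_center_iff.1 hy ⟨g, Subgroup.mem_top g⟩)
  · intro hx
    refine ⟨⟨x, Subgroup.mem_top x⟩, ?_, rfl⟩
    rw [SetLike.mem_coe, Subgroup.mem_center_iff]
    intro g
    exact Subtype.ext (Subgroup.mem_center_iff.1 hx g.1)

theorem odd_center_top (h : Odd (Nat.card (Subgroup.center K))) :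
    Odd (Nat.card (Subgroup.center ↥(⊤ : Subgroup K))) := by
  rw [← map_center (K := K)] at h
  rwa [Nat.card_congr ((Subgroup.center ↥(⊤ : Subgroup K)).equivMapOfInjective
    (Subgroup.topEquiv : ↥(⊤ : Subgroup K) ≃* K).toMonoidHom
    (Subgroup.topEquiv : ↥(⊤ : Subgroup K) ≃* K).injective).toEquiv]

variable [Finite K] [Finite F] [CharP F 2]

/-- A frame with `U = S`. -/
theorem exists_frame_U (hZ : Odd (Nat.card (Subgroup.center K)))
    (e : K ⧸ Subgroup.center K ≃* Matrix.ProjectiveSpecialLinearGroup (Fin 3) F) (S : Sylow 2 K) :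
    ∃ R : FrameL3 (⊤ : Subgroup K) F, R.U = (S : Subgroup K) := by
  have : Fact (Nat.Prime 2) := ⟨Nat.prime_two⟩
  have hZ' := odd_center_top hZ
  let e0 : ↥(⊤ : Subgroup K) ⧸ Subgroup.center ↥(⊤ : Subgroup K) ≃* Matrix.ProjectiveSpecialLinearGroup (Fin 3) F :=
    (QuotientGroup.congr (Subgroup.center ↥(⊤ : Subgroup K)) (Subgroup.center K) Subgroup.topEquiv
      map_center).trans e
  obtain ⟨R, -⟩ := FrameL3.exists_frame hZ' e0
  -- `R.U` is a Sylow subgroup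
  have h2 : ¬ 2 ∣ R.U.index := by
    rw [← Subgroup.relIndex_top_right]
    exact R.not_two_dvd_relIndex hZ'
  let P : Sylow 2 K := (R.isPGroup_U hZ').toSylow h2
  have hP : (P : Subgroup K) = R.U := rfl
  obtain ⟨g, hg⟩ := MulAction.exists_smul_eq K P S
  set h := R.f ⟨g, Subgroup.mem_top g⟩ with hh
  obtain ⟨R', hR'⟩ := FrameL3.exists_frame hZ' (R.e.trans (MulAut.conj h⁻¹))
  refine ⟨R', ?_⟩
  have hf : ∀ x : K, R'.f ⟨x, Subgroup.mem_top x⟩ = R.f ⟨g⁻¹ * x * g, Subgroup.mem_top _⟩ := by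
    intro x
    have h3 : R'.f ⟨x, Subgroup.mem_top x⟩ = h⁻¹ * R.f ⟨x, Subgroup.mem_top x⟩ * h := by
      rw [FrameL3.f, hR']
      change h⁻¹ * R.f ⟨x, Subgroup.mem_top x⟩ * (h⁻¹)⁻¹ = _
      rw [inv_inv]
    rw [h3, hh, ← map_inv, ← map_mul, ← map_mul]
    rfl
  have hle : (S : Subgroup K) ≤ R'.U := by
    intro x hx
    have hx2 : Is2 x := Is2.of_mem S.isPGroup' hx
    have hx3 : g⁻¹ * x * g ∈ R.U := by
      rw [← hP]
      rw [← hg, Sylow.coe_subgroup_smul, Subgroup.mem_pointwise_smul_iff_inv_smul_mem, ← map_inv,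
        MulAut.smul_def, MulAut.conj_apply, inv_inv] at hx
      exact hx
    have h4 : (⟨x, Subgroup.mem_top x⟩ : ↥(⊤ : Subgroup K)) ∈ R'.U.subgroupOf ⊤ := by
      rw [R'.subgroupOf_U_eq hZ', (R'.cover hZ').mem_up]
      refine ⟨?_, ?_⟩
      · obtain ⟨n, hn⟩ := hx2
        exact ⟨n, Subtype.ext hn⟩
      · rw [hf]
        have h5 : (⟨g⁻¹ * x * g, Subgroup.mem_top _⟩ : ↥(⊤ : Subgroup K)) ∈ R.U.subgroupOf ⊤ := hx3
        rw [R.subgroupOf_U_eq hZ', (R.cover hZ').mem_up] at h5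
        exact h5.2
    exact h4
  exact S.is_maximal' (R'.isPGroup_U hZ') hle

end cover

end Cfsg.Agent.Omega.SQEnd.LThree

namespace Cfsg.Agent.Omega.SQEnd

open Subgroup Cfsg Cfsg.Agent.Omega.Lie.End Cfsg.Agent.StdRank2 Cfsg.Agent.StdRank2.FrameL3

universe u

theorem AT_le {K : Type*} [Group K] {S : Subgroup K} {T : Subgroup (MulAut K)} (h : TAct S T) : AT S T ≤ S := by
  rw [AT, closure_le]
  rintro _ ⟨t, ht, u, hu, rfl⟩
  exact mul_mem (inv_mem hu) (h.stab t ht u hu)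

/-- **`L₃(F)`** -/
theorem rowLThree : RowLThree.{u} := by
  intro K _ _ F _ _ n hn hF hK S T h
  have : Fact (Nat.Prime 2) := ⟨Nat.prime_two⟩
  have hch : CharP F 2 := by
    obtain ⟨p, hp⟩ := CharP.exists F
    obtain ⟨k, hpp, hk⟩ := FiniteField.card F p
    have h2 : p ∣ 2 ^ n := by
      rw [← hF, hk]
      exact dvd_pow_self p k.ne_zero
    obtain rfl := (Nat.prime_dvd_prime_iff_eq hpp Nat.prime_two).1 (hpp.dvd_of_dvd_pow h2)
    exact hp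
  obtain ⟨e⟩ := hK.iso
  have hZ' := LThree.odd_center_top hK.odd
  obtain ⟨R, hR⟩ := LThree.exists_frame_U hK.odd e S
  have hle : AT (S : Subgroup K) T ≤ R.U := by rw [hR]; exact AT_le h.toTAct
  have hSN : (S : Subgroup K) ≤ normalizer ((S : Subgroup K) : Set K) := le_normalizer
  have hU : ∀ u ∈ R.U, ∀ a ∈ AT (S : Subgroup K) T, u * a * u⁻¹ ∈ AT (S : Subgroup K) T := by
    intro u hu
    rw [hR] at hu
    exact h.B_A u (hSN hu)
  have hTo : ∀ (y : K) (c : Fin 3 → F), R.Tor y c → ∀ a ∈ AT (S : Subgroup K) T,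
      y * a * y⁻¹ ∈ AT (S : Subgroup K) T := by
    intro y c hy
    have := hy.normalizes hZ'
    rw [hR] at this
    exact h.B_A y this
  -- not in the centre of `U`
  have hnc : ¬ ∀ a ∈ AT (S : Subgroup K) T, ∃ c, a = R.x 0 2 c := by
    intro hall
    have hfix : ∀ t ∈ T, ∀ s : F, t (R.x 0 2 s) = R.x 0 2 s := by
      intro t ht s
      have k1 : ∃ c, t (R.x 0 1 s) = R.x 0 1 s * R.x 0 2 c := by
        obtain ⟨c, hc⟩ := hall _ (subset_closure ⟨t, ht, R.x 0 1 s, by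
          rw [← hR]; exact R.x_mem_U (by decide) s, rfl⟩)
        exact ⟨c, by rw [← hc]; group⟩
      have k2 : ∃ c, t (R.x 1 2 1) = R.x 1 2 1 * R.x 0 2 c := by
        obtain ⟨c, hc⟩ := hall _ (subset_closure ⟨t, ht, R.x 1 2 1, by
          rw [← hR]; exact R.x_mem_U (by decide) 1, rfl⟩)
        exact ⟨c, by rw [← hc]; group⟩
      obtain ⟨c, hc⟩ := k1
      obtain ⟨d, hd⟩ := k2
      have e1 := R.conj hZ' h01 h12 h02 s 1
      rw [mul_one] at e1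
      have e2 : R.x 0 2 s = R.x 0 1 s * R.x 1 2 1 * (R.x 0 1 s)⁻¹ * (R.x 1 2 1)⁻¹ := by
        rw [e1, mul_inv_cancel_right]
      rw [e2, map_mul, map_mul, map_mul, map_inv, map_inv, hc, hd]
      have c1 := R.comm hZ' h02 h12 (by decide) (by decide) c 1
      have c2 := R.comm hZ' h02 h01 (by decide) (by decide) c s
      have c3 := R.comm hZ' h02 h01 (by decide) (by decide) d s
      have c5 : R.x 0 2 c * R.x 0 2 d = R.x 0 2 d * R.x 0 2 c := by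
        rw [R.add hZ' h02, R.add hZ' h02, add_comm]
      generalize R.x 0 1 s = a at *
      generalize R.x 1 2 1 = b at *
      generalize R.x 0 2 c = z at *
      generalize R.x 0 2 d = w at *
      calc a * z * (b * w) * (a * z)⁻¹ * (b * w)⁻¹
          = a * (z * b) * w * z⁻¹ * a⁻¹ * w⁻¹ * b⁻¹ := by group
        _ = a * b * (z * w) * z⁻¹ * a⁻¹ * w⁻¹ * b⁻¹ := by rw [c1]; group
        _ = a * b * w * a⁻¹ * w⁻¹ * b⁻¹ := by rw [c5]; group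
        _ = a * b * a⁻¹ * (a * w) * a⁻¹ * w⁻¹ * b⁻¹ := by group
        _ = a * b * a⁻¹ * b⁻¹ := by rw [← c3]; group
    obtain ⟨t, ht, ht1⟩ : ∃ t ∈ T, t ≠ 1 := by
      by_contra hcon
      push Not at hcon
      have : T = ⊥ := by
        rw [eq_bot_iff]
        intro t ht
        exact hcon t ht
      have h3 := h.three
      rw [this, card_bot] at h3
      omega
    refine h.ne ?_
    rw [eq_bot_iff]
    intro a ha
    obtain ⟨c, rfl⟩ := hall a ha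
    exact h.fpf t ht ht1 _ ha (hfix t ht c)
  push Not at hnc
  obtain ⟨a, ha, hac⟩ := hnc
  rcases R.le_Row_or_Col hZ' hle h.sq with h1 | h1
  · have e1 : R.Row 0 ≤ AT (S : Subgroup K) T := by
      obtain ⟨β, δ, rfl⟩ := (R.mem_Row hZ' h01 h02 h12).1 (h1 ha)
      refine LThree.row_le R hZ' hU hTo (a := β) (c := δ) (fun h0 => hac δ ?_) ha
      rw [h0, R.x_zero hZ' h01, one_mul]
    intro k
    obtain ⟨a, ha, ha1, hb⟩ := LThree.exists_row R hZ' (k := k) (mem_top k)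
    exact ⟨a, e1 ha, ha1, fun b hb' => e1 (hb b (h1 hb'))⟩
  · have e1 : R.Col 2 ≤ AT (S : Subgroup K) T := by
      obtain ⟨β, δ, rfl⟩ := (R.mem_Col hZ' h01 h02 h12).1 (h1 ha)
      refine LThree.col_le R hZ' hU hTo (a := β) (c := δ) (fun h0 => hac β ?_) ha
      rw [h0, R.x_zero hZ' h12, mul_one]
    intro k
    obtain ⟨a, ha, ha1, hb⟩ := LThree.exists_col R hZ' (k := k) (mem_top k)
    exact ⟨a, e1 ha, ha1, fun b hb' => e1 (hb b (h1 hb'))⟩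

end Cfsg.Agent.Omega.SQEnd
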