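import Cfsg.Agent.Omega.SQEnd.BAct
import Cfsg.Agent.Omega.EH3.Rank1.LTwo
import Cfsg.Agent.Lib.AutSL2

/-!
# `RowLTwo`: the torus acting on `K = L₂(F)`
-/

set_option autoImplicit false

namespace Cfsg.Agent.Omega.SQEnd

open Subgroup Cfsg Cfsg.Agent.Omega.Lie.End Cfsg.Agent.Lib.SL2Mat

universe u

theorem dg_mul' {F : Type*} [Field F] {b c : F} (hb : b ≠ 0) (hc : c ≠ 0) :
    dg b hb * dg c hc = dg (b * c) (mul_ne_zero hb hc) := by
  apply ext_ent <;> simp [ent_mul, mul_comm]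

theorem dg_pow' {F : Type*} [Field F] {b : F} (hb : b ≠ 0) (n : ℕ) : dg b hb ^ n = dg (b ^ n) (pow_ne_zero n hb) := by
  induction n with
  | zero =>
    rw [pow_zero]
    apply ext_ent <;> simp
  | succ n ih =>
    rw [pow_succ, ih, dg_mul']
    congr 1
    exact (pow_succ _ _).symm

theorem dg_eq_one {F : Type*} [Field F] {b : F} (hb : b ≠ 0) : dg b hb = 1 ↔ b = 1 := by
  constructor
  · intro h
    have := congrArg (fun x => ent x 0 0) h
    simpa using this
  · rintro rfl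
    apply ext_ent <;> simp

/-- Sylow 2-subgroups of `SL₂(F)`: coordinates -/
theorem exists_coord {K : Type*} [Group K] {F : Type*} [Field F] [Finite F] [CharP F 2] [Finite K]
    (f : K ≃* Matrix.SpecialLinearGroup (Fin 2) F) (S : Sylow 2 K) :
    ∃ g : K ≃* Matrix.SpecialLinearGroup (Fin 2) F, ∀ x, x ∈ (S : Subgroup K) ↔ ∃ y : F, up y = g x := by
  have : Fact (Nat.Prime 2) := ⟨Nat.prime_two⟩
  let P : Sylow 2 (Matrix.SpecialLinearGroup (Fin 2) F) := 
    S.mapSurjective (f := f.toMonoidHom) f.surjective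
  have hP : ∀ x, x ∈ P ↔ ∃ g ∈ (S : Subgroup K), f g = x := fun x => Iff.rfl
  obtain ⟨s, hs⟩ := MulAction.exists_smul_eq (Matrix.SpecialLinearGroup (Fin 2) F) P (Lib.AutSL2.sylU F 2)
  have hU : ∀ x, x ∈ Lib.AutSL2.sylU F 2 ↔ ∃ y : F, up y = x := fun x => Iff.rfl
  refine ⟨f.trans (MulAut.conj s), fun x => ?_⟩
  change _ ↔ ∃ y, up y = s * f x * s⁻¹
  rw [← hU, ← hs, Lib.AutSL2.mem_smul_sylow, hP]
  have e : s⁻¹ * (s * f x * s⁻¹) * s = f x := by group
  rw [e]
  constructor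
  · exact fun h => ⟨x, h, rfl⟩
  · rintro ⟨g, hg, e'⟩
    rwa [← f.injective e']

/-- **`RowLTwo`** -/
theorem rowLTwo : RowLTwo.{u} := by
  intro K _ _ F _ _ n hn hF hcov S T hT
  have h2 : Fact (Nat.Prime 2) := ⟨Nat.prime_two⟩
  have hchar : CharP F 2 := charP_of_card_eq_prime_pow hF
  obtain ⟨e₀⟩ := hcov.iso
  obtain ⟨e₁⟩ := Cfsg.Agent.Omega.EH3.Rank1.LTwo.psl_equiv (F := F)
  let π : K →* Matrix.SpecialLinearGroup (Fin 2) F := (e₀.trans e₁).toMonoidHom.comp (QuotientGroup.mk' (center K))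
  have hker : π.ker = center K := by
    ext x
    rw [MonoidHom.mem_ker]
    change (e₀.trans e₁) (QuotientGroup.mk' (center K) x) = 1 ↔ _
    rw [MulEquiv.map_eq_one_iff, ← MonoidHom.mem_ker, QuotientGroup.ker_mk']
  have hπ : Cfsg.Agent.Omega.TwoF.OddCover π :=
    { perf := hcov.perf
      surj := (e₀.trans e₁).surjective.comp (QuotientGroup.mk'_surjective _)
      cent := hker.le
      odd := by
        rw [hker]
        exact hcov.odd }
  have hbot := Cfsg.Agent.Omega.EH3.Rank1.OddKer.ker_eq_bot_sl2 hπ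
  let f₀ : K ≃* Matrix.SpecialLinearGroup (Fin 2) F :=
    MulEquiv.ofBijective π ⟨(MonoidHom.ker_eq_bot_iff _).1 hbot, hπ.surj⟩
  obtain ⟨f, hf⟩ := exists_coord f₀ S
  have hN1 : ∀ (c : F) (hc : c ≠ 0), ∀ x ∈ (S : Subgroup K),
      f.symm (dg c hc) * x * (f.symm (dg c hc))⁻¹ ∈ (S : Subgroup K) ∧
        ∀ y, f x = up y → f (f.symm (dg c hc) * x * (f.symm (dg c hc))⁻¹) = up (c ^ 2 * y) := by
    intro c hc x hx
    have h1 : ∀ y, f x = up y → f (f.symm (dg c hc) * x * (f.symm (dg c hc))⁻¹) = up (c ^ 2 * y) := by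
      intro y hy
      rw [map_mul, map_mul, map_inv, MulEquiv.apply_symm_apply, hy, dg_up, mul_inv_cancel_right]
    obtain ⟨y, hy⟩ := (hf x).1 hx
    exact ⟨(hf _).2 ⟨_, (h1 y hy.symm).symm⟩, h1⟩
  have hN : ∀ (c : F) (hc : c ≠ 0), f.symm (dg c hc) ∈ normalizer ((S : Subgroup K) : Set K) := by
    intro c hc
    have e : f.symm (dg c⁻¹ (inv_ne_zero hc)) = (f.symm (dg c hc))⁻¹ := by
      rw [eq_inv_iff_mul_eq_one, ← map_mul, dg_mul', map_eq_one_iff _ f.symm.injective, dg_eq_one]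
      exact inv_mul_cancel₀ hc
    rw [mem_normalizer_iff]
    refine fun x => ⟨fun hx => (hN1 c hc x hx).1, fun hx => ?_⟩
    have h1 := (hN1 c⁻¹ (inv_ne_zero hc) _ hx).1
    rw [e] at h1
    have e2 : (f.symm (dg c hc))⁻¹ * (f.symm (dg c hc) * x * (f.symm (dg c hc))⁻¹) * (f.symm (dg c hc))⁻¹⁻¹ = x := by
      group
    rwa [e2] at h1
  have hAS : AT (S : Subgroup K) T ≤ (S : Subgroup K) := by
    unfold AT
    rw [closure_le]
    rintro _ ⟨t, ht, u, hu, rfl⟩
    exact mul_mem (inv_mem hu) (hT.stab t ht u hu)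
  have hSA : (S : Subgroup K) ≤ AT (S : Subgroup K) T := by
    obtain ⟨a, ha, ha1⟩ := (AT (S : Subgroup K) T).ne_bot_iff_exists_ne_one.1 hT.ne |>.elim
      fun a h => (⟨(a : K), a.2, fun h0 => h (Subtype.ext h0)⟩ : ∃ a ∈ AT (S : Subgroup K) T, a ≠ 1)
    obtain ⟨y₀, hy₀⟩ := (hf a).1 (hAS ha)
    have hy0 : y₀ ≠ 0 := by
      rintro rfl
      rw [up_zero] at hy₀
      exact ha1 ((map_eq_one_iff f f.injective).1 hy₀.symm)
    intro s hs
    obtain ⟨y, hy⟩ := (hf s).1 hs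
    by_cases hy1 : y = 0
    · subst hy1
      rw [up_zero] at hy
      rw [(map_eq_one_iff f f.injective).1 hy.symm]
      exact one_mem _
    · obtain ⟨c, hc⟩ := FiniteField.isSquare_of_char_two (ringChar.eq_iff.2 hchar) (y / y₀)
      have hc0 : c ≠ 0 := by
        rintro rfl
        rw [mul_zero, div_eq_zero_iff] at hc
        exact hc.elim hy1 hy0
      have h1 := hT.B_A _ (hN c hc0) a ha
      have h3 := (hN1 c hc0 a (hAS ha)).2 y₀ hy₀.symm
      have h4 : c ^ 2 * y₀ = y := by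
        rw [pow_two, ← hc, div_mul_cancel₀ _ hy0]
      rw [h4, hy] at h3
      rwa [f.injective h3] at h1
  refine ⟨⟨f₀⟩, hSA, ?_⟩
  intro r hr hrT
  have hrf : Fact r.Prime := ⟨hr⟩
  obtain ⟨t, ht⟩ := exists_prime_orderOf_dvd_card' r hrT
  have htT : ∀ k ∈ zpowers (t : MulAut K), k ∈ T := fun k hk => zpowers_le.2 t.2 hk
  let act : MulAction (zpowers (t : MulAut K)) (S : Subgroup K) :=
    { smul := fun k x => ⟨(k : MulAut K) x, hT.stab _ (htT k k.2) x x.2⟩
      one_smul := fun x => Subtype.ext rfl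
      mul_smul := fun k l x => Subtype.ext rfl }
  have hord : orderOf (t : MulAut K) = r := by rw [orderOf_coe, ht]
  have hp : IsPGroup r (zpowers (t : MulAut K)) := by
    refine IsPGroup.of_card (n := 1) ?_
    rw [Nat.card_zpowers, hord, pow_one]
  have h3 := hp.card_modEq_card_fixedPoints (S : Subgroup K)
  have h4 : MulAction.fixedPoints (zpowers (t : MulAut K)) (S : Subgroup K) = {1} := by
    ext x
    rw [Set.mem_singleton_iff]
    constructor
    · intro hx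
      have h5 : (t : MulAut K) x = x := congrArg Subtype.val (hx ⟨t, mem_zpowers _⟩)
      refine Subtype.ext (hT.fpf t t.2 ?_ x (hSA x.2) h5)
      intro h6
      rw [h6, orderOf_one] at hord
      exact hr.one_lt.ne hord
    · rintro rfl
      rintro ⟨k, hk⟩
      exact Subtype.ext (map_one k)
  rw [h4] at h3
  have h5 : Nat.card (S : Subgroup K) = Nat.card F := by
    symm
    refine Nat.card_congr (Equiv.ofBijective (fun y : F => (⟨f.symm (up y), (hf _).2
      ⟨y, (f.apply_symm_apply _).symm⟩⟩ : (S : Subgroup K))) ⟨fun a b hab => ?_, fun x => ?_⟩)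
    · have := congrArg Subtype.val hab
      exact up_inj (f.symm.injective this)
    · obtain ⟨y, hy⟩ := (hf x).1 x.2
      exact ⟨y, Subtype.ext (by rw [MulEquiv.symm_apply_eq]; exact hy)⟩
  have h51 : Nat.card ({1} : Set ↥(S : Subgroup K)) = 1 := Nat.card_unique
  rw [h5, h51] at h3
  have hcF : 1 ≤ Nat.card F := Nat.card_pos
  have h6 : r ∣ Nat.card Fˣ := by
    rw [Nat.card_units]
    exact (Nat.modEq_iff_dvd' hcF).1 h3.symm
  obtain ⟨c, hc⟩ := exists_prime_orderOf_dvd_card' r h6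
  refine ⟨f.symm (dg (c : F) c.ne_zero), hN _ _, ?_⟩
  rw [MulEquiv.orderOf_eq]
  refine orderOf_eq_prime ?_ ?_
  · rw [dg_pow', dg_eq_one, ← Units.val_pow_eq_pow_val, ← hc, pow_orderOf_eq_one, Units.val_one]
  · rw [ne_eq, dg_eq_one]
    intro h7
    rw [Units.val_eq_one] at h7
    rw [h7, orderOf_one] at hc
    exact hr.one_lt.ne hc

end Cfsg.Agent.Omega.SQEnd
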