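import Cfsg.Agent.Omega.SQEnd.RowLThree
import Cfsg.Agent.StdRank2.SpFrame

/-!
# SQT, `b = 2`, `KD`: `RowSpFour`
-/

set_option autoImplicit false
set_option linter.unusedSectionVars false

namespace Cfsg.Agent.Omega.SQEnd.SpFour

open Subgroup
open Cfsg.Agent.TitsThree.B2Pkg Cfsg.Agent.TitsThree.RankTwoIdentB2
  Cfsg.Agent.TitsThree.CoreB2 Cfsg.Agent.TitsThree.RankTwoIdx Cfsg.Agent.TitsThree.RankTwoRGD
  Cfsg.Agent.TitsThree.StdData
open Cfsg.Agent.StdRank2.OddLift Cfsg.Agent.StdRank2.B2Lift Cfsg.Agent.StdRank2.B2Std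
  Cfsg.Agent.StdRank2.B2Torus Cfsg.Agent.StdRank2.SpFrame
open Cfsg.Agent.Omega.Lie.End
open scoped commutatorElement

universe u

/-! ### Conjugates of a package -/

section conj

variable {F : Type*} [Field F] {V : Type*} [AddCommGroup V] [Module F V] {D : PQDatum F V}
variable {A : Type u} [Group A]

theorem UU_map {Y Z : Type*} [Group Y] [Group Z] (m : B2Maps D Y) (f : Y →* Z) :
    UU (m.map f) = (UU m).map f := by
  unfold UU
  rw [MonoidHom.map_closure]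
  congr 1
  ext g
  constructor
  · rintro (⟨a, rfl | rfl⟩ | ⟨p, rfl | rfl⟩)
    · exact ⟨_, Or.inl ⟨a, Or.inl rfl⟩, rfl⟩
    · exact ⟨_, Or.inl ⟨a, Or.inr rfl⟩, rfl⟩
    · exact ⟨_, Or.inr ⟨p, Or.inl rfl⟩, rfl⟩
    · exact ⟨_, Or.inr ⟨p, Or.inr rfl⟩, rfl⟩
  · rintro ⟨_, (⟨a, rfl | rfl⟩ | ⟨p, rfl | rfl⟩), rfl⟩
    · exact Or.inl ⟨a, Or.inl rfl⟩
    · exact Or.inl ⟨a, Or.inr rfl⟩
    · exact Or.inr ⟨p, Or.inl rfl⟩
    · exact Or.inr ⟨p, Or.inr rfl⟩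

/-- the conjugate of a package -/
def conjStd (S : Std D A) (g : A) : Std D A where
  m := S.m.map (MulAut.conj g).toMonoidHom
  rel := S.rel.map _
  p₀ := S.p₀
  hp₀ := S.hp₀
  gen := by
    have h1 : genSet (S.m.map (MulAut.conj g).toMonoidHom) = (MulAut.conj g).toMonoidHom '' genSet S.m := by
      ext y
      constructor
      · rintro (⟨a, rfl | rfl⟩ | ⟨p, rfl | rfl⟩)
        · exact ⟨_, Or.inl ⟨a, Or.inl rfl⟩, rfl⟩
        · exact ⟨_, Or.inl ⟨a, Or.inr rfl⟩, rfl⟩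
        · exact ⟨_, Or.inr ⟨p, Or.inl rfl⟩, rfl⟩
        · exact ⟨_, Or.inr ⟨p, Or.inr rfl⟩, rfl⟩
      · rintro ⟨_, (⟨a, rfl | rfl⟩ | ⟨p, rfl | rfl⟩), rfl⟩
        · exact Or.inl ⟨a, Or.inl rfl⟩
        · exact Or.inl ⟨a, Or.inr rfl⟩
        · exact Or.inr ⟨p, Or.inl rfl⟩
        · exact Or.inr ⟨p, Or.inr rfl⟩
    rw [h1, ← MonoidHom.map_closure, S.gen, Subgroup.map_top_of_surjective]
    exact (MulAut.conj g).surjective
  ndI := by
    obtain ⟨a, ha⟩ := S.ndI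
    refine ⟨a, fun h => ha ?_⟩
    rw [UU_map] at h
    obtain ⟨y, hy, e⟩ := h
    have : y = S.m.x' a := (MulAut.conj g).injective e
    rwa [← this]
  ndJ := by
    obtain ⟨a, ha⟩ := S.ndJ
    refine ⟨a, fun h => ha ?_⟩
    rw [UU_map] at h
    obtain ⟨y, hy, e⟩ := h
    have : y = S.m.z₂' a := (MulAut.conj g).injective e
    rwa [← this]

theorem U_conjStd (S : Std D A) (g : A) : (conjStd S g).U = S.U.map (MulAut.conj g).toMonoidHom :=
  UU_map _ _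

/-- Every Sylow 2-subgroup is the positive part of a package. -/
theorem exists_std_U [CharP F 2] [Finite F] [Finite D.T] [Finite A] (S : Std D A)
    (hD : Scal D) (hZ : Odd (Nat.card (Subgroup.center A))) (P : Sylow 2 A) :
    ∃ S' : Std D A, S'.U = (P : Subgroup A) := by
  have : Fact (Nat.Prime 2) := ⟨Nat.prime_two⟩
  obtain ⟨Q, hQ⟩ := Cfsg.Agent.StdRank2.B2Torus.Std.exists_sylow S hD hZ
  obtain ⟨g, hg⟩ := MulAction.exists_smul_eq A Q P
  refine ⟨conjStd S g, ?_⟩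
  rw [U_conjStd, ← hg, Sylow.coe_subgroup_smul, hQ]
  rfl

end conj

/-! ### The torus -/

section torus

variable {F : Type*} [Field F] [Finite F] [CharP F 2] {A : Type u} [Group A] (S : Std (stdSp F) A)

instance : Finite (stdSp F).T := Finite.of_injective (fun p : (stdSp F).T => p.c) (fun p q h => by
  rw [eq_tt p, eq_tt q]; exact congrArg tt h)

theorem nII_inv (c : F) : (S.m.nII (tt c))⁻¹ = S.m.nII (tt c) := by
  rw [S.rel.nII_inv]
  congr 1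
  ext
  rw [PQDatum.T.inv_c]
  change -1 * c = c
  rw [neg_eq, one_mul]

/-- the torus of `⟨z₂, z₂'⟩` -/
noncomputable def h2 (l : F) : A := S.m.nII (tt l) * S.m.nII (tt 1)

theorem h2_eq (l : F) : h2 S l = hII S.m (tt l) (tt 1) := by
  rw [hII, nII_inv]; rfl

variable {l : F} (hl : l ≠ 0)
include hl

theorem h2_x (a : F) : h2 S l * S.m.x a * (h2 S l)⁻¹ = S.m.x (l⁻¹ * a) := by
  rw [h2_eq, hII_x S.rel (p := tt l) (q := tt 1) (show (tt l).c ≠ 0 from hl) one_c]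
  congr 1
  simp

theorem h2_x' (a : F) : h2 S l * S.m.x' a * (h2 S l)⁻¹ = S.m.x' (l * a) := by
  rw [h2_eq, hII_x' S.rel (p := tt l) (q := tt 1) (show (tt l).c ≠ 0 from hl) one_c]
  congr 1
  simp

theorem h2_y (a : F) : h2 S l * S.m.y a * (h2 S l)⁻¹ = S.m.y (l * a) := by
  rw [h2_eq, hII_y S.rel (p := tt l) (q := tt 1) (show (tt l).c ≠ 0 from hl) one_c]
  congr 1
  change l * (1 : F)⁻¹ * a = _
  rw [inv_one, mul_one]

theorem h2_z₁ (c : F) : h2 S l * S.m.z₁ (tt c) * (h2 S l)⁻¹ = S.m.z₁ (tt c) := by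
  rw [h2_eq, hII_z₁ S.rel (p := tt l) (q := tt 1) (show (tt l).c ≠ 0 from hl) one_c]
  rfl

theorem h2_z₁' (c : F) : h2 S l * S.m.z₁' (tt c) * (h2 S l)⁻¹ = S.m.z₁' (tt c) := by
  rw [h2_eq, hII_z₁' S.rel (p := tt l) (q := tt 1) (show (tt l).c ≠ 0 from hl) one_c]
  rfl

theorem h2_z₂ (c : F) : h2 S l * S.m.z₂ (tt c) * (h2 S l)⁻¹ = S.m.z₂ (tt (l * l * c)) := by
  rw [h2_eq, hII_z₂ S.rel (p := tt l) (q := tt 1) (show (tt l).c ≠ 0 from hl) one_c, refl_eq, unrefl_eq, sc_tt]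
  congr 2
  simp

theorem h2_z₂' (c : F) : h2 S l * S.m.z₂' (tt c) * (h2 S l)⁻¹ = S.m.z₂' (tt (l⁻¹ * l⁻¹ * c)) := by
  rw [h2_eq, hII_z₂' S.rel (p := tt l) (q := tt 1) (show (tt l).c ≠ 0 from hl) one_c, refl_eq, unrefl_eq, sc_tt]
  congr 2
  change l⁻¹ * 1 * (l⁻¹ * 1) * c = _
  rw [mul_one]

theorem h2_mem : h2 S l ∈ Subgroup.normalizer (S.U : Set A) := by
  rw [Std.normalizer_U, h2_eq]
  exact mem_sup_right (hII_mem_H (p := tt l) (q := tt 1) (show (tt l).c ≠ 0 from hl) one_c)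

/-- `h₂` is inverted by the involution `nII 1` -/
theorem h2_inv : S.m.nII (tt 1) * h2 S l * (S.m.nII (tt 1))⁻¹ = (h2 S l)⁻¹ := by
  have h1 := nII_inv S 1
  have h3 := nII_inv S l
  calc S.m.nII (tt 1) * (S.m.nII (tt l) * S.m.nII (tt 1)) * (S.m.nII (tt 1))⁻¹
      = S.m.nII (tt 1) * S.m.nII (tt l) := by group
    _ = (S.m.nII (tt 1))⁻¹ * (S.m.nII (tt l))⁻¹ := by rw [h1, h3]
    _ = _ := by rw [h2, mul_inv_rev]

theorem h2_pow_center {r : ℕ} (hr : l ^ r = 1) : h2 S l ^ r ∈ Subgroup.center A := by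
  have key : ∀ (f : F → A) (k : F), (∀ a, h2 S l * f a * (h2 S l)⁻¹ = f (k * a)) → k ^ r = 1 →
      ∀ a, h2 S l ^ r * f a * (h2 S l ^ r)⁻¹ = f a := by
    intro f k h hk a
    have h1 : ∀ n : ℕ, h2 S l ^ n * f a * (h2 S l ^ n)⁻¹ = f (k ^ n * a) := by
      intro n
      induction n with
      | zero => simp
      | succ n ih =>
        have e : h2 S l ^ (n + 1) * f a * (h2 S l ^ (n + 1))⁻¹ =
            h2 S l * (h2 S l ^ n * f a * (h2 S l ^ n)⁻¹) * (h2 S l)⁻¹ := by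
          rw [pow_succ']; group
        rw [e, ih, h, pow_succ', mul_assoc]
    rw [h1, hk, one_mul]
  have hr' : (l⁻¹) ^ r = 1 := by rw [inv_pow, hr, inv_one]
  refine Std.mem_center S (key _ _ (h2_x S hl) hr') (key _ _ (h2_x' S hl) hr) ?_ ?_
  · intro p
    exact key (fun c => S.m.z₂ (tt c)) _ (h2_z₂ S hl) (by rw [mul_pow, hr, one_mul]) p.c
  · intro p
    exact key (fun c => S.m.z₂' (tt c)) _ (h2_z₂' S hl) (by rw [mul_pow, hr', one_mul]) p.c

theorem h2_pow [Finite A] (hZ : Odd (Nat.card (Subgroup.center A))) {r : ℕ} (hr : l ^ r = 1) :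
    h2 S l ^ r = 1 := by
  have hz := h2_pow_center S hl hr
  have h1 : S.m.nII (tt 1) * h2 S l ^ r * (S.m.nII (tt 1))⁻¹ = (h2 S l ^ r)⁻¹ := by
    rw [← inv_pow, ← h2_inv S hl, conj_pow]
  have h3 : S.m.nII (tt 1) * h2 S l ^ r * (S.m.nII (tt 1))⁻¹ = h2 S l ^ r := by
    rw [mem_center_iff.1 hz, mul_inv_cancel_right]
  rw [h3] at h1
  set z := h2 S l ^ r with hzdef
  have h4 : (⟨z, hz⟩ : Subgroup.center A) ^ 2 = 1 := by
    apply Subtype.ext
    change z ^ 2 = 1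
    rw [pow_two]
    nth_rewrite 1 [h1]
    rw [inv_mul_cancel]
  have h5 : (⟨z, hz⟩ : Subgroup.center A) ^ Nat.card (Subgroup.center A) = 1 := pow_card_eq_one'
  have h6 : orderOf (⟨z, hz⟩ : Subgroup.center A) ∣ Nat.gcd 2 (Nat.card (Subgroup.center A)) :=
    Nat.dvd_gcd (orderOf_dvd_of_pow_eq_one h4) (orderOf_dvd_of_pow_eq_one h5)
  rw [Nat.Coprime.gcd_eq_one (Nat.coprime_two_left.2 hZ), Nat.dvd_one, orderOf_eq_one_iff] at h6
  exact congrArg Subtype.val h6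

omit hl

/-- the torus of `⟨z₁, z₁'⟩` -/
noncomputable def h1 (l : F) : A := na S * h2 S l * (na S)⁻¹

theorem conj_na {g a b c d : A} (e1 : na S * a * (na S)⁻¹ = b) (e2 : g * a * g⁻¹ = c)
    (e3 : na S * c * (na S)⁻¹ = d) : (na S * g * (na S)⁻¹) * b * (na S * g * (na S)⁻¹)⁻¹ = d := by
  rw [← e1, ← e3, ← e2]; group

include hl

theorem h1_x (a : F) : h1 S l * S.m.x a * (h1 S l)⁻¹ = S.m.x (l * a) :=
  conj_na S (na_x' S a) (h2_x' S hl a) (na_x' S _)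

theorem h1_y (a : F) : h1 S l * S.m.y a * (h1 S l)⁻¹ = S.m.y (l * a) :=
  conj_na S (na_y S a) (h2_y S hl a) (na_y S _)

theorem h1_z₁ (c : F) : h1 S l * S.m.z₁ (tt c) * (h1 S l)⁻¹ = S.m.z₁ (tt (l * l * c)) :=
  conj_na S (na_z₂ S c) (h2_z₂ S hl c) (na_z₂ S _)

theorem h1_z₂ (c : F) : h1 S l * S.m.z₂ (tt c) * (h1 S l)⁻¹ = S.m.z₂ (tt c) :=
  conj_na S (na_z₁ S c) (h2_z₁ S hl c) (na_z₁ S _)

omit hl in
theorem mem_normalizer_of [Finite A] {g : A} (h : ∀ x ∈ posSet S.m, g * x * g⁻¹ ∈ S.U) :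
    g ∈ Subgroup.normalizer (S.U : Set A) := by
  have h1 : S.U.map (MulAut.conj g).toMonoidHom ≤ S.U := by
    conv_lhs => rw [show S.U = Subgroup.closure (posSet S.m) from rfl, MonoidHom.map_closure]
    rw [Subgroup.closure_le]
    rintro _ ⟨x, hx, rfl⟩
    exact h x hx
  have h2 : S.U.map (MulAut.conj g).toMonoidHom = S.U := by
    refine SetLike.coe_injective (Set.eq_of_subset_of_ncard_le h1 ?_ (Set.toFinite _))
    rw [Subgroup.coe_map]
    exact (Set.ncard_image_of_injective _ (MulAut.conj g).injective).ge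
  rw [Subgroup.mem_normalizer_iff]
  intro x
  constructor
  · intro hx
    exact h1 ⟨x, hx, rfl⟩
  · intro hx
    have h3 : g * x * g⁻¹ ∈ S.U.map (MulAut.conj g).toMonoidHom := by rw [h2]; exact hx
    obtain ⟨y, hy, e⟩ := h3
    have : y = x := (MulAut.conj g).injective e
    rwa [← this]

theorem h1_mem [Finite A] : h1 S l ∈ Subgroup.normalizer (S.U : Set A) := by
  refine mem_normalizer_of S ?_
  rintro x (⟨a, rfl | rfl⟩ | ⟨p, rfl | rfl⟩)
  · rw [h1_x S hl]; exact x_mem _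
  · rw [h1_y S hl]; exact y_mem _
  · rw [eq_tt p, h1_z₁ S hl]; exact z₁_mem _
  · rw [eq_tt p, h1_z₂ S hl]; exact z₂_mem _

theorem h1_pow [Finite A] (hZ : Odd (Nat.card (Subgroup.center A))) {r : ℕ} (hr : l ^ r = 1) :
    h1 S l ^ r = 1 := by
  rw [h1, conj_pow, h2_pow S hl hZ hr, mul_one, mul_inv_cancel]

/-- `h₂` commutes with `z₁`, `z₁'` -/
theorem h1_h2 : h1 S l * h2 S l = h2 S l * h1 S l := by
  have c1 : ∀ c, Commute (h2 S l) (S.m.z₁ (tt c)) := fun c => mul_inv_eq_iff_eq_mul.1 (h2_z₁ S hl c)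
  have c2 : ∀ c, Commute (h2 S l) (S.m.z₁' (tt c)) := fun c => mul_inv_eq_iff_eq_mul.1 (h2_z₁' S hl c)
  have c3 : ∀ c, Commute (h2 S l) (na S * S.m.z₂ (tt c) * (na S)⁻¹) := fun c => by rw [na_z₂]; exact c1 c
  have c4 : ∀ c, Commute (h2 S l) (na S * S.m.z₂' (tt c) * (na S)⁻¹) := fun c => by rw [na_z₂']; exact c2 c
  have c5 : ∀ p, Commute (h2 S l) (na S * S.m.nII p * (na S)⁻¹) := by
    intro p
    have e : na S * S.m.nII p * (na S)⁻¹ =
        (na S * S.m.z₂' (tt ((stdSp F).sc (-((stdSp F).σ p.c)⁻¹) p).c) * (na S)⁻¹) *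
          (na S * S.m.z₂ (tt p.c) * (na S)⁻¹) *
          (na S * S.m.z₂' (tt ((stdSp F).sc (-((stdSp F).ε * p.c⁻¹)) p).c) * (na S)⁻¹) := by
      rw [B2Maps.nII, ← eq_tt, ← eq_tt, ← eq_tt]
      group
    rw [e]
    exact ((c4 _).mul_right (c3 _)).mul_right (c4 _)
  have e : h1 S l = (na S * S.m.nII (tt l) * (na S)⁻¹) * (na S * S.m.nII (tt 1) * (na S)⁻¹) := by
    rw [h1, h2]; group
  have c6 : Commute (h2 S l) (h1 S l) := by
    rw [e]
    exact (c5 _).mul_right (c5 _)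
  exact c6.eq.symm

theorem indep {r : ℕ} (hr : orderOf l = r) (hr2 : Odd r) {m k : ℕ} (h : h1 S l ^ m * h2 S l ^ k = 1) :
    r ∣ m ∧ r ∣ k := by
  have key : ∀ (g : A) (f : F → A) (c : F), (∀ a, g * f a * g⁻¹ = f (c * a)) →
      ∀ (n : ℕ) (a : F), g ^ n * f a * (g ^ n)⁻¹ = f (c ^ n * a) := by
    intro g f c hg n a
    induction n with
    | zero => simp
    | succ n ih =>
      have e : g ^ (n + 1) * f a * (g ^ (n + 1))⁻¹ = g * (g ^ n * f a * (g ^ n)⁻¹) * g⁻¹ := by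
        rw [pow_succ']; group
      rw [e, ih, hg, pow_succ', mul_assoc]
  have hcomp : ∀ (g g' : A) (u v w : A), g' * u * g'⁻¹ = v → g * v * g⁻¹ = w → g * g' = 1 → u = w := by
    intro g g' u v w e1 e2 e3
    calc u = (g * g') * u * (g * g')⁻¹ := by rw [e3]; group
      _ = g * (g' * u * g'⁻¹) * g⁻¹ := by group
      _ = w := by rw [e1, e2]
  have hd : ∀ n : ℕ, (l * l) ^ n = 1 → r ∣ n := by
    intro n hn
    have h3 : l ^ (2 * n) = 1 := by rw [pow_mul, pow_two, hn]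
    have h4 := orderOf_dvd_of_pow_eq_one h3
    rw [hr] at h4
    exact (Nat.coprime_two_right.2 hr2).dvd_of_dvd_mul_left h4
  constructor
  · have e := hcomp _ _ _ _ _
      (key (h2 S l) (fun c => S.m.z₁ (tt c)) 1 (fun a => by rw [one_mul]; exact h2_z₁ S hl a) k 1)
      (key (h1 S l) (fun c => S.m.z₁ (tt c)) (l * l) (h1_z₁ S hl) m _) h
    have e1 := congrArg PQDatum.T.c (S.z₁_injective e)
    refine hd m ?_
    simpa using e1.symm
  · have e := hcomp _ _ _ _ _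
      (key (h2 S l) (fun c => S.m.z₂ (tt c)) (l * l) (h2_z₂ S hl) k 1)
      (key (h1 S l) (fun c => S.m.z₂ (tt c)) 1 (fun a => by rw [one_mul]; exact h1_z₂ S hl a) m _) h
    have e1 := congrArg PQDatum.T.c (S.z₂_injective e)
    refine hd k ?_
    simpa using e1.symm

end torus

/-! ### The centre of `U` -/

section center

variable {F : Type*} [Field F] [Finite F] [CharP F 2] {A : Type u} [Group A] (S : Std (stdSp F) A)

theorem comm_zy (c b : F) {u : A} (hu : u ∈ S.U) : u * (S.m.z₁ (tt c) * S.m.y b) = S.m.z₁ (tt c) * S.m.y b * u := by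
  have h1 : S.U ≤ Subgroup.centralizer {S.m.z₁ (tt c) * S.m.y b} := by
    rw [show S.U = Subgroup.closure (posSet S.m) from rfl, Subgroup.closure_le]
    rintro x (⟨a, rfl | rfl⟩ | ⟨p, rfl | rfl⟩) <;> rw [SetLike.mem_coe, mem_centralizer_singleton_iff]
    · exact ((x_z₁_comm S a c).mul_right (x_y_comm S a b)).eq
    · refine ((y_z₁_comm S a c).mul_right ?_).eq
      change _ * _ = _ * _
      rw [← S.rel.y_add, ← S.rel.y_add, add_comm]
    · rw [eq_tt p]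
      refine (Commute.mul_right ?_ (y_z₁_comm S b p.c).symm).eq
      change _ * _ = _ * _
      rw [← S.rel.z₁_mul, ← S.rel.z₁_mul, tt_mul, tt_mul, add_comm]
    · rw [eq_tt p]
      exact ((z₁_z₂_comm S c p.c).symm.mul_right (y_z₂_comm S b p.c).symm).eq
  exact mem_centralizer_singleton_iff.1 (h1 hu)

theorem zy_mem (c b : F) : S.m.z₁ (tt c) * S.m.y b ∈ S.U := mul_mem (z₁_mem _) (y_mem _)

/-- `[U, U] ≤ Z(U)` -/
theorem comm_eq {u v : A} (hu : u ∈ S.U) (hv : v ∈ S.U) :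
    ∃ c b : F, u * v * u⁻¹ * v⁻¹ = S.m.z₁ (tt c) * S.m.y b := by
  obtain ⟨a1, p1, b1, q1, rfl⟩ := exists_nf S.rel hu
  obtain ⟨a2, p2, b2, q2, rfl⟩ := exists_nf S.rel hv
  obtain ⟨a, p, b, q, e⟩ := exists_nf S.rel (mul_mem (mul_mem (mul_mem hu hv) (inv_mem hu)) (inv_mem hv))
  have e1 : nf S.m a p b q * (nf S.m a2 p2 b2 q2 * nf S.m a1 p1 b1 q1) =
      nf S.m a1 p1 b1 q1 * nf S.m a2 p2 b2 q2 := by
    rw [← e]; group
  rw [mul_nf S.rel, mul_nf S.rel, mul_nf S.rel] at e1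
  obtain ⟨k1, -, -, k2⟩ := S.nf_inj e1
  have h1 : a = 0 := by linear_combination k1
  have h2 : q = 1 := by
    have h3 : q2 * q1 = q1 * q2 := by
      rw [eq_tt q1, eq_tt q2, tt_mul, tt_mul, add_comm]
    rw [h3] at k2
    exact mul_eq_right.1 k2
  refine ⟨p.c, b, ?_⟩
  rw [e, h1, h2, StdRank2.B2Std.nf, add_zero' S.rel.x_add, mul_one' S.rel.z₂_mul, one_mul, mul_one]
  rfl

/-- the centre of `U` -/
theorem eq_zy {u : A} (hu : u ∈ S.U) (h : ∀ v ∈ S.U, v * u = u * v) :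
    ∃ c b : F, u = S.m.z₁ (tt c) * S.m.y b := by
  obtain ⟨a, p, b, q, rfl⟩ := exists_nf S.rel hu
  have e1 := h _ (x_mem (m := S.m) 1)
  have e2 := h _ (z₂_mem (m := S.m) (tt 1))
  rw [x_eq_nf S.rel, mul_nf S.rel, mul_nf S.rel] at e1
  rw [z₂_eq_nf S.rel, mul_nf S.rel, mul_nf S.rel] at e2
  obtain ⟨-, -, k1, -⟩ := S.nf_inj e1
  obtain ⟨-, -, k2, -⟩ := S.nf_inj e2
  have h1 : q.c = 0 := by
    change (0 : F) + (-1) * a * (0 : F) + 0 + b = b + (-1) * 1 * q.c + 0 + 0 at k1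
    linear_combination k1
  have h2 : a = 0 := by
    change (0 : F) + (-1) * a * (1 : F) + 0 + b = b + (-1) * 0 * q.c + 0 + 0 at k2
    linear_combination -k2
  refine ⟨p.c, b, ?_⟩
  rw [h2, StdRank2.B2Std.nf, eq_tt q, h1, ← tt_one, add_zero' S.rel.x_add, mul_one' S.rel.z₂_mul, one_mul, mul_one]
  rfl

end center

/-! ### The action of `T` -/

section act

variable {F : Type*} [Field F] [Finite F] [CharP F 2]

/-- the eigenvalue of `t` on a root group -/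
theorem exists_lam {K : Type*} [Group K] {t : MulAut K} {r : ℕ} (ht : t ^ r = 1) {f : F → K} (hf : Function.Injective f)
    (h0 : f 0 = 1) {c₁ c₂ : F} (hc : c₁ ≠ 0) (h1 : t (f c₁) = f c₂)
    (hg : ∀ d : F, d ≠ 0 → ∀ a b, t (f a) = f b → t (f (d * a)) = f (d * b)) (hne : t (f c₁) ≠ f c₁) :
    ∃ l : F, l ≠ 0 ∧ l ^ r = 1 ∧ l ≠ 1 := by
  have hc2 : c₂ ≠ 0 := by
    rintro rfl
    rw [h0] at h1
    exact hc (hf ((t.map_eq_one_iff.1 h1).trans h0.symm))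
  have hl : c₂ * c₁⁻¹ ≠ 0 := mul_ne_zero hc2 (inv_ne_zero hc)
  refine ⟨c₂ * c₁⁻¹, hl, ?_, ?_⟩
  · have h2 : ∀ n : ℕ, (t ^ n) (f c₁) = f ((c₂ * c₁⁻¹) ^ n * c₁) := by
      intro n
      induction n with
      | zero => simp
      | succ n ih =>
        rw [pow_succ', MulAut.mul_apply, ih, hg _ (pow_ne_zero n hl) _ _ h1]
        congr 1
        rw [pow_succ, mul_assoc, mul_assoc, inv_mul_cancel₀ hc, mul_one]
    have h3 := h2 r
    rw [ht, MulAut.one_apply] at h3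
    exact (mul_eq_right₀ hc).1 (hf h3).symm
  · intro h
    apply hne
    rw [h1]
    congr 1
    rwa [mul_inv_eq_one₀ hc] at h

variable {K : Type u} [Group K] [Finite K] (S : Std (stdSp F) K)

theorem exists_eigen {T : Subgroup (MulAut K)} (h : BAct S.U T) (hF : 4 ≤ Nat.card F) {r : ℕ} {t : MulAut K}
    (ht : t ∈ T) (ht1 : t ≠ 1) (htr : t ^ r = 1) : ∃ l : F, l ≠ 0 ∧ l ^ r = 1 ∧ l ≠ 1 := by
  have hA : AT S.U T ≤ S.U := AT_le h.toTAct
  have hUN : S.U ≤ Subgroup.normalizer (S.U : Set K) := Subgroup.le_normalizer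
  have hHN : ∀ α β : Fˣ, StdRank2.SpFrame.h S α β ∈ Subgroup.normalizer (S.U : Set K) := by
    intro α β
    rw [Cfsg.Agent.StdRank2.B2Torus.Std.normalizer_U]
    exact mem_sup_right (h_mem S α β)
  obtain ⟨γ, hγ0, hγ1⟩ := StdRank2.B2Inst.exists_ne (F := F) (by omega)
  let g0 : Fˣ := Units.mk0 γ hγ0
  have hg0 : (g0 : F) = γ := rfl
  -- `z₁ y ∈ A`
  obtain ⟨c, b, hcb, hcbA⟩ : ∃ c b : F, (c ≠ 0 ∨ b ≠ 0) ∧ S.m.z₁ (tt c) * S.m.y b ∈ AT S.U T := by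
    obtain ⟨a, ha1⟩ := Subgroup.ne_bot_iff_exists_ne_one.1 h.ne
    have ha := a.2
    have ha1' : (a : K) ≠ 1 := fun e => ha1 (Subtype.ext e)
    have aux : ∀ w ∈ AT S.U T, w ≠ 1 → (∃ c b : F, w = S.m.z₁ (tt c) * S.m.y b) →
        ∃ c b : F, (c ≠ 0 ∨ b ≠ 0) ∧ S.m.z₁ (tt c) * S.m.y b ∈ AT S.U T := by
      rintro w hw hw1 ⟨c, b, rfl⟩
      refine ⟨c, b, ?_, hw⟩
      by_contra hcon
      push Not at hcon
      apply hw1
      rw [hcon.1, hcon.2, ← tt_one, mul_one' S.rel.z₁_mul, add_zero' S.rel.y_add, one_mul]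
    by_cases hc : ∀ v ∈ S.U, v * (a : K) = a * v
    · exact aux a ha ha1' (eq_zy S (hA ha) hc)
    · push Not at hc
      obtain ⟨v, hv, hva⟩ := hc
      refine aux (v * a * v⁻¹ * (a : K)⁻¹) (mul_mem (h.B_A v (hUN hv) a ha) (inv_mem ha)) ?_ (comm_eq S hv (hA ha))
      intro e
      apply hva
      have : v * a = (v * a * v⁻¹ * (a : K)⁻¹) * (a * v) := by group
      rw [this, e, one_mul]
  -- `t` on `Z(U)`
  have hinv : ∀ x ∈ S.U, t⁻¹ x ∈ S.U := h.stab t⁻¹ (inv_mem ht)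
  have htz : ∀ c b : F, ∃ c' b' : F, t (S.m.z₁ (tt c) * S.m.y b) = S.m.z₁ (tt c') * S.m.y b' := by
    intro c b
    refine eq_zy S (h.stab t ht _ (zy_mem S c b)) ?_
    intro v hv
    have h1 := congrArg t (comm_zy S c b (hinv v hv))
    have h2 : t (t⁻¹ v) = v := MulAut.apply_inv_self _ t v
    rw [map_mul, map_mul t (S.m.z₁ (tt c) * S.m.y b), h2] at h1
    exact h1
  have htg : ∀ g ∈ Subgroup.normalizer (S.U : Set K), ∀ c b : F,
      t (g * (S.m.z₁ (tt c) * S.m.y b) * g⁻¹) = g * t (S.m.z₁ (tt c) * S.m.y b) * g⁻¹ := by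
    intro g hg c b
    obtain ⟨c', b', e⟩ := htz c b
    have h1 := comm_zy S c' b' (hA (h.B_T g hg t ht))
    rw [map_mul, map_mul, map_inv, e]
    calc t g * (S.m.z₁ (tt c') * S.m.y b') * (t g)⁻¹
        = g * ((g⁻¹ * t g) * (S.m.z₁ (tt c') * S.m.y b')) * (g⁻¹ * t g)⁻¹ * g⁻¹ := by group
      _ = g * (S.m.z₁ (tt c') * S.m.y b') * g⁻¹ := by rw [h1]; group
  have hconj : ∀ (α β : Fˣ) (c b : F), StdRank2.SpFrame.h S α β * (S.m.z₁ (tt c) * S.m.y b) * (StdRank2.SpFrame.h S α β)⁻¹ =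
      S.m.z₁ (tt ((α : F) ^ 2 * β * c)) * S.m.y (α * β * b) := by
    intro α β c b
    rw [← h_z₁, ← h_y]; group
  have hinj : ∀ c b c' b' : F, S.m.z₁ (tt c) * S.m.y b = S.m.z₁ (tt c') * S.m.y b' → c = c' ∧ b = b' := by
    intro c b c' b' e
    have e1 : StdRank2.B2Std.nf S.m 0 (tt c) b 1 = StdRank2.B2Std.nf S.m 0 (tt c') b' 1 := by
      rw [StdRank2.B2Std.nf, StdRank2.B2Std.nf, add_zero' S.rel.x_add, mul_one' S.rel.z₂_mul, one_mul, mul_one,
        one_mul, mul_one, e]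
    obtain ⟨-, k1, k2, -⟩ := S.nf_inj e1
    exact ⟨congrArg PQDatum.T.c k1, k2⟩
  have hzz : ∀ c, S.m.z₁ (tt c) = S.m.z₁ (tt c) * S.m.y 0 := fun c => by rw [add_zero' S.rel.y_add, mul_one]
  have hyy : ∀ b, S.m.y b = S.m.z₁ (tt 0) * S.m.y b := fun b => by
    rw [← tt_one, mul_one' S.rel.z₁_mul, one_mul]
  by_cases hc : c = 0
  · -- `y b ∈ A`
    have hb : b ≠ 0 := by
      rcases hcb with h1 | h1
      · exact absurd hc h1
      · exact h1
    rw [hc, ← hyy] at hcbA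
    obtain ⟨c', b', e⟩ := htz 0 b
    have hc' : c' = 0 := by
      have e1 := htg _ (hHN g0 g0⁻¹) 0 b
      rw [hconj, e, hconj] at e1
      have e2 : ((g0 : F) ^ 2 * ((g0⁻¹ : Fˣ) : F) * 0) = 0 := mul_zero _
      have e3 : ((g0 : F) * ((g0⁻¹ : Fˣ) : F)) = 1 := by rw [← Units.val_mul, mul_inv_cancel, Units.val_one]
      rw [e2, e3, one_mul, e] at e1
      have e4 := (hinj _ _ _ _ e1).1
      have e5 : (g0 : F) ^ 2 * ((g0⁻¹ : Fˣ) : F) = γ := by rw [pow_two, mul_assoc, e3, mul_one, hg0]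
      rw [e5] at e4
      have e6 : (γ - 1) * c' = 0 := by linear_combination -e4
      exact (mul_eq_zero.1 e6).resolve_left (sub_ne_zero.2 hγ1)
    rw [hc', ← hyy, ← hyy] at e
    refine exists_lam (f := S.m.y) htr S.y_injective (add_zero' S.rel.y_add) hb e ?_ ?_
    · intro d hd a b hab
      have e1 := htg _ (hHN (Units.mk0 d hd) 1) 0 a
      rw [hconj, ← hyy, hab] at e1
      rw [hyy b, hconj] at e1
      simpa [← hyy] using e1
    · intro hfix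
      have := h.fpf t ht ht1 _ hcbA hfix
      exact hb (S.y_injective (this.trans (add_zero' S.rel.y_add).symm))
  · -- `z₁ c ∈ A`
    have e3 : ((g0 : F) * ((g0⁻¹ : Fˣ) : F)) = 1 := by rw [← Units.val_mul, mul_inv_cancel, Units.val_one]
    have e5 : (g0 : F) ^ 2 * ((g0⁻¹ : Fˣ) : F) = γ := by rw [pow_two, mul_assoc, e3, mul_one, hg0]
    obtain ⟨c, hc, hcbA⟩ : ∃ c : F, c ≠ 0 ∧ S.m.z₁ (tt c) ∈ AT S.U T := by
      refine ⟨(γ - 1) * c, mul_ne_zero (sub_ne_zero.2 hγ1) hc, ?_⟩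
      have h1 := mul_mem (h.B_A _ (hHN g0 g0⁻¹) _ hcbA) (inv_mem hcbA)
      rw [hconj, e3, e5, one_mul] at h1
      have e : S.m.z₁ (tt (γ * c)) * S.m.y b * (S.m.z₁ (tt c) * S.m.y b)⁻¹ = S.m.z₁ (tt ((γ - 1) * c)) := by
        have e6 : tt (γ * c) = tt ((γ - 1) * c) * tt c := by rw [tt_mul]; congr 1; ring
        rw [e6, S.rel.z₁_mul]; group
      rwa [e] at h1
    obtain ⟨c', b', e⟩ := htz c 0
    have hb' : b' = 0 := by
      have e1 := htg _ (hHN g0 (g0⁻¹ ^ 2)) c 0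
      rw [hconj, e, hconj] at e1
      have e2 : ((g0 : F) * ((g0⁻¹ ^ 2 : Fˣ) : F) * 0) = 0 := mul_zero _
      have e6 : ((g0 : F) ^ 2 * ((g0⁻¹ ^ 2 : Fˣ) : F)) = 1 := by
        rw [← Units.val_pow_eq_pow_val, ← Units.val_mul, ← mul_pow, mul_inv_cancel, one_pow, Units.val_one]
      rw [e2, e6, one_mul, e] at e1
      have e4 := (hinj _ _ _ _ e1).2
      have e7 : γ * ((g0 : F) * ((g0⁻¹ ^ 2 : Fˣ) : F)) = 1 := by rw [← hg0, ← mul_assoc, ← pow_two]; exact e6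
      have e8 : (γ - 1) * b' = 0 := by linear_combination γ * e4 + b' * e7
      exact (mul_eq_zero.1 e8).resolve_left (sub_ne_zero.2 hγ1)
    rw [hb', ← hzz, ← hzz] at e
    have hinjz : Function.Injective (fun c => S.m.z₁ (tt c)) := fun a b hab =>
      congrArg PQDatum.T.c (S.z₁_injective hab)
    have hz0 : S.m.z₁ (tt 0) = 1 := mul_one' S.rel.z₁_mul
    refine exists_lam (f := fun c => S.m.z₁ (tt c)) htr hinjz hz0 hc e ?_ ?_
    · intro d hd a b hab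
      have e1 := htg _ (hHN 1 (Units.mk0 d hd)) a 0
      rw [hconj, ← hzz, hab] at e1
      rw [hzz b, hconj] at e1
      simpa [← hzz] using e1
    · intro hfix
      have := h.fpf t ht ht1 _ hcbA hfix
      exact hc (hinjz (this.trans hz0.symm))

end act

end Cfsg.Agent.Omega.SQEnd.SpFour

namespace Cfsg.Agent.Omega.SQEnd

open Subgroup Cfsg Cfsg.Agent.Omega.Lie.End Cfsg.Agent.StdRank2 Cfsg.Agent.TitsThree.StdData

universe u

/-- **`Sp₄(F)`** -/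
theorem rowSpFour : RowSpFour.{u} := by
  intro K _ _ F _ _ n hn hF hK P T h r hr hrT
  have : Fact (Nat.Prime 2) := ⟨Nat.prime_two⟩
  have hch : CharP F 2 := by
    obtain ⟨p, hp⟩ := CharP.exists F
    obtain ⟨k, hpp, hk⟩ := FiniteField.card F p
    have h2 : p ∣ 2 ^ n := by
      rw [← hF, hk]
      exact dvd_pow_self p k.ne_zero
    obtain rfl := (Nat.prime_dvd_prime_iff_eq hpp Nat.prime_two).1 (hpp.dvd_of_dvd_pow h2)
    exact hp
  have hF4 : 4 ≤ Nat.card F := by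
    rw [Nat.card_eq_fintype_card, hF]
    calc 4 = 2 ^ 2 := by norm_num
      _ ≤ 2 ^ n := Nat.pow_le_pow_right (by norm_num) hn
  obtain ⟨e⟩ := hK.iso
  obtain ⟨S0⟩ := B2Inst.exists_std_Sp (F := F) (by omega)
  obtain ⟨S1, -⟩ := B2Inst.exists_frame hK.perf hK.odd e S0
  obtain ⟨S, hS⟩ := SpFour.exists_std_U S1 B2Torus.scal_Sp hK.odd P
  rw [← hS] at h ⊢
  have hr2 : Odd r := h.odd.of_dvd_nat hrT
  have : Fact r.Prime := ⟨hr⟩
  obtain ⟨t, ht⟩ := exists_prime_orderOf_dvd_card' r hrT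
  have ht1 : (t : MulAut K) ≠ 1 := by
    intro e1
    have : t = 1 := Subtype.ext e1
    rw [this, orderOf_one] at ht
    exact hr.one_lt.ne ht
  obtain ⟨l, hl, hlr, hl1⟩ := SpFour.exists_eigen S h hF4 t.2 ht1 (r := r) (by
    have := pow_orderOf_eq_one t
    rw [ht] at this
    exact congrArg Subtype.val this)
  have ho : orderOf l = r := orderOf_eq_prime hlr hl1
  refine ⟨SpFour.h1 S l, SpFour.h1_mem S hl, SpFour.h2 S l, SpFour.h2_mem S hl, SpFour.h1_pow S hl hK.odd hlr,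
    SpFour.h2_pow S hl hK.odd hlr, SpFour.h1_h2 S hl, ?_⟩
  intro m k e
  exact SpFour.indep S hl ho hr2 e

end Cfsg.Agent.Omega.SQEnd
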