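import Cfsg.Agent.Omega.SQEnd.KQFin
import Cfsg.Agent.Omega.SQEnd.KDNorm
import Cfsg.Agent.Omega.SQEnd.RowLTwo
import Cfsg.Agent.Omega.SQEnd.RowLThree
import Cfsg.Agent.Omega.SQEnd.RowSpFour
import Cfsg.Agent.Omega.SQEnd.RowDeadB
import Cfsg.Agent.Omega.IIa4.GZeroOf
import Cfsg.Agent.Omega.Node.SQEnd
import Cfsg.Agent.Omega.Lie.End.KDead

/-!
# SQT, `b = 2`: the rank one case is the only one (helper912)

`rankOne` : `Sit`, `LayAll`, `SemiOut`, `CenSE` and `m_p(G) ≤ 2` for all odd `p` imply `Node.SQEnd.RankOne`.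
`lieBNP` : the node `LieBNP` of `LeafA4` for the class `StrQ`.
-/

set_option autoImplicit false
set_option linter.unusedSectionVars false

universe u

namespace Cfsg.Agent.Omega.SQEnd

open Subgroup Cfsg Cfsg.Agent.ZN Cfsg.Agent.Omega.NatPair Cfsg.Agent.Omega.BTwo
open Cfsg.Agent.Omega.Frame Cfsg.Agent.Omega.FrameFF Cfsg.Agent.Omega.IIa4
open Cfsg.Agent.Omega.Lie.End

theorem deadB_of {Y : Type u} [Group Y] (h : IsUThree Y ∨ Cfsg.Lie.IsoSuzuki Y ∨ Cfsg.Lie.Iso2F4 Y) : DeadB Y := by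
  intro K _ _ hc S T hT
  obtain ⟨e⟩ := hc.iso
  refine dead_cover hc.odd ?_ S T hT.toTAct
  rcases h with h | h | h
  · obtain ⟨F, _, _, _, q, h1, h2, ⟨f⟩⟩ := h
    exact Or.inl ⟨F, _, _, inferInstance, q, h1, h2, ⟨e.trans f⟩⟩
  · obtain ⟨F, _, _, m, h1, h2, ⟨f⟩⟩ := h
    exact Or.inr (Or.inl ⟨F, _, _, m, h1, h2, ⟨e.trans f⟩⟩)
  · obtain ⟨F, _, _, m, h1, h2, ⟨f⟩⟩ := h
    exact Or.inr (Or.inr ⟨F, _, _, m, h1, h2, ⟨e.trans f⟩⟩)

/-- the table -/
theorem rows : KQRows.{u} where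
  two := rowLTwo
  three := rowLThree
  four := rowSpFour
  sl := fun Y _ h => deadB_SL Y h
  su := fun Y _ h => deadB_of (Or.inl (by
    obtain ⟨F, _, _, q, n, hn, hq, hF, he⟩ := h
    have h1 : CharP F 2 := charP_two (n := n * 2) (by rw [hF, hq, pow_mul])
    refine ⟨F, _, _, h1, q, hF, ?_, he⟩
    rw [hq]
    intro h2
    have h3 : 2 ^ 2 ≤ 2 ^ n := Nat.pow_le_pow_right (by norm_num) hn
    omega))
  g2 := fun Y _ h => deadB_G Y h
  d4 := fun Y _ h => deadB_D Y h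
  sz := fun Y _ h => deadB_of (Or.inr (Or.inl h))
  f4 := fun Y _ h => deadB_of (Or.inr (Or.inr h))

variable {G : Type u} [Group G] [Finite G] {S : Sylow 2 G} {P : Subgroup G} {g : G} {F : Type} [Field F]
  [Finite F] [CharP F 2] {M : NatMod F (zl (S : Subgroup G) P)}

/-- **`KD` for the strongly quasithin groups** -/
theorem rankOne (hsec : Quasithin.Sec.{u}) (hq : Quasithin.StrQ G) (h : Sit S P g M)
    (hl : LayAll (zl (S : Subgroup G) P) (pt M) F) (hsemi : SemiOut (zl (S : Subgroup G) P) (pt M))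
    (hcen : CenSE (zl (S : Subgroup G) P) (pt M)) :
    Node.SQEnd.RankOne (zl (S : Subgroup G) P) (pt M) := by
  obtain ⟨i, j, hij⟩ := h.exists_pair
  obtain ⟨v, w1, w2, c⟩ := h.exists_coord hij
  obtain ⟨t, τ⟩ := h.exists_torD c
  obtain ⟨S₁, hSV, hSR⟩ := h.exists_sylow i
  have rd : RD (zl (S : Subgroup G) P) (pt M) i j v w1 w2 t S₁ :=
    { b := h.btc
      c := c
      τ := τ
      SV := hSV
      SR := hSR
      QW := (hsemi i).2
      cenA := h.cen_A hcen hij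
      commV := fun s hs hsR x hx => h.comm_V S₁ hSV hSR hs hsR hx }
  obtain ⟨K, hKn, hK0, hAK, hodd, k, _, _, hk2, ⟨e⟩⟩ := rd.exists_comp rows hsec hq h.four
    (hl i j hij v w1 w2 t c τ S₁ hSV hSR)
  obtain ⟨𝒦, φ, kd⟩ := exists_kd_of_normal h.btc hij (hsemi i).2 hKn hK0 hAK hodd e
  exact ⟨i, j, k, _, 𝒦, φ, kd⟩

/-- **The node `LieBNP` for the strongly quasithin groups.** -/
theorem lieBNP (hsec : Quasithin.Sec.{u}) : LieBNP.{u} (fun G _ => Quasithin.StrQ G) := by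
  intro G _ _ hq S P g F _ _ _ M h hl hsemi hcen _
  exact Node.SQEnd.known_or h hsemi (rankOne hsec hq h hl hsemi hcen)

end Cfsg.Agent.Omega.SQEnd
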