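import Cfsg.Agent.Omega.SQK.Rank

/-!
# Three independent commuting elements of order `p` (helper912)
-/

set_option autoImplicit false

namespace Cfsg.Agent.Omega.SQEnd

open Cfsg Cfsg.Agent.Omega.SQK

/-- three independent commuting elements of order `p` -/
theorem not_prank_three {G : Type*} [Group G] {p : ℕ} (hp : p.Prime) {a b c : G} (ha : a ^ p = 1) (hb : b ^ p = 1)
    (hc : c ^ p = 1) (hab : a * b = b * a) (hac : a * c = c * a) (hbc : b * c = c * b)
    (h : ∀ m n k : ℕ, a ^ m * b ^ n * c ^ k = 1 → p ∣ m ∧ p ∣ n ∧ p ∣ k) : ¬ PRankLE p 2 G := by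
  have hf : Fact p.Prime := ⟨hp⟩
  have : NeZero p := ⟨hp.ne_zero⟩
  have hp' : ∀ i, (![a, b, c] : Fin 3 → G) i ^ p = 1 := by
    intro i
    fin_cases i
    · exact ha
    · exact hb
    · exact hc
  have hcm : ∀ i j, Commute ((![a, b, c] : Fin 3 → G) i) ((![a, b, c] : Fin 3 → G) j) := by
    intro i j
    fin_cases i <;> fin_cases j
    · exact Commute.refl a
    · exact hab
    · exact hac
    · exact hab.symm
    · exact Commute.refl b
    · exact hbc
    · exact hac.symm
    · exact hbc.symm
    · exact Commute.refl c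
  refine Rank.not_of_hom (V := Fin 3 → ZMod p) (Rank.homOf p ![a, b, c] hp' hcm) ?_ ?_ ?_
  · rw [injective_iff_map_eq_one]
    intro v hv
    have h1 := Rank.homOf_three p ![a, b, c] hp' hcm (Multiplicative.toAdd v)
    have h2 : Multiplicative.ofAdd (Multiplicative.toAdd v) = v := rfl
    rw [h2, hv] at h1
    obtain ⟨h3, h4, h5⟩ := h _ _ _ h1.symm
    have key : ∀ x : ZMod p, p ∣ x.val → x = 0 := by
      intro x hx
      have := Nat.eq_zero_of_dvd_of_lt hx (ZMod.val_lt x)
      exact (ZMod.val_eq_zero x).1 this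
    apply Multiplicative.toAdd.injective
    funext i
    fin_cases i
    · exact key _ h3
    · exact key _ h4
    · exact key _ h5
  · intro v
    funext i
    simp
  · rw [Nat.card_eq_fintype_card, Fintype.card_fun, ZMod.card]
    exact Nat.pow_lt_pow_right hp.one_lt (by simp)

end Cfsg.Agent.Omega.SQEnd
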