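import Cfsg.Agent.Omega.SQEnd.BAct
import Cfsg.Agent.Omega.SQEnd.RankThree
import Cfsg.Agent.Omega.Lie.End.OfLay
import Cfsg.Agent.Omega.Lie.End.AHat
import Cfsg.Agent.Omega.IIa4.CenA

/-!
# SQT, `b = 2`, `KD`: the component, abstract part (helper912)

`QD H⁰ S A T` : the situation in `H = N(R i) / O₂(N(R i))`.

* `QD.bact` : `BAct` for the moved components;
* `QD.false_of_pair` : `N_K(S ⊓ K)` does not contain `C_r × C_r` (`r ∣ |T|`), if `m_r(H) ≤ 2`;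
* `QD.unique` : there is at most one moved component, if they are of type `L₂`;
* `QD.exists_norm` : `¬ (Z1)` for the moved components (the other kill is in the real situation).
-/

set_option autoImplicit false

namespace Cfsg.Agent.Omega.SQEnd

open Subgroup Cfsg Cfsg.Agent.Omega.Lie Cfsg.Agent.Omega.Lie.End Cfsg.Agent.Omega.Lie.End.AHat
open Cfsg.Agent.SignalizersComponents.Components

variable {H : Type*} [Group H]

/-- the situation in `H = N(R i) / O₂(N(R i))` -/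
structure QD (H0 S A T : Subgroup H) : Prop extends AHat.Dat H0 S A T where
  sc : CompT.Scal A T
  su : OfLay.ScalU A T
  oddT : Odd (Nat.card T)
  three : 3 ≤ Nat.card T
  TH : ∀ t ∈ T, t ∈ H0 → t = 1
  bf : ∀ K, Mov A H0 K → ∀ x ∈ K, (∀ y ∈ S ⊓ K, x * y * x⁻¹ ∈ S ⊓ K) →
    (∀ a ∈ A, x * a * x⁻¹ ∈ A) ∧ ∀ t ∈ T, x⁻¹ * (t * x * t⁻¹) ∈ A

namespace QD

variable {H0 S A T K : Subgroup H} (d : QD H0 S A T)
include d

/-- `BAct` for the moved components -/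
theorem bact (hK : Mov A H0 K) : BAct (S.subgroupOf K) (OfLay.Tact T K) where
  toTAct := OfLay.tact (d.hyp K hK) hK.2.2 d.sc d.su d.oddT d.three
  B_A := by
    intro b hb a ha
    rw [OfLay.AT_eq (d.hyp K hK)] at ha ⊢
    have h1 := (d.bf K hK b b.2 fun y hy => ?_).1 a (mem_subgroupOf.1 ha).1
    · exact mem_subgroupOf.2 ⟨h1, (b * a * b⁻¹).2⟩
    · have h2 := (mem_normalizer_iff.1 hb ⟨y, hy.2⟩).1 (mem_subgroupOf.2 hy.1)
      exact ⟨mem_subgroupOf.1 h2, (b * ⟨y, hy.2⟩ * b⁻¹).2⟩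
  B_T := by
    intro b hb τ hτ
    obtain ⟨t, ht, -, h1⟩ := OfLay.mem_Tact.1 hτ
    rw [OfLay.AT_eq (d.hyp K hK)]
    have h3 := (d.bf K hK b b.2 fun y hy => ?_).2 t ht
    · rw [mem_subgroupOf]
      have e : ((b⁻¹ * τ b : K) : H) = (b : H)⁻¹ * (t * b * t⁻¹) := by rw [coe_mul, coe_inv, h1]
      refine ⟨?_, SetLike.coe_mem _⟩
      rw [e]; exact h3
    · have h2 := (mem_normalizer_iff.1 hb ⟨y, hy.2⟩).1 (mem_subgroupOf.2 hy.1)
      exact ⟨mem_subgroupOf.1 h2, (b * ⟨y, hy.2⟩ * b⁻¹).2⟩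

theorem exists_ne : ∃ t ∈ T, t ≠ 1 := by
  by_contra hcon
  push Not at hcon
  have h1 : T = ⊥ := eq_bot_iff.2 fun t ht => mem_bot.2 (hcon t ht)
  have h2 := d.three
  rw [h1, Subgroup.card_bot] at h2
  omega

/-- `C_A(T) = 1` -/
theorem fix_A {a : H} (ha : a ∈ A) (hT : ∀ t ∈ T, t * a = a * t) : a = 1 := by
  by_contra h
  obtain ⟨t, ht, ht1⟩ := d.exists_ne
  exact ht1 (d.sc.reg a ha h t ht (by rw [hT t ht, mul_inv_cancel_right]))

/-- lifting `x ∈ N_K(S ⊓ K)` to `C_K(T)` -/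
theorem lift [Finite H] (hK : Mov A H0 K) {x : H} (hx : x ∈ K) (hxN : ∀ y ∈ S ⊓ K, x * y * x⁻¹ ∈ S ⊓ K) :
    ∃ c ∈ K, x⁻¹ * c ∈ A ∧ ∀ t ∈ T, t * c = c * t := by
  have hh := d.hyp K hK
  obtain ⟨c, hc, hcT⟩ := IIa4.CenA.exists_cen_coset (T := T) (Y := A ⊓ K) d.sc.comm (by
      intro t ht
      rw [mem_normalizer_iff]
      intro a
      constructor
      · intro ha
        exact ⟨d.sc.norm t ht a ha.1, hh.TK t ht a ha.2⟩
      · intro ha
        have e : a = t⁻¹ * (t * a * t⁻¹) * t⁻¹⁻¹ := by group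
        rw [e]
        exact ⟨d.sc.norm t⁻¹ (inv_mem ht) _ ha.1, hh.TK t⁻¹ (inv_mem ht) _ ha.2⟩)
    (fun t ht => by
      have h1 : orderOf t ∣ Nat.card T := by
        have := orderOf_dvd_natCard (⟨t, ht⟩ : T)
        rwa [Subgroup.orderOf_mk] at this
      exact d.oddT.of_dvd_nat h1)
    ((hh.S2.to_le hh.AS).to_le inf_le_left) x (fun t ht =>
      ⟨(d.bf K hK x hx hxN).2 t ht, K.mul_mem (K.inv_mem hx) (hh.TK t ht x hx)⟩)
  refine ⟨c, ?_, hc.1, hcT⟩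
  have := mul_mem hx hc.2
  rwa [mul_inv_cancel_left] at this

/-- an element `t ∈ T` of prime order -/
theorem exists_prime [Finite H] : ∃ r : ℕ, r.Prime ∧ r ≠ 2 ∧ r ∣ Nat.card T ∧ ∃ t ∈ T, orderOf t = r := by
  have h3 := d.three
  obtain ⟨r, hr, hrd⟩ := Nat.exists_prime_and_dvd (n := Nat.card T) (by omega)
  have : Fact r.Prime := ⟨hr⟩
  obtain ⟨t, ht⟩ := exists_prime_orderOf_dvd_card' (G := T) r hrd
  refine ⟨r, hr, ?_, hrd, t, t.2, by rw [Subgroup.orderOf_coe]; exact ht⟩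
  rintro rfl
  exact (Nat.not_even_iff_odd.2 d.oddT) (even_iff_two_dvd.2 hrd)

omit d in
theorem dvd_of_pow {t : H} {r : ℕ} (h : orderOf t = r) {k : ℕ} (hk : t ^ k = 1) : r ∣ k :=
  h ▸ orderOf_dvd_of_pow_eq_one hk

/-- `N_K(S ⊓ K)` does not contain `C_r × C_r` for `r ∣ |T|` -/
theorem false_of_pair [Finite H] (hrk : ∀ r : ℕ, r.Prime → r ≠ 2 → PRankLE r 2 H) (hK : Mov A H0 K)
    (h : ∀ r : ℕ, r.Prime → r ∣ Nat.card T → ∃ x ∈ K, ∃ y ∈ K, (∀ z ∈ S ⊓ K, x * z * x⁻¹ ∈ S ⊓ K) ∧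
      (∀ z ∈ S ⊓ K, y * z * y⁻¹ ∈ S ⊓ K) ∧ x ^ r = 1 ∧ y ^ r = 1 ∧ x * y = y * x ∧
      ∀ m k : ℕ, x ^ m * y ^ k = 1 → r ∣ m ∧ r ∣ k) : False := by
  obtain ⟨r, hr, hr2, hrd, t, ht, hto⟩ := d.exists_prime
  obtain ⟨x, hx, y, hy, hxN, hyN, hxr, hyr, hxy, hind⟩ := h r hr hrd
  obtain ⟨c, hc, hcA, hcT⟩ := d.lift hK hx hxN
  obtain ⟨e, he, heA, heT⟩ := d.lift hK hy hyN
  have hxA : x ∈ normalizer (A : Set H) := by
    rw [mem_normalizer_iff]
    have h1 := (d.bf K hK x hx hxN).1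
    refine fun a => ⟨h1 a, fun ha => ?_⟩
    have h2 : ∀ n : ℕ, ∀ a ∈ A, x ^ n * a * (x ^ n)⁻¹ ∈ A := by
      intro n
      induction n with
      | zero => intro a ha; simpa using ha
      | succ n ih =>
        intro a ha
        have e : x ^ (n + 1) * a * (x ^ (n + 1))⁻¹ = x * (x ^ n * a * (x ^ n)⁻¹) * x⁻¹ := by
          rw [pow_succ']; group
        rw [e]; exact h1 _ (ih a ha)
    have h3 : x ^ (r - 1) = x⁻¹ := by
      rw [eq_inv_iff_mul_eq_one, ← pow_succ, Nat.sub_add_cancel hr.one_le, hxr]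
    have h4 := h2 (r - 1) _ ha
    rw [h3] at h4
    have e : x⁻¹ * (x * a * x⁻¹) * x⁻¹⁻¹ = a := by group
    rwa [e] at h4
  have hyA : y ∈ normalizer (A : Set H) := by
    rw [mem_normalizer_iff]
    have h1 := (d.bf K hK y hy hyN).1
    refine fun a => ⟨h1 a, fun ha => ?_⟩
    have h2 : ∀ n : ℕ, ∀ a ∈ A, y ^ n * a * (y ^ n)⁻¹ ∈ A := by
      intro n
      induction n with
      | zero => intro a ha; simpa using ha
      | succ n ih =>
        intro a ha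
        have e : y ^ (n + 1) * a * (y ^ (n + 1))⁻¹ = y * (y ^ n * a * (y ^ n)⁻¹) * y⁻¹ := by
          rw [pow_succ']; group
        rw [e]; exact h1 _ (ih a ha)
    have h3 : y ^ (r - 1) = y⁻¹ := by
      rw [eq_inv_iff_mul_eq_one, ← pow_succ, Nat.sub_add_cancel hr.one_le, hyr]
    have h4 := h2 (r - 1) _ ha
    rw [h3] at h4
    have e : y⁻¹ * (y * a * y⁻¹) * y⁻¹⁻¹ = a := by group
    rwa [e] at h4
  have hcN : c ∈ normalizer (A : Set H) := by
    have := mul_mem hxA (le_normalizer hcA)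
    rwa [mul_inv_cancel_left] at this
  have heN : e ∈ normalizer (A : Set H) := by
    have := mul_mem hyA (le_normalizer heA)
    rwa [mul_inv_cancel_left] at this
  -- the quotient modulo `A`
  let N : Subgroup H := normalizer (A : Set H)
  let A' : Subgroup N := A.subgroupOf N
  have hA'n : A'.Normal := normal_in_normalizer
  let q : N →* N ⧸ A' := QuotientGroup.mk' A'
  have hq : ∀ z : N, q z = 1 ↔ (z : H) ∈ A := by
    intro z
    change (z : N ⧸ A') = 1 ↔ _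
    rw [QuotientGroup.eq_one_iff]
    exact mem_subgroupOf
  have hqc : q ⟨c, hcN⟩ = q ⟨x, hxA⟩ := by
    have h1 : q (⟨x, hxA⟩⁻¹ * ⟨c, hcN⟩) = 1 := (hq _).2 hcA
    rw [map_mul, map_inv, inv_mul_eq_one] at h1
    exact h1.symm
  have hqe : q ⟨e, heN⟩ = q ⟨y, hyA⟩ := by
    have h1 : q (⟨y, hyA⟩⁻¹ * ⟨e, heN⟩) = 1 := (hq _).2 heA
    rw [map_mul, map_inv, inv_mul_eq_one] at h1
    exact h1.symm
  have hcr : c ^ r = 1 := by
    refine d.fix_A ?_ fun s hs => ((show Commute s c from hcT s hs).pow_right r)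
    have h1 : q (⟨c, hcN⟩ ^ r) = 1 := by
      rw [map_pow, hqc, ← map_pow]
      have : (⟨x, hxA⟩ : N) ^ r = 1 := Subtype.ext hxr
      rw [this, map_one]
    exact (hq _).1 h1
  have her : e ^ r = 1 := by
    refine d.fix_A ?_ fun s hs => ((show Commute s e from heT s hs).pow_right r)
    have h1 : q (⟨e, heN⟩ ^ r) = 1 := by
      rw [map_pow, hqe, ← map_pow]
      have : (⟨y, hyA⟩ : N) ^ r = 1 := Subtype.ext hyr
      rw [this, map_one]
    exact (hq _).1 h1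
  have hce : c * e = e * c := by
    have h1 : c * e * (e * c)⁻¹ = 1 := by
      refine d.fix_A ?_ fun s hs => ?_
      · have h2 : q (⟨c, hcN⟩ * ⟨e, heN⟩ * (⟨e, heN⟩ * ⟨c, hcN⟩)⁻¹) = 1 := by
          rw [map_mul, map_inv, map_mul, map_mul, hqc, hqe, ← map_mul, ← map_mul]
          have : (⟨x, hxA⟩ : N) * ⟨y, hyA⟩ = ⟨y, hyA⟩ * ⟨x, hxA⟩ := Subtype.ext hxy
          rw [this, mul_inv_cancel]
        exact (hq _).1 h2
      · have h2 : Commute s c := hcT s hs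
        have h3 : Commute s e := heT s hs
        exact (h2.mul_right h3).mul_right (h3.mul_right h2).inv_right
    exact mul_inv_eq_one.1 h1
  refine not_prank_three hr hcr her (c := t) (by rw [← hto]; exact pow_orderOf_eq_one t) hce
    (hcT t ht).symm (heT t ht).symm (fun m n k hmn => ?_) (hrk r hr hr2)
  have htk : t ^ k = 1 := by
    refine d.TH _ (pow_mem ht k) ?_
    have h1 : t ^ k = (c ^ m * e ^ n)⁻¹ := eq_inv_of_mul_eq_one_right hmn
    rw [h1]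
    exact inv_mem (mul_mem (pow_mem (hK.2.1 hc) m) (pow_mem (hK.2.1 he) n))
  rw [htk, mul_one] at hmn
  have hmem : x ^ m * y ^ n ∈ A := by
    have h1 : q (⟨x, hxA⟩ ^ m * ⟨y, hyA⟩ ^ n) = 1 := by
      rw [map_mul, map_pow, map_pow, ← hqc, ← hqe, ← map_pow, ← map_pow, ← map_mul]
      have : (⟨c, hcN⟩ : N) ^ m * ⟨e, heN⟩ ^ n = 1 := Subtype.ext hmn
      rw [this, map_one]
    exact (hq _).1 h1
  have h1 : x ^ m * y ^ n = 1 := by
    set w := x ^ m * y ^ n with hw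
    have hw2 : w ^ 2 = 1 := by rw [pow_two]; exact d.sq w hmem
    have hwr : w ^ r = 1 := by
      have hcm : Commute (x ^ m) (y ^ n) := (show Commute x y from hxy).pow_pow m n
      rw [hw, hcm.mul_pow, ← pow_mul, ← pow_mul, mul_comm m, mul_comm n, pow_mul, pow_mul, hxr, hyr, one_pow,
        one_pow, one_mul]
    have hcop : Nat.Coprime 2 r := (Nat.coprime_primes Nat.prime_two hr).2 (Ne.symm hr2)
    have := Nat.dvd_gcd (orderOf_dvd_of_pow_eq_one hw2) (orderOf_dvd_of_pow_eq_one hwr)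
    rw [hcop] at this
    exact orderOf_eq_one_iff.1 (Nat.dvd_one.1 this)
  obtain ⟨h2, h3⟩ := hind m n h1
  exact ⟨h2, h3, dvd_of_pow hto htk⟩

/-- the order of the lift -/
theorem exists_fixed [Finite H] (hK : Mov A H0 K) {r : ℕ} (hr : r.Prime) (hr2 : r ≠ 2) {x : H} (hx : x ∈ K)
    (hxN : ∀ y ∈ S ⊓ K, x * y * x⁻¹ ∈ S ⊓ K) (hxo : orderOf x = r) :
    ∃ c ∈ K, orderOf c = r ∧ ∀ t ∈ T, t * c = c * t := by
  obtain ⟨c, hc, hcA, hcT⟩ := d.lift hK hx hxN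
  refine ⟨c, hc, ?_, hcT⟩
  have hxr : x ^ r = 1 := by rw [← hxo]; exact pow_orderOf_eq_one x
  have hbf := (d.bf K hK x hx hxN).1
  -- `(x a)^n ∈ x^n A`
  have hpow : ∀ n : ℕ, (x ^ n)⁻¹ * c ^ n ∈ A := by
    have h2 : ∀ n : ℕ, ∀ a ∈ A, x ^ n * a * (x ^ n)⁻¹ ∈ A := by
      intro n
      induction n with
      | zero => intro a ha; simpa using ha
      | succ n ih =>
        intro a ha
        have e : x ^ (n + 1) * a * (x ^ (n + 1))⁻¹ = x * (x ^ n * a * (x ^ n)⁻¹) * x⁻¹ := by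
          rw [pow_succ']; group
        rw [e]; exact hbf _ (ih a ha)
    have h3 : ∀ a ∈ A, x⁻¹ * a * x ∈ A := by
      intro a ha
      have h4 : x ^ (r - 1) = x⁻¹ := by
        rw [eq_inv_iff_mul_eq_one, ← pow_succ, Nat.sub_add_cancel hr.one_le, hxr]
      have h5 := h2 (r - 1) a ha
      rwa [h4, inv_inv] at h5
    intro n
    induction n with
    | zero => simp
    | succ n ih =>
      have e : (x ^ (n + 1))⁻¹ * c ^ (n + 1) = x⁻¹ * ((x ^ n)⁻¹ * c ^ n) * x * (x⁻¹ * c) := by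
        rw [pow_succ, pow_succ]; group
      rw [e]
      exact mul_mem (h3 _ ih) hcA
  have hcr : c ^ r = 1 := by
    refine d.fix_A ?_ fun s hs => ((show Commute s c from hcT s hs).pow_right r)
    have := hpow r
    rwa [hxr, inv_one, one_mul] at this
  rcases (Nat.dvd_prime hr).1 (orderOf_dvd_of_pow_eq_one hcr) with h1 | h1
  · exfalso
    rw [orderOf_eq_one_iff] at h1
    rw [h1, mul_one] at hcA
    have h2 : x⁻¹ = 1 := by
      have h3 := d.sq _ hcA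
      have h4 : (x⁻¹) ^ r = 1 := by rw [inv_pow, hxr, inv_one]
      have hcop : Nat.Coprime 2 r := (Nat.coprime_primes Nat.prime_two hr).2 (Ne.symm hr2)
      have := Nat.dvd_gcd (orderOf_dvd_of_pow_eq_one (show x⁻¹ ^ 2 = 1 by rw [pow_two]; exact h3))
        (orderOf_dvd_of_pow_eq_one h4)
      rw [hcop] at this
      exact orderOf_eq_one_iff.1 (Nat.dvd_one.1 this)
    rw [inv_eq_one] at h2
    rw [h2, orderOf_one] at hxo
    exact hr.one_lt.ne hxo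
  · exact h1

/-- **uniqueness of the moved component of type `L₂`** -/
theorem unique [Finite H] (hrk : ∀ r : ℕ, r.Prime → r ≠ 2 → PRankLE r 2 H)
    (h : ∀ K, Mov A H0 K → center K = ⊥ ∧ ∀ r : ℕ, r.Prime → r ∣ Nat.card T →
      ∃ x ∈ K, (∀ y ∈ S ⊓ K, x * y * x⁻¹ ∈ S ⊓ K) ∧ orderOf x = r) {L : Subgroup H}
    (hK : Mov A H0 K) (hL : Mov A H0 L) : K = L := by
  by_contra hne
  obtain ⟨r, hr, hr2, hrd, t, ht, hto⟩ := d.exists_prime
  obtain ⟨x, hx, hxN, hxo⟩ := (h K hK).2 r hr hrd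
  obtain ⟨y, hy, hyN, hyo⟩ := (h L hL).2 r hr hrd
  obtain ⟨c, hc, hco, hcT⟩ := d.exists_fixed hK hr hr2 hx hxN hxo
  obtain ⟨e, he, heo, heT⟩ := d.exists_fixed hL hr hr2 hy hyN hyo
  have hKL := component_le_centralizer_of_ne hK.1 hL.1 hne
  have hce : c * e = e * c := ((mem_centralizer_iff.1 (hKL hc)) e he).symm
  refine not_prank_three hr (a := c) (b := e) (c := t) (by rw [← hco]; exact pow_orderOf_eq_one c)
    (by rw [← heo]; exact pow_orderOf_eq_one e) (by rw [← hto]; exact pow_orderOf_eq_one t) hce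
    (hcT t ht).symm (heT t ht).symm (fun m n k hmn => ?_) (hrk r hr hr2)
  have htk : t ^ k = 1 := by
    refine d.TH _ (pow_mem ht k) ?_
    have h1 : t ^ k = (c ^ m * e ^ n)⁻¹ := eq_inv_of_mul_eq_one_right hmn
    rw [h1]
    exact inv_mem (mul_mem (pow_mem (hK.2.1 hc) m) (pow_mem (hL.2.1 he) n))
  rw [htk, mul_one] at hmn
  have hcm : c ^ m = 1 := by
    have h1 : (⟨c ^ m, pow_mem hc m⟩ : K) ∈ center K := by
      rw [mem_center_iff]
      intro z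
      apply Subtype.ext
      change (z : H) * c ^ m = c ^ m * z
      have h2 : c ^ m = (e ^ n)⁻¹ := eq_inv_of_mul_eq_one_left hmn
      rw [h2]
      have h3 := mem_centralizer_iff.1 (hKL z.2) (e ^ n)⁻¹ (inv_mem (pow_mem he n))
      exact h3.symm
    rw [(h K hK).1, mem_bot] at h1
    exact congrArg Subtype.val h1
  rw [hcm, one_mul] at hmn
  exact ⟨dvd_of_pow hco hcm, dvd_of_pow heo hmn, dvd_of_pow hto htk⟩

/-- `(Z1)` for one moved component gives `(Z1)` for the elements of `⟨A^H⟩` -/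
theorem exists_norm [Finite H] (hK : Mov A H0 K)
    (hz : ∀ k ∈ K, ∃ a ∈ A ⊓ K, a ≠ 1 ∧ ∀ b ∈ A ⊓ K, k⁻¹ * (a * (k * b * k⁻¹) * a⁻¹) * k ∈ A ⊓ K) {g : H}
    (hg : g ∈ normalClosure (A : Set H)) : ∃ a ∈ A, a ≠ 1 ∧ ∀ b ∈ A, g⁻¹ * (a * (g * b * g⁻¹) * a⁻¹) * g ∈ A := by
  -- `⟨A^H⟩ ≤ K C(K)`
  have h1 : g ∈ K ⊔ centralizer (K : Set H) := by
    refine (d.nc_le_layer.trans ?_) hg
    rw [layer_le_iff]
    intro L hL
    by_cases hLK : L = K
    · rw [hLK]; exact le_sup_left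
    · exact (component_le_centralizer_of_ne hL hK.1 hLK).trans le_sup_right
  have hCn : centralizer (K : Set H) ≤ normalizer (K : Set H) := centralizer_le_normalizer _
  rw [sup_comm, ← SetLike.mem_coe, coe_mul_of_left_le_normalizer_right _ _ hCn] at h1
  obtain ⟨c, hc, k, hk, rfl⟩ := h1
  have hc' : ∀ x ∈ K, c * x = x * c := fun x hx => (mem_centralizer_iff.1 hc x hx).symm
  obtain ⟨a, ha, ha1, hab⟩ := hz k hk
  refine ⟨a, ha.1, ha1, fun b hb => ?_⟩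
  obtain ⟨b₁, hb₁, b₂, hb₂, hb₂c, rfl⟩ := (d.hyp K hK).decomp hb
  have hk' := hc' k hk
  have e1 : (c * k)⁻¹ * (a * (c * k * (b₁ * b₂) * (c * k)⁻¹) * a⁻¹) * (c * k) =
      (k⁻¹ * (a * (k * b₁ * k⁻¹) * a⁻¹) * k) * b₂ := by
    have h2 : c⁻¹ * a = a * c⁻¹ := by
      have := hc' a ha.2
      rw [inv_mul_eq_iff_eq_mul, ← mul_assoc, this, mul_inv_cancel_right]
    have h3 : b₂ * k⁻¹ = k⁻¹ * b₂ := by
      have := hb₂c k hk
      rw [eq_inv_mul_iff_mul_eq, ← mul_assoc, ← this, mul_inv_cancel_right]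
    have h4 : b₂ * a⁻¹ = a⁻¹ * b₂ := by
      have := hb₂c a ha.2
      rw [eq_inv_mul_iff_mul_eq, ← mul_assoc, ← this, mul_inv_cancel_right]
    calc (c * k)⁻¹ * (a * (c * k * (b₁ * b₂) * (c * k)⁻¹) * a⁻¹) * (c * k)
        = k⁻¹ * ((c⁻¹ * a) * c) * k * b₁ * (b₂ * k⁻¹) * (c⁻¹ * (a⁻¹ * c)) * k := by group
      _ = k⁻¹ * ((a * c⁻¹) * c) * k * b₁ * (k⁻¹ * b₂) * (c⁻¹ * (a⁻¹ * c)) * k := by rw [h2, h3]
      _ = k⁻¹ * a * k * b₁ * k⁻¹ * b₂ * (c⁻¹ * (a⁻¹ * c)) * k := by group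
      _ = k⁻¹ * a * k * b₁ * k⁻¹ * b₂ * (c⁻¹ * (c * a⁻¹)) * k := by
          have := hc' a⁻¹ (inv_mem ha.2)
          rw [this]
      _ = k⁻¹ * a * k * b₁ * k⁻¹ * (b₂ * a⁻¹) * k := by group
      _ = k⁻¹ * a * k * b₁ * k⁻¹ * a⁻¹ * (b₂ * k) := by rw [h4]; group
      _ = k⁻¹ * a * k * b₁ * k⁻¹ * a⁻¹ * (k * b₂) := by rw [hb₂c k hk]
      _ = _ := by group
  rw [e1]
  exact mul_mem (hab b₁ hb₁).1 hb₂

end QD

end Cfsg.Agent.Omega.SQEnd
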