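import Cfsg.Agent.Omega.SQEnd.KQReal
import Cfsg.Agent.Omega.SQEnd.KQTab
import Cfsg.Agent.Omega.Quasithin.Rows
import Cfsg.Agent.Omega.Sec.Reduce
import Cfsg.Agent.Omega.BTwo.Cz

/-!
# SQT, `b = 2`, `KD`: the component is `SL₂(k)` and normal (helper912)

`exists_comp` : in the situation `RD` with `Lay` and `m_p(G) ≤ 2` for all odd `p`: there is a normal subgroup
`K ≅ SL₂(k)` of `H = N(R i)/O₂(N(R i))` with `A ≤ K ≤ H⁰`, `|K : A|` odd.
-/

set_option autoImplicit false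
set_option linter.unusedSectionVars false

namespace Cfsg.Agent.Omega.SQEnd

open Subgroup Cfsg Cfsg.Agent.Omega.BTwo Cfsg.Agent.Omega.Lie Cfsg.Agent.Omega.Lie.Quot
open Cfsg.Agent.Omega.Lie.End Cfsg.Agent.Omega.Lie.End.AHat

universe u v w

/-- the rows of the table -/
structure KQRows : Prop where
  two : RowLTwo.{u}
  three : RowLThree.{u}
  four : RowSpFour.{u}
  sl : ∀ (Y : Type u) [Group Y], YSL Y → DeadB Y
  su : ∀ (Y : Type u) [Group Y], YU Y → DeadB Y
  g2 : ∀ (Y : Type u) [Group Y], YG Y → DeadB Y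
  d4 : ∀ (Y : Type u) [Group Y], YD Y → DeadB Y
  sz : ∀ (Y : Type u) [Group Y], Lie.IsoSuzuki Y → DeadB Y
  f4 : ∀ (Y : Type u) [Group Y], Lie.Iso2F4 Y → DeadB Y

section abs

variable {H : Type u} [Group H] [Finite H] {H0 S A T K : Subgroup H}

theorem not_comm_quot {K : Type*} [Group K] (hK : IsQuasisimple K) : ¬ IsMulCommutative (K ⧸ center K) := by
  intro h
  have h1 : _root_.commutator (K ⧸ center K) = ⊥ := by
    rw [_root_.commutator_def, eq_bot_iff, commutator_le]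
    intro x _ y _
    rw [mem_bot, commutatorElement_eq_one_iff_mul_comm]
    exact h.is_comm.comm x y
  have h2 : _root_.commutator (K ⧸ center K) = ⊤ := by
    have h3 : (_root_.commutator K).map (QuotientGroup.mk' (center K)) = _root_.commutator (K ⧸ center K) := by
      rw [_root_.commutator_def, _root_.commutator_def, map_commutator, ← MonoidHom.range_eq_map,
        MonoidHom.range_eq_top.2 (QuotientGroup.mk'_surjective _)]
    rw [← h3, hK.1.commutator_eq_top, ← MonoidHom.range_eq_map, MonoidHom.range_eq_top.2 (QuotientGroup.mk'_surjective _)]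
  have h3 := hK.2
  have h4 : Nontrivial (K ⧸ center K) := h3.toNontrivial
  exact absurd (h1.symm.trans h2) bot_ne_top

variable (d : QD H0 S A T)
include d

theorem QD.cov (hK : Mov A H0 K) {Y : Type*} [Group Y] (e : Nonempty (K ⧸ center K ≃* Y)) : Cov K Y where
  perf := hK.1.2.1.commutator_eq_top
  odd := OfLay.odd_center d.O2 hK.1
  iso := e

/-- `K` is a component of type `L₂` -/
def IsTwo (S T K : Subgroup H) : Prop :=
  ∃ (F : Type) (_ : Field F) (_ : Fintype F) (n : ℕ), 2 ≤ n ∧ Fintype.card F = 2 ^ n ∧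
    Nonempty (K ≃* Matrix.SpecialLinearGroup (Fin 2) F) ∧
    S.subgroupOf K ≤ AT (S.subgroupOf K) (OfLay.Tact T K) ∧ center K = ⊥ ∧
    ∀ r : ℕ, r.Prime → r ∣ Nat.card T → ∃ x ∈ K, (∀ y ∈ S ⊓ K, x * y * x⁻¹ ∈ S ⊓ K) ∧ orderOf x = r

omit d in
theorem norm_inf {K : Subgroup H} {x : K} (hx : x ∈ normalizer ((S.subgroupOf K : Subgroup K) : Set K)) :
    ∀ y ∈ S ⊓ K, (x : H) * y * (x : H)⁻¹ ∈ S ⊓ K := by
  intro y hy
  have h1 := (mem_normalizer_iff.1 hx ⟨y, hy.2⟩).1 (mem_subgroupOf.2 hy.1)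
  exact ⟨mem_subgroupOf.1 h1, (x * ⟨y, hy.2⟩ * x⁻¹).2⟩

/-- the trichotomy -/
theorem QD.cases (R : KQRows.{u}) (hsec : Quasithin.Sec.{u})
    (hrk : ∀ r : ℕ, r.Prime → r ≠ 2 → PRankLE r 2 H) (hlie : ∀ K, Mov A H0 K → IsLieTypeChar 2 (K ⧸ center K))
    (hK : Mov A H0 K) : IsTwo S T K ∨
      ∀ k ∈ K, ∃ a ∈ A ⊓ K, a ≠ 1 ∧ ∀ b ∈ A ⊓ K, k⁻¹ * (a * (k * b * k⁻¹) * a⁻¹) * k ∈ A ⊓ K := by
  have hb := d.bact hK
  obtain ⟨P, hP⟩ := OfLay.exists_sylow (d.hyp K hK).toPre
  rw [← hP] at hb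
  have hsim : IsSimpleGroup (K ⧸ center K) := hK.1.2.2
  have hstr : ∀ p, p.Prime → p ≠ 2 → PRankLE p 2 (K ⧸ center K) := by
    intro p hp hp2
    have : Fact p.Prime := ⟨hp⟩
    exact hsec p hp2 K (center K) (Quasithin.prankLE_subgroup (hrk p hp hp2) K) hsim (not_comm_quot hK.1.2)
  have hAT := OfLay.AT_eq (d.hyp K hK)
  have hcT := OfLay.card_Tact (d.hyp K hK) hK.2.2 d.sc
  have hdead : DeadB (K ⧸ center K) → False := fun h => h K (d.cov hK ⟨MulEquiv.refl _⟩) P _ hb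
  rcases list_two (hlie K hK) hstr with h | h | h | h | h | h | h | h | h
  · left
    obtain ⟨F, _, _, n, hn, hF, he⟩ := h
    obtain ⟨he', h2, h3⟩ := R.two K F n hn hF (d.cov hK he) P _ hb
    refine ⟨F, _, _, n, hn, hF, he', hP ▸ h2, ?_, fun r hr hrd => ?_⟩
    · obtain ⟨e⟩ := he'
      have h2F : CharP F 2 := by
        obtain ⟨p, hp⟩ := CharP.exists F
        obtain ⟨a, hpp, ha⟩ := FiniteField.card F p
        rw [hF] at ha
        have : p ∣ 2 ^ n := by rw [ha]; exact dvd_pow_self p a.ne_zero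
        have h5 := (Nat.prime_dvd_prime_iff_eq hpp Nat.prime_two).1 (hpp.dvd_of_dvd_pow this)
        rwa [h5] at hp
      rw [eq_bot_iff]
      intro z hz
      have h4 : e z ∈ center (Matrix.SpecialLinearGroup (Fin 2) F) := by
        rw [mem_center_iff] at hz ⊢
        intro y
        obtain ⟨x, rfl⟩ := e.surjective y
        rw [← map_mul, ← map_mul, hz]
      rw [Matrix.SpecialLinearGroup.mem_center_iff] at h4
      obtain ⟨c, hc, hcz⟩ := h4
      rw [Fintype.card_fin] at hc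
      have hc1 : c = 1 := by
        have h5 : (c - 1) ^ 2 = 0 := by
          rw [sub_pow_char (R := F) (p := 2) c 1, hc, one_pow, sub_self]
        exact sub_eq_zero.1 ((pow_eq_zero_iff two_ne_zero).1 h5)
      rw [mem_bot]
      apply e.injective
      rw [map_one]
      apply Subtype.ext
      rw [← hcz, hc1]
      simp
    · obtain ⟨x, hx, hxo⟩ := h3 r hr (by rw [hcT]; exact hrd)
      rw [hP] at hx
      exact ⟨x, x.2, norm_inf hx, by rw [Subgroup.orderOf_coe]; exact hxo⟩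
  · right
    obtain ⟨F, _, _, n, hn, hF, he⟩ := h
    have h1 := R.three K F n hn hF (d.cov hK he) P _ hb
    rw [hP, hAT] at h1
    intro k hk
    obtain ⟨a, ha, ha1, hab⟩ := h1 ⟨k, hk⟩
    refine ⟨a, mem_subgroupOf.1 ha, fun h0 => ha1 (Subtype.ext h0), fun b hbA => ?_⟩
    exact mem_subgroupOf.1 (hab ⟨b, hbA.2⟩ (mem_subgroupOf.2 hbA))
  · exfalso
    obtain ⟨F, _, _, n, hn, hF, he⟩ := h
    have h1 := R.four K F n hn hF (d.cov hK he) P _ hb
    refine d.false_of_pair hrk hK fun r hr hrd => ?_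
    obtain ⟨x, hx, y, hy, hxr, hyr, hxy, hind⟩ := h1 r hr (by rw [hcT]; exact hrd)
    rw [hP] at hx hy
    refine ⟨x, x.2, y, y.2, norm_inf hx, norm_inf hy, ?_, ?_, ?_, fun m k hmk => hind m k (Subtype.ext ?_)⟩
    · exact congrArg Subtype.val hxr
    · exact congrArg Subtype.val hyr
    · exact congrArg Subtype.val hxy
    · exact hmk
  · exact absurd (hdead (R.sl _ h)) id
  · exact absurd (hdead (R.su _ h)) id
  · exact absurd (hdead (R.g2 _ h)) id
  · exact absurd (hdead (R.d4 _ h)) id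
  · exact absurd (hdead (R.sz _ h)) id
  · exact absurd (hdead (R.f4 _ h)) id

end abs

section real

variable {G : Type u} [Group G] [Finite G] {ι : Type w} {F : Type v} [Field F] [Finite F] [CharP F 2]
  {V : Subgroup G} {R : ι → Subgroup G} {i j : ι} {v : F → F → G} {w1 w2 t : F → G} {S₁ : Sylow 2 G}

omit [Finite F] [CharP F 2] in
theorem prank_HQ {r : ℕ} (hr : r.Prime) (hr2 : r ≠ 2) (R₀ : Subgroup G) (h : PRankLE r 2 G) :
    PRankLE r 2 (HQ R₀) := by
  have : Fact r.Prime := ⟨hr⟩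
  have h2 : Fact (Nat.Prime 2) := ⟨Nat.prime_two⟩
  refine Sec.Reduce.prankLE_quotient _ ?_ (Quasithin.prankLE_subgroup h _)
  obtain ⟨n, hn⟩ := IsPGroup.iff_card.1 (Lib.Cores.pCore_isPGroup (p := 2) (G := ↥(normalizer (R₀ : Set G))))
  rw [hn]
  exact Nat.Coprime.pow_left n ((Nat.coprime_primes Nat.prime_two hr).2 (Ne.symm hr2))

/-- **the component** -/
theorem RD.exists_comp (Rw : KQRows.{u}) (hsec : Quasithin.Sec.{u}) (h : RD V R i j v w1 w2 t S₁)
    (hq : ∀ r : ℕ, r.Prime → r ≠ 2 → PRankLE r 2 G) (h4 : 4 ≤ Nat.card F)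
    (l : IIa4.Lay V R i j (TT h.τ) (SS R i S₁)) :
    ∃ K : Subgroup (HQ (R i)), K.Normal ∧ K ≤ H0 R i ∧ AA V R i j ≤ K ∧ Odd ((AA V R i j).relIndex K) ∧
      ∃ (k : Type) (_ : Field k) (_ : Finite k), CharP k 2 ∧
        Nonempty (K ≃* Matrix.SpecialLinearGroup (Fin 2) k) := by
  have d := h.qd h4 l
  have hrk : ∀ r : ℕ, r.Prime → r ≠ 2 → PRankLE r 2 (HQ (R i)) := fun r hr hr2 => prank_HQ hr hr2 _ (hq r hr hr2)
  have hlie : ∀ K, Mov (AA V R i j) (H0 R i) K → IsLieTypeChar 2 (K ⧸ center K) := fun K hK => l.lie K hK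
  have htwo : ∀ K, Mov (AA V R i j) (H0 R i) K → IsTwo (SS R i S₁) (TT h.τ) K := by
    intro K hK
    rcases d.cases Rw hsec hrk hlie hK with h1 | h1
    · exact h1
    · exact absurd (h.false_of_norm fun g hg => d.exists_norm hK h1 hg) id
  -- uniqueness
  have huniq : ∀ K L, Mov (AA V R i j) (H0 R i) K → Mov (AA V R i j) (H0 R i) L → K = L := by
    intro K L hK hL
    refine d.unique hrk (fun K hK => ?_) hK hL
    obtain ⟨_, _, _, n, hn, hF, -, -, h2, h3⟩ := htwo K hK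
    exact ⟨h2, h3⟩
  -- existence
  have hne : AA V R i j ≠ ⊥ := by
    intro h0
    refine Cz.not_UU_le h.b S₁ h.c.ne h.SV h.SR fun u hu => ?_
    have h1 : pr (R i) ⟨u, U_le_N h.b.toBT i j hu⟩ ∈ AA V R i j := pr_mem_im _ hu
    rw [h0, mem_bot, pr_eq_one, U_inf_Q h.b.toBT h.c.ne hu] at h1
    exact h1
  obtain ⟨K, hK⟩ : ∃ K, Mov (AA V R i j) (H0 R i) K := by
    by_contra hcon
    push Not at hcon
    apply hne
    rw [eq_bot_iff]
    refine d.A_le_iSup.trans (iSup₂_le fun K hK => ?_)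
    exact absurd hK (hcon K)
  have hAK : AA V R i j ≤ K := by
    refine d.A_le_iSup.trans (iSup₂_le fun L hL => ?_)
    rw [huniq L K hL hK]
    exact inf_le_right
  obtain ⟨k, _, _, n, hn, hF, he, hSA, hZ, hrs⟩ := htwo K hK
  refine ⟨K, ?_, hK.2.1, hAK, ?_, k, inferInstance, inferInstance, ?_, he⟩
  · constructor
    intro x hx g
    obtain ⟨y, hy, m, hm, rfl⟩ := h.fac g
    have h1 : cg m K = K := huniq _ _ (hK.conj d.norm hm) hK
    have h2 : m * x * m⁻¹ ∈ K := by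
      rw [← h1]
      exact ⟨x, hx, rfl⟩
    have h3 := d.nc_norm hK.1 hy
    have e : y * m * x * (y * m)⁻¹ = y * (m * x * m⁻¹) * y⁻¹ := by group
    rw [e]
    exact (mem_normalizer_iff.1 h3 _).1 h2
  · obtain ⟨P, hP⟩ := OfLay.exists_sylow (d.hyp K hK).toPre
    have h1 : (AA V R i j).subgroupOf K = (P : Subgroup K) := by
      refine le_antisymm ?_ ?_
      · rw [hP]
        intro x hx
        exact mem_subgroupOf.2 ((d.hyp K hK).AS (mem_subgroupOf.1 hx))
      · rw [hP]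
        refine hSA.trans ?_
        rw [OfLay.AT_eq (d.hyp K hK)]
        intro x hx
        exact mem_subgroupOf.2 (mem_subgroupOf.1 hx).1
    have h2 : Fact (Nat.Prime 2) := ⟨Nat.prime_two⟩
    rw [relIndex, h1, ← Nat.not_even_iff_odd, even_iff_two_dvd]
    exact P.not_dvd_index
  · obtain ⟨p, hp⟩ := CharP.exists k
    obtain ⟨a, hpp, ha⟩ := FiniteField.card k p
    rw [hF] at ha
    have : p ∣ 2 ^ n := by rw [ha]; exact dvd_pow_self p a.ne_zero
    have h5 := (Nat.prime_dvd_prime_iff_eq hpp Nat.prime_two).1 (hpp.dvd_of_dvd_pow this)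
    rwa [h5] at hp

end real

end Cfsg.Agent.Omega.SQEnd
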