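import Cfsg.Agent.Omega.SQEnd.KQAbs
import Cfsg.Agent.Omega.Lie.End.ZeroTor
import Cfsg.Agent.Omega.BTwo.XMod

/-!
# SQT, `b = 2`, `KD`: the component, the real situation (helper912)

`RD V R i j v w1 w2 t S₁` : `BTC`, coordinates, torus, a Sylow 2-subgroup in `N(V) ∩ N(R i)`, LEMMA CA (helper988).

* `RD.norm_V` : an element of `C(R i)` whose image normalises `S ⊓ K` (`K` a moved component) normalises `V`;
* `RD.qd` : `QD (H0 R i) (SS R i S₁) (AA V R i j) (TT τ)`;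
* `RD.false_of_norm` : if for every `g ∈ ⟨A^H⟩` some `1 ≠ a ∈ A` normalises `A^g`, contradiction;
* `RD.fac` : `H = ⟨A^H⟩ N_H(A)`.
-/

set_option autoImplicit false
set_option linter.unusedSectionVars false

namespace Cfsg.Agent.Omega.SQEnd

open Subgroup Cfsg Cfsg.Agent.Omega.BTwo Cfsg.Agent.Omega.Lie Cfsg.Agent.Omega.Lie.Quot
open Cfsg.Agent.Omega.Lie.End Cfsg.Agent.Omega.Lie.End.AHat

universe u v w

variable {G : Type u} [Group G] {ι : Type w} {F : Type v} [Field F] {V : Subgroup G} {R : ι → Subgroup G}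
  {i j : ι} {v : F → F → G} {w1 w2 t : F → G} {S₁ : Sylow 2 G}

/-- the real situation -/
structure RD (V : Subgroup G) (R : ι → Subgroup G) (i j : ι) (v : F → F → G) (w1 w2 t : F → G) (S₁ : Sylow 2 G) :
    Prop where
  b : BTC V R
  c : Coord V R i j v w1 w2
  τ : TorD V R i j v t
  SV : (S₁ : Subgroup G) ≤ normalizer (V : Set G)
  SR : (S₁ : Subgroup G) ≤ normalizer (R i : Set G)
  QW : QQ (R i) = WW V (R i)
  cenA : ∀ x ∈ WW V (R i), (∀ u ∈ UU V R j, u * x * u⁻¹ * x⁻¹ ∈ R i) → x ∈ V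
  commV : ∀ s ∈ (S₁ : Subgroup G), s ∈ centralizer (R i : Set G) → ∀ x ∈ V, s * x * s⁻¹ * x⁻¹ ∈ R i

namespace RD

variable (h : RD V R i j v w1 w2 t S₁)
include h

/-- `im Y = A` -/
theorem pr_Y {y : G} (hy : y ∈ YY V R) (hN : y ∈ normalizer (R i : Set G)) : pr (R i) ⟨y, hN⟩ ∈ AA V R i j := by
  have h1 : im (R i) (YY V R) = AA V R i j := by
    rw [h.b.Y_eq h.c.ne, im_sup (U_le_N h.b.toBT i i) (U_le_N h.b.toBT i j),
      im_eq_bot ((UU_le_WW i).trans (h.b.W_le_Q i)), bot_sup_eq]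
    rfl
  rw [← h1]
  exact pr_mem_im hN hy

/-- `N(V) ∩ N(R i)` normalises `A` -/
theorem conj_A {g : G} (hg : g ∈ normalizer (R i : Set G)) (hV : g ∈ normalizer (V : Set G)) {a : HQ (R i)}
    (ha : a ∈ AA V R i j) : pr (R i) ⟨g, hg⟩ * a * (pr (R i) ⟨g, hg⟩)⁻¹ ∈ AA V R i j := by
  obtain ⟨u, hu, rfl⟩ := (mem_AA h.b.toBT).1 ha
  have h1 : g * u * g⁻¹ ∈ YY V R := conj_mem_of_normalizer (h.b.NV_le_NY hV) (UU_le_YY j hu)
  exact h.pr_Y h1 (mul_mem (mul_mem hg (U_le_N h.b.toBT i j hu)) (inv_mem hg))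

/-- `[N(V) ∩ C(R i), T] ≤ A` -/
theorem comm_T [Finite G] [Finite F] [CharP F 2] {g : G} (hg : g ∈ normalizer (R i : Set G))
    (hV : g ∈ normalizer (V : Set G)) (hgR : ∀ x ∈ R i, g * x = x * g) {x : HQ (R i)} (hx : x ∈ TT h.τ) :
    (pr (R i) ⟨g, hg⟩)⁻¹ * (x * pr (R i) ⟨g, hg⟩ * x⁻¹) ∈ AA V R i j := by
  obtain ⟨a, ha, rfl⟩ := (mem_TT h.τ).1 hx
  obtain ⟨μ, hμ, w, hw, hact⟩ := Zero.exists_scal h.c h.b.toBT hV hgR
  set m := w⁻¹ * g with hm
  have hwQ := h.b.W_le_Q i hw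
  have hmN : m ∈ normalizer (R i : Set G) := mul_mem (inv_mem (h.b.W_le_N i hw)) hg
  have hmV : m ∈ normalizer (V : Set G) := mul_mem (inv_mem (h.b.W_le_NV i hw)) hV
  have e1 : pr (R i) ⟨m, hmN⟩ = pr (R i) ⟨g, hg⟩ := by
    rw [pr_eq_pr]
    have e : m⁻¹ * g = g⁻¹ * w * g := by rw [hm]; group
    rw [e]
    have h1 := conj_mem_of_normalizer (le_normalizer_O2 _ (inv_mem hg)) hwQ
    rwa [inv_inv] at h1
  rw [← e1]
  -- the commutator is in `X ∩ C(V) = Y`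
  obtain ⟨M, _, _, P1, P2, y⟩ := h.c.exists_yPair h.b.toBT
  have hX := h.τ.memX a ha
  have hc : m⁻¹ * (t a * m * (t a)⁻¹) ∈ YY V R := by
    rw [← y.cen_X_V h.c h.b]
    refine mem_inf.2 ⟨?_, ?_⟩
    · have h1 := conj_mem_of_normalizer (h.b.NV_le_NX (inv_mem hmV)) hX
      rw [inv_inv] at h1
      have e : m⁻¹ * (t a * m * (t a)⁻¹) = m⁻¹ * t a * m * (t a)⁻¹ := by group
      rw [e]
      exact mul_mem h1 (inv_mem hX)
    · rw [mem_centralizer_iff]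
      intro z hz
      obtain ⟨p, r, rfl⟩ := (h.c.mem_V z).1 hz
      have h2 : (t a * m * (t a)⁻¹) * v p r * (t a * m * (t a)⁻¹)⁻¹ = v p (μ * r) := by
        have h3 : (t a)⁻¹ * v p r * t a = v (a⁻¹ * p) (a * r) := by
          have h4 := h.τ.act a (a⁻¹ * p) (a * r) ha
          rw [← mul_assoc, ← mul_assoc, mul_inv_cancel₀ ha, inv_mul_cancel₀ ha, one_mul, one_mul] at h4
          rw [← h4]; group
        calc (t a * m * (t a)⁻¹) * v p r * (t a * m * (t a)⁻¹)⁻¹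
            = t a * (m * ((t a)⁻¹ * v p r * t a) * m⁻¹) * (t a)⁻¹ := by group
          _ = t a * v (a⁻¹ * p) (μ * (a * r)) * (t a)⁻¹ := by rw [h3, hact]
          _ = v (a * (a⁻¹ * p)) (a⁻¹ * (μ * (a * r))) := h.τ.act a _ _ ha
          _ = v p (μ * r) := by
            congr 1
            · rw [← mul_assoc, mul_inv_cancel₀ ha, one_mul]
            · have e : a⁻¹ * (μ * (a * r)) = a⁻¹ * a * (μ * r) := by ring
              rw [e, inv_mul_cancel₀ ha, one_mul]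
      have h3 : m⁻¹ * v p (μ * r) * m = v p r := by
        rw [← hact p r]; group
      have h4 : (m⁻¹ * (t a * m * (t a)⁻¹)) * v p r * (m⁻¹ * (t a * m * (t a)⁻¹))⁻¹ = v p r := by
        calc (m⁻¹ * (t a * m * (t a)⁻¹)) * v p r * (m⁻¹ * (t a * m * (t a)⁻¹))⁻¹
            = m⁻¹ * ((t a * m * (t a)⁻¹) * v p r * (t a * m * (t a)⁻¹)⁻¹) * m := by group
          _ = v p r := by rw [h2, h3]
      exact (mul_inv_eq_iff_eq_mul.1 h4).symm
  exact h.pr_Y hc _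

/-- an element of `C(R i)` whose image normalises `S ⊓ K` normalises `V` -/
theorem norm_V [Finite G] {K : Subgroup (HQ (R i))} (hin : Layer.InnA (AA V R i j) K) (hAK : AA V R i j ≤ SS R i S₁)
    {g : G} (hg : g ∈ normalizer (R i : Set G)) (hgR : g ∈ centralizer (R i : Set G))
    (hgK : pr (R i) ⟨g, hg⟩ ∈ K)
    (hgS : ∀ y ∈ SS R i S₁ ⊓ K, pr (R i) ⟨g, hg⟩ * y * (pr (R i) ⟨g, hg⟩)⁻¹ ∈ SS R i S₁ ⊓ K) :
    g ∈ normalizer (V : Set G) := by
  set x := pr (R i) ⟨g, hg⟩ with hx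
  set B : Subgroup (HQ (R i)) := AA V R i j ⊔ (SS R i S₁ ⊓ K) with hB
  have hBS : B ≤ SS R i S₁ := sup_le hAK inf_le_left
  -- `x` normalises `B`
  have hxB : ∀ y ∈ B, x * y * x⁻¹ ∈ B := by
    have h1 : B ≤ B.comap (MulAut.conj x).toMonoidHom := by
      refine sup_le (fun a ha => ?_) fun y hy => ?_
      · obtain ⟨s, hs, hac⟩ := hin a ha
        have h2 : s⁻¹ * a * x = x * (s⁻¹ * a) := by
          have h3 := hac x hgK
          have h4 : a * x = s * x * s⁻¹ * a := by rw [← h3, inv_mul_cancel_right]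
          rw [mul_assoc, h4]; group
        have e : (MulAut.conj x).toMonoidHom a = (x * s * x⁻¹) * (s⁻¹ * a) := by
          change x * a * x⁻¹ = _
          calc x * a * x⁻¹ = x * s * (s⁻¹ * a) * x⁻¹ := by group
            _ = x * s * x⁻¹ * (x * (s⁻¹ * a)) * x⁻¹ := by group
            _ = x * s * x⁻¹ * (s⁻¹ * a * x) * x⁻¹ := by rw [h2]
            _ = (x * s * x⁻¹) * (s⁻¹ * a) := by group
        rw [mem_comap, e]
        exact mul_mem (mem_sup_right (hgS s ⟨hAK hs.1, hs.2⟩))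
          (mem_sup_left (mul_mem (inv_mem hs.1) ha))
      · exact mem_sup_right (hgS y hy)
    exact fun y hy => h1 hy
  -- the preimage of `B`
  let E : Subgroup G :=
    { carrier := {e | e ∈ centralizer (R i : Set G) ∧ ∃ he : e ∈ normalizer (R i : Set G), pr (R i) ⟨e, he⟩ ∈ B}
      one_mem' := ⟨one_mem _, one_mem _, by
        have : pr (R i) ⟨1, one_mem _⟩ = 1 := map_one _
        rw [this]; exact one_mem _⟩
      mul_mem' := by
        rintro e f ⟨he, he', heB⟩ ⟨hf, hf', hfB⟩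
        exact ⟨mul_mem he hf, mul_mem he' hf', mul_mem heB hfB⟩
      inv_mem' := by
        rintro e ⟨he, he', heB⟩
        exact ⟨inv_mem he, inv_mem he', inv_mem heB⟩ }
  have hES : ∀ e ∈ E, e ∈ (S₁ : Subgroup G) := by
    rintro e ⟨he, he', heB⟩
    obtain ⟨s, hs, hsS, es⟩ := mem_im.1 (hBS heB)
    have h1 := QQ_le_sylow S₁ h.SR ((pr_eq_pr hs he').1 es)
    have e2 : e = s * (s⁻¹ * e) := by group
    rw [e2]
    exact mul_mem (mem_inf.1 hsS).1 h1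
  refine IIa4.CenA.norm_of h.b.toBT h.cenA (E := E) ?_ (fun y hy x hx => h.commV y (hES y hy) hy.1 x hx) hg ?_
  · intro u hu
    exact ⟨(UU_le_cen j).trans (centralizer_le (h.b.R_le i)) hu, U_le_N h.b.toBT i j hu,
      (le_sup_left : AA V R i j ≤ B) (pr_mem_im _ hu)⟩
  · refine mem_normalizer_of_conj ?_
    rintro e ⟨he, he', heB⟩
    refine ⟨mul_mem (mul_mem hgR he) (inv_mem hgR), mul_mem (mul_mem hg he') (inv_mem hg), ?_⟩
    exact hxB _ heB

/-- lifts to `C(R i)` -/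
theorem exists_lift {x : HQ (R i)} (hx : x ∈ H0 R i) : ∃ (g : G) (hg : g ∈ normalizer (R i : Set G)),
    g ∈ centralizer (R i : Set G) ∧ pr (R i) ⟨g, hg⟩ = x := mem_im.1 hx

/-- `T ∩ H⁰ = 1` -/
theorem T_inf {x : HQ (R i)} (hx : x ∈ TT h.τ) (hx0 : x ∈ H0 R i) : x = 1 := by
  obtain ⟨a, ha, rfl⟩ := (mem_TT h.τ).1 hx
  obtain ⟨g, hg, hgC, e⟩ := mem_im.1 hx0
  have h1 := Q_le_C h.b.toBT i ((pr_eq_pr hg _).1 e)
  have h2 : t a ∈ centralizer (R i : Set G) := by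
    have e2 : t a = g * (g⁻¹ * t a) := by group
    rw [e2]; exact mul_mem hgC h1
  have h3 := h.τ.act a 1 0 ha
  have h4 := mem_centralizer_iff.1 h2 (v 1 0) ((h.c.mem_R1 _).2 ⟨1, rfl⟩)
  rw [← h4, mul_inv_cancel_right, mul_one, mul_zero] at h3
  have h5 : (1 : F) = a := (h.c.v_inj h3).1
  subst h5
  have h6 : (⟨t 1, h.τ.normR ha⟩ : ↥(normalizer (R i : Set G))) = 1 := Subtype.ext h.τ.one
  rw [h6, map_one]

/-- **the abstract data** -/
theorem qd [Finite G] [Finite F] [CharP F 2] (h4 : 4 ≤ Nat.card F)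
    (l : IIa4.Lay V R i j (TT h.τ) (SS R i S₁)) :
    QD (H0 R i) (SS R i S₁) (AA V R i j) (TT h.τ) where
  O2 := pCore_HQ (R i)
  norm := Layer.H0_normal R i
  A_le := Layer.A_le_H0 h.b.toBT
  sq := fun a ha => A_sq h.b.toBT h.c.ne ha
  odd := l.odd
  hyp := l.hyp
  sc := scal h.b.toBT h.τ h.c.ne
  su := OfLay.scalU h.b.toBT h.τ
  oddT := OfLay.odd_TT h.b.toBT h.τ
  three := OfLay.three_le_TT h.b.toBT h.τ h4
  TH := fun _ hx hx0 => h.T_inf hx hx0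
  bf := by
    intro K hK x hxK hxS
    obtain ⟨g, hg, hgC, rfl⟩ := h.exists_lift (hK.2.1 hxK)
    have hgV := h.norm_V (l.innC K hK.1 hK.2.1) (A_le_S h.b.toBT S₁ i j h.SV) hg hgC hxK hxS
    exact ⟨fun a ha => h.conj_A hg hgV ha, fun s hs => h.comm_T hg hgV
      (fun y hy => (mem_centralizer_iff.1 hgC y hy).symm) hs⟩

/-- **Frattini**: `N(R i) = E (N(R i) ∩ N(V))`, `E` the preimage of `⟨A^H⟩` -/
theorem frattini [Finite G] {g : G} (hg : g ∈ normalizer (R i : Set G)) :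
    ∃ (e : G) (he : e ∈ normalizer (R i : Set G)), pr (R i) ⟨e, he⟩ ∈ normalClosure (AA V R i j : Set (HQ (R i))) ∧
      e * g ∈ normalizer (V : Set G) := by
  set N := normalClosure (AA V R i j : Set (HQ (R i))) with hN
  have hNn : N.Normal := normalClosure_normal
  have hN0 : N ≤ H0 R i := by
    have := Layer.H0_normal R i
    exact normalClosure_le_normal (Layer.A_le_H0 h.b.toBT)
  let E : Subgroup G :=
    { carrier := {e | ∃ he : e ∈ normalizer (R i : Set G), pr (R i) ⟨e, he⟩ ∈ N}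
      one_mem' := ⟨one_mem _, by
        have : pr (R i) ⟨1, one_mem _⟩ = 1 := map_one _
        rw [this]; exact one_mem _⟩
      mul_mem' := by
        rintro e f ⟨he', heB⟩ ⟨hf', hfB⟩
        exact ⟨mul_mem he' hf', mul_mem heB hfB⟩
      inv_mem' := by
        rintro e ⟨he', heB⟩
        exact ⟨inv_mem he', inv_mem heB⟩ }
  have hER : E ≤ centralizer (R i : Set G) := by
    rintro e ⟨he, heN⟩
    obtain ⟨s, hs, hsC, es⟩ := mem_im.1 (hN0 heN)
    have h1 := Q_le_C h.b.toBT i ((pr_eq_pr hs he).1 es)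
    have e2 : e = s * (s⁻¹ * e) := by group
    rw [e2]
    exact mul_mem hsC h1
  have hEN : E ≤ normalizer (R i : Set G) := fun e he => he.1
  have hE : normalizer (R i : Set G) ≤ normalizer (E : Set G) := by
    intro g hg
    refine mem_normalizer_of_conj ?_
    rintro e ⟨he, heN⟩
    exact ⟨mul_mem (mul_mem hg he) (inv_mem hg), hNn.conj_mem _ heN (pr (R i) ⟨g, hg⟩)⟩
  have hUE : UU V R j ≤ E := fun u hu => ⟨U_le_N h.b.toBT i j hu, subset_normalClosure (pr_mem_im _ hu)⟩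
  have h1 := ((StdEven.Syl.isSyl_top_of_sylow S₁).mono h.SR le_top).inf_normal hEN hE
  obtain ⟨n, hn, hng⟩ := h1.frattini (hE hg)
  refine ⟨n, hn.1, hn.2, IIa4.CenA.norm_of h.b.toBT h.cenA (E := (S₁ : Subgroup G) ⊓ E)
    (le_inf ((UU_le_YY j).trans (Y_le_sylow h.b.toBT S₁ h.SV)) hUE) ?_ (mul_mem (hEN hn) hg) hng⟩
  exact fun y hy x hx => h.commV y hy.1 (hER hy.2) x hx

/-- `H = ⟨A^H⟩ N_H(A)` -/
theorem fac [Finite G] (x : HQ (R i)) : ∃ y ∈ normalClosure (AA V R i j : Set (HQ (R i))), ∃ n : HQ (R i),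
    (∀ a ∈ AA V R i j, n * a * n⁻¹ ∈ AA V R i j) ∧ x = y * n := by
  obtain ⟨g, hg, rfl⟩ := exists_pr x
  obtain ⟨e, he, heN, hV⟩ := h.frattini hg
  refine ⟨(pr (R i) ⟨e, he⟩)⁻¹, inv_mem heN, pr (R i) ⟨e * g, mul_mem he hg⟩,
    fun a ha => h.conj_A (mul_mem he hg) hV ha, ?_⟩
  have e1 : pr (R i) ⟨e * g, mul_mem he hg⟩ = pr (R i) ⟨e, he⟩ * pr (R i) ⟨g, hg⟩ := map_mul (pr (R i)) ⟨e, he⟩ ⟨g, hg⟩
  rw [e1, inv_mul_cancel_left]

/-- the preimage of `A` is `W_i U_j` -/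
theorem mem_of_pr {y : G} (hy : y ∈ normalizer (R i : Set G)) (hA : pr (R i) ⟨y, hy⟩ ∈ AA V R i j) :
    y ∈ WW V (R i) ⊔ UU V R j := by
  obtain ⟨u, hu, e⟩ := (mem_AA h.b.toBT).1 hA
  have h1 := (pr_eq_pr _ hy).1 e
  rw [h.QW] at h1
  have e2 : y = u * (u⁻¹ * y) := by group
  rw [e2]
  exact mul_mem (mem_sup_right hu) (mem_sup_left h1)

/-- `x ∈ W_i` centralising some `y ∈ V - R i` centralises `V` -/
theorem cen_of_comm {x y : G} (hx : x ∈ WW V (R i)) (hy : y ∈ V) (hyR : y ∉ R i) (hxy : x * y = y * x) :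
    x ∈ centralizer (V : Set G) := by
  obtain ⟨s, hs⟩ := h.c.W1_act x hx
  obtain ⟨p, r, rfl⟩ := (h.c.mem_V y).1 hy
  have hr : r ≠ 0 := by
    rintro rfl
    exact hyR ((h.c.mem_R1 _).2 ⟨p, rfl⟩)
  have h1 := hs p r
  rw [hxy, mul_inv_cancel_right] at h1
  have h2 := (h.c.v_inj h1).1
  have h3 : s * r = 0 := by
    have : p + s * r = p + 0 := by rw [add_zero]; exact h2.symm
    exact add_left_cancel this
  have h4 : s = 0 := (mul_eq_zero.1 h3).resolve_right hr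
  rw [mem_centralizer_iff]
  intro z hz
  obtain ⟨p', r', rfl⟩ := (h.c.mem_V z).1 hz
  have h5 := hs p' r'
  rw [h4, zero_mul, add_zero] at h5
  exact (mul_inv_eq_iff_eq_mul.1 h5).symm

/-- if `1 ≠ a ∈ A` normalises `A ^ n`, then `V ^ n ≤ U i` -/
theorem conj_le_U [Finite G] {n : G} (hn : n ∈ normalizer (R i : Set G)) {u : G} (hu : u ∈ UU V R j)
    (hu1 : u ∉ QQ (R i))
    (huA : ∀ a ∈ AA V R i j, (pr (R i) ⟨n, hn⟩)⁻¹ * (pr (R i) ⟨u, U_le_N h.b.toBT i j hu⟩ *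
      (pr (R i) ⟨n, hn⟩ * a * (pr (R i) ⟨n, hn⟩)⁻¹) * (pr (R i) ⟨u, U_le_N h.b.toBT i j hu⟩)⁻¹) *
        pr (R i) ⟨n, hn⟩ ∈ AA V R i j) {x : G} (hx : x ∈ V) : n * x * n⁻¹ ∈ UU V R i := by
  have huN := U_le_N h.b.toBT i j hu
  set m := n⁻¹ * u * n with hm
  have hmN : m ∈ normalizer (R i : Set G) := mul_mem (mul_mem (inv_mem hn) huN) hn
  -- `m ∈ N(V)`
  have hmV : m ∈ normalizer (V : Set G) := by
    refine IIa4.CenA.norm_of_normA h.b.toBT h.cenA hmN (mem_normalizer_of_conj fun y hy => ?_)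
    have hyN : y ∈ normalizer (R i : Set G) :=
      (sup_le (h.b.W_le_N i) (U_le_N h.b.toBT i j)) hy
    have hyA : pr (R i) ⟨y, hyN⟩ ∈ AA V R i j := by
      have h1 : im (R i) (WW V (R i) ⊔ UU V R j) = AA V R i j := by
        rw [im_sup (h.b.W_le_N i) (U_le_N h.b.toBT i j), im_eq_bot (h.b.W_le_Q i), bot_sup_eq]
        rfl
      rw [← h1]
      exact pr_mem_im hyN hy
    have h2 := huA _ hyA
    refine h.mem_of_pr (mul_mem (mul_mem hmN hyN) (inv_mem hmN)) ?_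
    have e : pr (R i) ⟨m * y * m⁻¹, mul_mem (mul_mem hmN hyN) (inv_mem hmN)⟩ =
        (pr (R i) ⟨n, hn⟩)⁻¹ * (pr (R i) ⟨u, huN⟩ * (pr (R i) ⟨n, hn⟩ * pr (R i) ⟨y, hyN⟩ * (pr (R i) ⟨n, hn⟩)⁻¹) *
          (pr (R i) ⟨u, huN⟩)⁻¹) * pr (R i) ⟨n, hn⟩ := by
      have e2 : (⟨m * y * m⁻¹, mul_mem (mul_mem hmN hyN) (inv_mem hmN)⟩ : ↥(normalizer (R i : Set G))) =
          (⟨n, hn⟩)⁻¹ * (⟨u, huN⟩ * (⟨n, hn⟩ * ⟨y, hyN⟩ * (⟨n, hn⟩)⁻¹) * (⟨u, huN⟩)⁻¹) * ⟨n, hn⟩ := by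
        apply Subtype.ext
        change m * y * m⁻¹ = n⁻¹ * (u * (n * y * n⁻¹) * u⁻¹) * n
        rw [hm]; group
      rw [e2, map_mul, map_mul, map_mul, map_mul, map_mul, map_mul, map_inv, map_inv]
    rw [e]; exact h2
  by_contra hxU
  set x' := n * x * n⁻¹ with hx'
  have hxW : x' ∈ WW V (R i) :=
    conj_mem_of_normalizer (normalizer_le_WW V (R i) hn) (V_le_WW V (R i) hx)
  -- `z = [x', u]`
  set z := x' * u * x'⁻¹ * u⁻¹ with hz
  have hzU : z ∈ UU V R i := h.b.WU' hxW hu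
  have hzV : n⁻¹ * z * n ∈ V := by
    have e : n⁻¹ * z * n = x * (m * x⁻¹ * m⁻¹) := by rw [hz, hx', hm]; group
    rw [e]
    exact mul_mem hx (conj_mem_of_normalizer hmV (inv_mem hx))
  have hzR : z ∈ R i := by
    by_contra hzR
    have hyR : n⁻¹ * z * n ∉ R i := by
      intro h1
      have h2 := conj_mem_of_normalizer hn h1
      have e : n * (n⁻¹ * z * n) * n⁻¹ = z := by group
      rw [e] at h2
      exact hzR h2
    apply hxU
    refine mem_inf.2 ⟨hxW, ?_⟩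
    rw [mem_centralizer_iff]
    intro p hp
    have h1 : n⁻¹ * p * n ∈ centralizer (V : Set G) := by
      refine h.cen_of_comm ?_ hzV hyR ?_
      · have h2 := conj_mem_of_normalizer (normalizer_le_WW V (R i) (inv_mem hn)) (V_le_WW V (R i) hp)
        rwa [inv_inv] at h2
      · have h3 := mem_centralizer_iff.1 (UU_le_cen i hzU) p hp
        calc n⁻¹ * p * n * (n⁻¹ * z * n) = n⁻¹ * (p * z) * n := by group
          _ = n⁻¹ * (z * p) * n := by rw [h3]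
          _ = n⁻¹ * z * n * (n⁻¹ * p * n) := by group
    have h2 := mem_centralizer_iff.1 h1 x hx
    calc p * x' = n * ((n⁻¹ * p * n) * x) * n⁻¹ := by rw [hx']; group
      _ = n * (x * (n⁻¹ * p * n)) * n⁻¹ := by rw [h2]
      _ = x' * p := by rw [hx']; group
  have h1 := h.b.inj h.c.ne.symm hxW hxU hu (V_le_D V R (h.b.R_le i hzR))
  exact hu1 ((h.b.W_le_Q i) (D_le_W V R i h1))

/-- **the kill**: it is impossible that some `1 ≠ a ∈ A` normalises `A ^ g`, for all `g ∈ ⟨A^H⟩` -/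
theorem false_of_norm [Finite G]
    (hz : ∀ g ∈ normalClosure (AA V R i j : Set (HQ (R i))), ∃ a ∈ AA V R i j, a ≠ 1 ∧
      ∀ b ∈ AA V R i j, g⁻¹ * (a * (g * b * g⁻¹) * a⁻¹) * g ∈ AA V R i j) : False := by
  have hW : WW V (R i) ≤ UU V R i := by
    refine iSup_le ?_
    rintro ⟨g, hg⟩
    obtain ⟨e, he, heN, hV⟩ := h.frattini hg
    rw [cj_le_iff]
    intro x hx
    obtain ⟨a, ha, ha1, hab⟩ := hz _ (inv_mem heN)
    obtain ⟨u, hu, rfl⟩ := (mem_AA h.b.toBT).1 ha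
    have hu1 : u ∉ QQ (R i) := fun h1 => ha1 ((pr_eq_one _).2 h1)
    have h1 : (e * g) * x * (e * g)⁻¹ ∈ V := conj_mem_of_normalizer hV hx
    have h2 := h.conj_le_U (n := e⁻¹) (inv_mem he) hu hu1 (fun a ha => hab a ha) h1
    have e1 : e⁻¹ * (e * g * x * (e * g)⁻¹) * e⁻¹⁻¹ = g * x * g⁻¹ := by group
    rwa [e1] at h2
  have h1 := UU_le_cen i (hW (h.c.w1_mem 1))
  have h2 := h.c.w1_act 1 0 1
  have h3 := mem_centralizer_iff.1 h1 (v 0 1) (h.c.v_mem 0 1)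
  rw [← h3, mul_inv_cancel_right, zero_add, one_mul] at h2
  exact one_ne_zero (h.c.v_inj h2).1.symm

end RD

end Cfsg.Agent.Omega.SQEnd
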