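import Cfsg.Agent.Omega.BTwo.Cen

/-!
# The end of the case `b = 2`: lines through a point, LEMMA NA (bb OMEGA #12947)

`Ln R W V U D A`: the local facts about the line `V` through the point `R` (`W = ⟨V^{N(R)}⟩`, `U = C_W(V)`,
`D = W ∩ W'`, `A = U'` for another point `R'` of `V`).  LEMMA NA: if two lines `V₁`, `V₂` through `R` have
`W A₁ = W A₂` and `|A / D| > |V / R|` then `V₁ = V₂`; i.e. `N_H(A) = N_H(V / R)`.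
-/

set_option autoImplicit false

universe u

namespace Cfsg.Agent.Omega.SQEnd

open Subgroup Cfsg.Agent.Omega.BTwo

variable {G : Type u} [Group G]

/-- The line `V` through the point `R`. -/
structure Ln (R W V U D A : Subgroup G) : Prop where
  RV : R ≤ V
  VD : V ≤ D
  DU : D ≤ U
  UW : U ≤ W
  AW : A ≤ normalizer (W : Set G)
  WW : ∀ g ∈ W, ∀ w ∈ W, g * w * g⁻¹ * w⁻¹ ∈ R
  UV : ∀ u ∈ U, ∀ v ∈ V, u * v = v * u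
  cen : ∀ v ∈ V, v ∉ R → ∀ w ∈ W, w * v = v * w → w ∈ U
  cenU : ∀ w ∈ W, (∀ u ∈ U, w * u = u * w) → w ∈ V
  UA : ∀ u ∈ U, ∀ a ∈ A, u * a * u⁻¹ * a⁻¹ ∈ D
  DA : ∀ d ∈ D, ∀ a ∈ A, d * a * d⁻¹ * a⁻¹ ∈ V
  DAR : ∀ d ∈ D, (∀ a ∈ A, d * a * d⁻¹ * a⁻¹ ∈ R) → d ∈ V
  inj : ∀ w ∈ W, w ∉ U → ∀ a ∈ A, w * a * w⁻¹ * a⁻¹ ∈ D → a ∈ D
  surj : ∀ w ∈ W, w ∉ U → ∀ u ∈ U, ∃ a ∈ A, (w * a * w⁻¹ * a⁻¹)⁻¹ * u ∈ D

/-- counting -/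
theorem relIndex_le_of [Finite G] {U D V R : Subgroup G} (hRD : R ≤ D) (h : ∀ u ∈ U, ∃ v ∈ V, v⁻¹ * u ∈ D) :
    D.relIndex U ≤ R.relIndex V := by
  classical
  choose! f hf using h
  have key : ∀ u ∈ U, ∀ u' ∈ U, (f u)⁻¹ * f u' ∈ R → u⁻¹ * u' ∈ D := by
    intro u hu u' hu' h
    have h1 := (hf u hu).2
    have h2 := (hf u' hu').2
    have e : u⁻¹ * u' = ((f u)⁻¹ * u)⁻¹ * ((f u)⁻¹ * f u') * ((f u')⁻¹ * u') := by group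
    rw [e]
    exact mul_mem (mul_mem (inv_mem h1) (hRD h)) h2
  change Nat.card (U ⧸ D.subgroupOf U) ≤ Nat.card (V ⧸ R.subgroupOf V)
  let g : U ⧸ D.subgroupOf U → V ⧸ R.subgroupOf V := fun x =>
    QuotientGroup.mk (⟨f (x.out : U), (hf _ (x.out : U).2).1⟩ : V)
  refine Nat.card_le_card_of_injective g fun x y hxy => ?_
  have h1 : ((f (x.out : U))⁻¹ * f (y.out : U)) ∈ R := by
    have := QuotientGroup.eq.1 hxy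
    exact this
  have h2 := key _ (x.out : U).2 _ (y.out : U).2 h1
  have h3 : (QuotientGroup.mk (x.out : U) : U ⧸ D.subgroupOf U) = QuotientGroup.mk (y.out : U) :=
    QuotientGroup.eq.2 h2
  rwa [QuotientGroup.out_eq', QuotientGroup.out_eq'] at h3

/-- elements of `W A` -/
theorem exists_mul {W A B : Subgroup G} (hB : B ≤ normalizer (W : Set G)) (h : A ≤ W ⊔ B) {a : G} (ha : a ∈ A) :
    ∃ w ∈ W, ∃ b ∈ B, a = w * b := by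
  have h1 := h ha
  have h2 : ∀ x ∈ W ⊔ B, ∃ w ∈ W, ∃ b ∈ B, x = w * b := by
    let T : Subgroup G :=
      { carrier := {x | ∃ w ∈ W, ∃ b ∈ B, x = w * b}
        one_mem' := ⟨1, one_mem _, 1, one_mem _, (one_mul 1).symm⟩
        mul_mem' := by
          rintro _ _ ⟨w, hw, b, hb, rfl⟩ ⟨w', hw', b', hb', rfl⟩
          exact ⟨w * (b * w' * b⁻¹), mul_mem hw (conj_mem_of_normalizer (hB hb) hw'), b * b', mul_mem hb hb', by group⟩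
        inv_mem' := by
          rintro _ ⟨w, hw, b, hb, rfl⟩
          refine ⟨b⁻¹ * w⁻¹ * b⁻¹⁻¹, conj_mem_of_normalizer (hB (inv_mem hb)) (inv_mem hw), b⁻¹, inv_mem hb, by group⟩ }
    have hT : W ⊔ B ≤ T := sup_le (fun w hw => ⟨w, hw, 1, one_mem _, (mul_one w).symm⟩)
      fun b hb => ⟨1, one_mem _, b, hb, (one_mul b).symm⟩
    exact fun x hx => hT hx
  exact h2 a h1

namespace Ln

variable {R W V₁ U₁ D₁ A₁ V₂ U₂ D₂ A₂ : Subgroup G}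

theorem RW {V U D A : Subgroup G} (l : Ln R W V U D A) : R ≤ W := l.RV.trans (l.VD.trans (l.DU.trans l.UW))
theorem VW {V U D A : Subgroup G} (l : Ln R W V U D A) : V ≤ W := l.VD.trans (l.DU.trans l.UW)
theorem DW {V U D A : Subgroup G} (l : Ln R W V U D A) : D ≤ W := l.DU.trans l.UW
theorem RD {V U D A : Subgroup G} (l : Ln R W V U D A) : R ≤ D := l.RV.trans l.VD

/-- `[m, a₂] ∈ R · [m, a₁]^W` -/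
theorem comm_of (l₁ : Ln R W V₁ U₁ D₁ A₁) {T : Subgroup G} (hRT : R ≤ T) (hTW : T ≤ W)
    {m w a : G} (hm : m ∈ W) (hw : w ∈ W) (h : m * a * m⁻¹ * a⁻¹ ∈ T) :
    m * (w * a) * m⁻¹ * (w * a)⁻¹ ∈ T := by
  have e : m * (w * a) * m⁻¹ * (w * a)⁻¹ =
      (m * w * m⁻¹ * w⁻¹) * (w * (m * a * m⁻¹ * a⁻¹) * w⁻¹ * (m * a * m⁻¹ * a⁻¹)⁻¹) *
        (m * a * m⁻¹ * a⁻¹) := by group
  rw [e]
  exact mul_mem (mul_mem (hRT (l₁.WW _ hm _ hw)) (hRT (l₁.WW _ hw _ (hTW h)))) h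

/-- common points of two lines -/
theorem U_eq_of_mem (l₁ : Ln R W V₁ U₁ D₁ A₁) (l₂ : Ln R W V₂ U₂ D₂ A₂) {x : G} (h1 : x ∈ V₁) (h2 : x ∈ V₂)
    (hx : x ∉ R) : U₁ = U₂ :=
  le_antisymm (fun u hu => l₂.cen x h2 hx u (l₁.UW hu) (l₁.UV u hu x h1))
    fun u hu => l₁.cen x h1 hx u (l₂.UW hu) (l₂.UV u hu x h2)

theorem V_eq_of_U (l₁ : Ln R W V₁ U₁ D₁ A₁) (l₂ : Ln R W V₂ U₂ D₂ A₂) (h : U₁ = U₂) : V₁ = V₂ :=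
  le_antisymm (fun v hv => l₂.cenU v (l₁.VW hv) fun u hu => (l₁.UV u (h ▸ hu) v hv).symm)
    fun v hv => l₁.cenU v (l₂.VW hv) fun u hu => (l₂.UV u (h ▸ hu) v hv).symm

theorem D_inf (l₁ : Ln R W V₁ U₁ D₁ A₁) (l₂ : Ln R W V₂ U₂ D₂ A₂) (h12 : A₁ ≤ W ⊔ A₂) (h21 : A₂ ≤ W ⊔ A₁)
    (h : V₁ ⊓ V₂ ≤ R) : D₁ ⊓ D₂ ≤ R := by
  intro d hd
  refine h ⟨l₁.DAR d hd.1 fun a ha => h ⟨l₁.DA d hd.1 a ha, ?_⟩, l₂.DAR d hd.2 fun a ha => h ⟨?_, l₂.DA d hd.2 a ha⟩⟩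
  · obtain ⟨w, hw, b, hb, rfl⟩ := exists_mul l₂.AW h12 ha
    exact l₁.comm_of l₂.RV l₂.VW (l₁.DW hd.1) hw (l₂.DA d hd.2 b hb)
  · obtain ⟨w, hw, b, hb, rfl⟩ := exists_mul l₁.AW h21 ha
    exact l₁.comm_of l₁.RV l₁.VW (l₁.DW hd.1) hw (l₁.DA d hd.1 b hb)

/-- `|A / D| > |V / R|`: `D₁ ≤ U₂` -/
theorem D_le_U [Finite G] (l₁ : Ln R W V₁ U₁ D₁ A₁) (l₂ : Ln R W V₂ U₂ D₂ A₂) (h21 : A₂ ≤ W ⊔ A₁)
    (hc : R.relIndex V₁ < D₂.relIndex U₂) : D₁ ≤ U₂ := by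
  intro d hd
  by_contra hn
  refine absurd (relIndex_le_of (R := R) (V := V₁) l₂.RD fun u hu => ?_) (not_le.2 hc)
  obtain ⟨a, ha, h⟩ := l₂.surj d (l₁.DW hd) hn u hu
  obtain ⟨w, hw, b, hb, rfl⟩ := exists_mul l₁.AW h21 ha
  exact ⟨_, l₁.comm_of l₁.RV l₁.VW (l₁.DW hd) hw (l₁.DA d hd b hb), h⟩

/-- **LEMMA NA.** -/
theorem U_eq [Finite G] (l₁ : Ln R W V₁ U₁ D₁ A₁) (l₂ : Ln R W V₂ U₂ D₂ A₂) (h21 : A₂ ≤ W ⊔ A₁)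
    (hcard : Nat.card U₁ = Nat.card U₂) (h2 : D₂ ≤ U₁) : U₁ = U₂ := by
  by_contra hne
  have hn : ¬ U₁ ≤ U₂ := fun h => hne (eq_of_le_of_card_ge h hcard.ge)
  obtain ⟨m, hm, hm2⟩ := SetLike.not_le_iff_exists.1 hn
  have h3 : U₂ ≤ U₁ := by
    intro u hu
    obtain ⟨a, ha, h⟩ := l₂.surj m (l₁.UW hm) hm2 u hu
    obtain ⟨w, hw, b, hb, rfl⟩ := exists_mul l₁.AW h21 ha
    have h4 := l₁.comm_of l₁.RD l₁.DW (l₁.UW hm) hw (l₁.UA m hm b hb)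
    have h5 := mul_mem (l₁.DU h4) (h2 h)
    rwa [mul_inv_cancel_left] at h5
  exact hne (eq_of_le_of_card_ge h3 hcard.le).symm

/-- **LEMMA NA**, `|A / D| > |V / R|`. -/
theorem V_eq [Finite G] (l₁ : Ln R W V₁ U₁ D₁ A₁) (l₂ : Ln R W V₂ U₂ D₂ A₂) (h12 : A₁ ≤ W ⊔ A₂)
    (h21 : A₂ ≤ W ⊔ A₁) (hcard : Nat.card U₁ = Nat.card U₂)
    (hc : R.relIndex V₂ < D₁.relIndex U₁) : V₁ = V₂ :=
  l₁.V_eq_of_U l₂ (l₁.U_eq l₂ h21 hcard (l₂.D_le_U l₁ h12 hc))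

/-- **LEMMA NA**, general form: `V₁ = V₂` or the exceptional configuration (`|A / D| = |V / R|`). -/
theorem V_eq_or [Finite G] (l₁ : Ln R W V₁ U₁ D₁ A₁) (l₂ : Ln R W V₂ U₂ D₂ A₂) (h12 : A₁ ≤ W ⊔ A₂)
    (h21 : A₂ ≤ W ⊔ A₁) (hcard : Nat.card U₁ = Nat.card U₂) :
    V₁ = V₂ ∨ (V₁ ⊓ V₂ ≤ R ∧ D₁ ⊓ D₂ ≤ R ∧ ¬ D₁ ≤ U₂ ∧ ¬ D₂ ≤ U₁ ∧
      D₁.relIndex U₁ ≤ R.relIndex V₂ ∧ D₂.relIndex U₂ ≤ R.relIndex V₁) := by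
  by_cases hV : V₁ ⊓ V₂ ≤ R
  · by_cases h1 : D₂ ≤ U₁
    · exact Or.inl (l₁.V_eq_of_U l₂ (l₁.U_eq l₂ h21 hcard h1))
    by_cases h2 : D₁ ≤ U₂
    · exact Or.inl (l₂.V_eq_of_U l₁ (l₂.U_eq l₁ h12 hcard.symm h2)).symm
    refine Or.inr ⟨hV, l₁.D_inf l₂ h12 h21 hV, h2, h1, ?_, ?_⟩
    · exact not_lt.1 fun h => h1 (l₂.D_le_U l₁ h12 h)
    · exact not_lt.1 fun h => h2 (l₁.D_le_U l₂ h21 h)
  · obtain ⟨x, hx, hxR⟩ := SetLike.not_le_iff_exists.1 hV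
    exact Or.inl (l₁.V_eq_of_U l₂ (l₁.U_eq_of_mem l₂ hx.1 hx.2 hxR))

end Ln

end Cfsg.Agent.Omega.SQEnd
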