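import Cfsg.Agent.Omega.SQEnd.Line
import Cfsg.Agent.Omega.BTwo.Key

/-!
# `Ln` from `BTC` and `C(W) ≤ R`
-/

set_option autoImplicit false

universe u v

namespace Cfsg.Agent.Omega.SQEnd

open Subgroup Cfsg.Agent.Omega.BTwo

variable {G : Type u} [Group G] {ι : Type v} {V : Subgroup G} {R : ι → Subgroup G}

theorem ln_of_bt [Finite G] (b : BTC V R) {i j : ι} (hij : i ≠ j)
    (hC : centralizer (WW V (R i) : Set G) ≤ R i) :
    Ln (R i) (WW V (R i)) V (UU V R i) (DD V R) (UU V R j) where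
  RV := b.R_le i
  VD := V_le_D V R
  DU := b.D_le_U i
  UW := UU_le_WW i
  AW := (UU_le_cen j).trans (b.cen_le_NW i)
  WW := fun g hg w hw => b.WW_comm i hg hw
  UV := fun u hu v hv => (mem_centralizer_iff.1 (UU_le_cen i hu) v hv).symm
  cen := fun v hv hvR w hw h => mem_inf.2 ⟨hw, mem_centralizer_iff.2 fun a ha =>
    (b.reg (b.W_le_Q i hw) hv hvR h a ha).symm⟩
  cenU := fun w hw h => by
    obtain ⟨v, hv, hc⟩ := b.cen_U (b.W_le_Q i hw) h
    have e : w = v * (v⁻¹ * w) := by group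
    rw [e]
    exact mul_mem hv (b.R_le i (hC hc))
  UA := fun u hu a ha => b.UU_comm hij hu ha
  DA := fun d hd a ha => b.lam_mem hd (UU_le_YY j ha)
  DAR := fun d hd h => b.cen_DU (i := j) hd fun u hu => by
    have h1 := b.eq_one hij (h u hu) (b.DU hd hu)
    rwa [mul_inv_eq_one, mul_inv_eq_iff_eq_mul] at h1
  inj := fun w hw hwU a ha h => b.inj hij.symm hw hwU ha h
  surj := fun w hw hwU u hu => b.surj hij.symm hw hwU hu

end Cfsg.Agent.Omega.SQEnd
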