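import Cfsg.Agent.Omega.SQEnd.BAct
import Cfsg.Agent.Omega.Lie.End.MovEnd

/-!
# SQT, `b = 2`, `KD`: the rows which do not occur (helper78)

`DRow Y` : `Y` has a root group datum of rank `≥ 2` with a simple root group of order `< 4`, or with `M i j = 6`.
`not_tact_of_dRow` : no `TAct` on the odd covers of `Y`.
`deadB_SL`, `deadB_G`, `deadB_D` (`RowDeadG.lean`) : fields of `KQRows`.
-/

set_option autoImplicit false
set_option linter.unusedSectionVars false

namespace Cfsg.Agent.Omega.SQEnd.Dead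

open Subgroup CoxeterSystem Cfsg.Agent.ChevalleyStructure.CoxeterGeom Cfsg.Agent.Tits.Roots Cfsg.Agent.Tits.Core
  Cfsg.Agent.Tits.RootComb Cfsg.Agent.Nodes.Comb Cfsg.Agent.Nodes.Reps Cfsg.Agent.Nodes.BNOf
  Cfsg.Agent.Nodes.Bruhat Cfsg.Agent.Nodes.StabComb Cfsg.Agent.Nodes.LeviDec Cfsg.Agent.Nodes.RGDLift
  Cfsg.Agent.KFacts.RgdAut Cfsg.Agent.KFacts.RgdDiag Cfsg.Agent.KFacts.RgdRigid Cfsg.Agent.KFacts.RgdCharP
  Cfsg.Agent.ParSys Cfsg.Agent.Omega.Lie.End Cfsg.Agent.Omega.Lie.End.Mov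

universe u v

/-- A root group datum of rank `≥ 2` on which `T` does not act: a simple root group of order `< 4`, or `M i j = 6`. -/
def DRow (Y : Type*) [Group Y] : Prop :=
  ∃ (l : ℕ) (M : CoxeterMatrix (Fin l)) (A : Fin l → Fin l → ℤ) (h : IsCartan M A) (T : Subgroup Y) (n : Fin l → Y)
    (X : (Fin l → ℤ) → Subgroup Y), Finite M.Group ∧ RGD M.toCoxeterSystem h 2 T n X ∧
      RGD.Sup X {x | IsRoot M.toCoxeterSystem h x} = ⊤ ∧ (∃ i j : Fin l, i ≠ j) ∧ Conn M ∧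
        ((∃ i, Nat.card (X (sr i)) < 4) ∨
          ∃ i j : Fin l, i ≠ j ∧ (∀ k, k = i ∨ k = j) ∧
            NComm (X (sr i)) (X (rep M.toCoxeterSystem h (M.toCoxeterSystem.simple j) (sr i))) ∧
              NComm (X (sr j)) (X (rep M.toCoxeterSystem h (M.toCoxeterSystem.simple i) (sr j))))

theorem not_tact_of_dRow {K : Type u} [Group K] [Finite K] {Y : Type v} [Group Y] [Finite Y] (f : K →* Y)
    (hf : f.ker ≤ center K) (hp : Odd (Nat.card f.ker)) (hs : Function.Surjective f) (hperf : commutator K = ⊤)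
    (hr : DRow Y) (S : Sylow 2 K) {Γ : Subgroup (MulAut K)} (hT : TAct (S : Subgroup K) Γ) : False := by
  have : Fact (Nat.Prime 2) := ⟨Nat.prime_two⟩
  obtain ⟨l, M, A, h, T, n, X, hW, R, hG1, htwo, hconn, hr⟩ := hr
  have : Finite M.Group := hW
  set cs := M.toCoxeterSystem with hcs
  -- `U` is a Sylow subgroup of `Y`
  let Q : Sylow 2 Y :=
    { toSubgroup := RGD.Sup X (RGD.Pos cs h)
      isPGroup' := R.isPGroup_Upos
      is_maximal' := fun {P} hP hUP => by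
        have hG : GG cs h T X = ⊤ := Cfsg.Agent.KFacts.RgdRigid.GG_eq_top hG1
        exact Cfsg.Agent.KFacts.RgdEx.eq_U R hUP (by rw [hG]; exact le_top) hP }
  obtain ⟨g, hg⟩ := MulAction.exists_smul_eq Y (S.mapSurjective hs) Q
  -- adjust `f`
  obtain ⟨f', hf'⟩ : ∃ f' : K →* Y, ∀ x, f' x = g * f x * g⁻¹ :=
    ⟨(MulAut.conj g).toMonoidHom.comp f, fun x => rfl⟩
  have hker : f'.ker = f.ker := by
    ext x
    rw [MonoidHom.mem_ker, MonoidHom.mem_ker, hf']
    constructor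
    · intro e
      have e1 : g⁻¹ * (g * f x * g⁻¹) * g = f x := by group
      rw [← e1, e]; group
    · intro e
      rw [e]; group
  have hf1 : f'.ker ≤ center K := by rw [hker]; exact hf
  have hp1 : (Nat.card f'.ker).Coprime 2 := by rw [hker]; exact Nat.coprime_two_right.2 hp
  have hs1 : Function.Surjective f' := by
    intro y
    obtain ⟨x, hx⟩ := hs (g⁻¹ * y * g)
    exact ⟨x, by rw [hf', hx]; group⟩
  have hSmap : (S : Subgroup K).map f' = RGD.Sup X (RGD.Pos cs h) := by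
    have h1 : ((g • S.mapSurjective hs : Sylow 2 Y) : Subgroup Y) = RGD.Sup X (RGD.Pos cs h) := by
      rw [hg]
    rw [← h1]
    ext y
    constructor
    · rintro ⟨x, hx, rfl⟩
      rw [hf']
      exact ⟨f x, ⟨x, hx, rfl⟩, rfl⟩
    · rintro ⟨_, ⟨x, hx, rfl⟩, rfl⟩
      exact ⟨x, hx, hf' x⟩
  -- the lifted root group datum
  choose n' hn' using fun i => hs1 (n i)
  have R' := rgd_lift hf1 hp1 hs1 R hn'
  set T' := T.comap f' with hT'
  set X' : (Fin l → ℤ) → Subgroup K := fun x => lft 2 f' (X x) with hX'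
  have hU : RGD.Sup X' (RGD.Pos cs h) = (S : Subgroup K) := by
    have h1 : lft 2 f' (RGD.Sup X (RGD.Pos cs h)) = RGD.Sup X' (RGD.Pos cs h) :=
      lft_iSup hf1 hp1 hs1 _ R.isPGroup_Upos
    rw [← h1]
    exact (eq_lft hf1 hp1 R.isPGroup_Upos S.2 hSmap).symm
  have hG1' : RGD.Sup X' {x | IsRoot cs h x} = ⊤ := by
    refine eq_top_of_map hf1 hperf ?_
    rw [eq_top_iff, ← hG1]
    refine RGD.Sup_le fun x hx => ?_
    rw [← map_lft hf1 hp1 hs1 (R.pgrp' hx)]
    exact Subgroup.map_mono (RGD.le_Sup (X := X') (S := {x | IsRoot cs h x}) hx)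
  have h2 : ∀ i : Fin l, ∃ j, j ≠ i := by
    intro i
    obtain ⟨a, b, hab⟩ := htwo
    by_cases h3 : a = i
    · exact ⟨b, fun e => hab (h3.trans e.symm)⟩
    · exact ⟨a, h3⟩
  -- the action
  rw [← hU] at hT
  have hGG : GG cs h T' X' = ⊤ := Cfsg.Agent.KFacts.RgdRigid.GG_eq_top hG1'
  obtain ⟨v, hv, hvF⟩ := exists_conj_frame R' hGG hT.odd hT.comm (fun γ hγ x => by
    refine ⟨fun h3 => ?_, hT.stab γ hγ x⟩
    have h4 := hT.stab γ⁻¹ (inv_mem hγ) _ h3
    rwa [MulAut.inv_apply_self] at h4)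
  have hT1 := hT.cG hv
  have hF : ∀ γ ∈ cG v Γ, γ ∈ Frame cs h X' := by
    rintro _ ⟨γ, hγ, rfl⟩
    exact hvF γ hγ
  have hA := act_of_tact hT1 hF
  have MR := movAll K l M A h T' n' X' (cG v Γ) hW R' hG1' hconn h2 hA
    (by rw [AA_eq_AT]; exact hT1.sq)
  rcases hr with ⟨i, hi⟩ | ⟨i, j, hij, hall, hi, hj⟩
  · have h3 := MR.four i
    rw [card_lft hf1 hp1 hs1 (R.pgrp i)] at h3
    omega
  · have hi' := hi.lift hf1 hp1 hs1 (R.pgrp i) (R.pgrp' ((isRoot_sr cs h i).act _))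
    have hj' := hj.lift hf1 hp1 hs1 (R.pgrp j) (R.pgrp' ((isRoot_sr cs h j).act _))
    have hmv := hA.exists_mv R' hG1' hconn
    have key : ∀ i j, i ≠ j → Mv X' (cG v Γ) i →
        NComm (X' (sr i)) (X' (rep cs h (cs.simple j) (sr i))) → False := by
      rintro i j hij hi ⟨x, hx, y, hy, hxy⟩
      have hj : ¬ Mv X' (cG v Γ) j := fun hj => hij (MR.one i j hi hj)
      exact hxy (hA.ab x (hA.le_AA R' hG1' hconn h2 hi hx) y (MR.conj i j hi hj hy))
    obtain ⟨k, hk⟩ := hmv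
    rcases hall k with rfl | rfl
    · exact key _ _ hij hk hi'
    · exact key _ _ hij.symm hk hj'

theorem deadB_of_dRow {Y : Type u} [Group Y] {Y' : Type v} [Group Y'] [Finite Y'] (e : Y ≃* Y') (hr : DRow Y') :
    DeadB Y := by
  intro K _ _ hK S T hT
  obtain ⟨e1⟩ := hK.iso
  have hk : ((e1.trans e).toMonoidHom.comp (QuotientGroup.mk' (center K))).ker = center K := by
    ext a
    rw [MonoidHom.mem_ker, MonoidHom.comp_apply]
    change (e1.trans e) _ = 1 ↔ _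
    rw [map_eq_one_iff _ (e1.trans e).injective, QuotientGroup.mk'_apply, QuotientGroup.eq_one_iff]
  exact not_tact_of_dRow ((e1.trans e).toMonoidHom.comp (QuotientGroup.mk' (center K))) hk.le
    (by rw [hk]; exact hK.odd) ((e1.trans e).surjective.comp (QuotientGroup.mk'_surjective _)) hK.perf hr S hT.toTAct

end Cfsg.Agent.Omega.SQEnd.Dead
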