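import Cfsg.Agent.Omega.SQEnd.RowDead
import Cfsg.Agent.Omega.Lie.End.RowD4
import Cfsg.Agent.Omega.Lie.End.RowExc
import Cfsg.Agent.Omega.Lie.End.RowCls

/-!
# `DRow` for `G₂(q)`, `³D₄(q)` and `L_n(2)` (helper78)
-/

set_option autoImplicit false
set_option linter.unusedSectionVars false

namespace Cfsg.Agent.Omega.SQEnd.Dead

section G2

open CoxeterSystem Cfsg.Agent.ChevalleyStructure.CoxeterGeom Cfsg.Agent.Tits.Roots Cfsg.Agent.Tits.Core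
  Cfsg.Agent.Tits.RootComb Cfsg.Agent.Nodes.Comb Cfsg.Agent.Nodes.Reps Cfsg.Agent.Nodes.BNOf
  Cfsg.Agent.Nodes.RGDChev Cfsg.Agent.KFacts.RgdChevCoord Cfsg.Agent.KFacts.RgdCharP
open Cfsg.Lie Cfsg.Agent.ChevalleyStructure Cfsg.Agent.ChevalleyStructure.Elts
  Cfsg.Agent.ChevalleyStructure.NPerm Cfsg.Agent.ChevalleyStructure.CoxeterGeomTypes
open Cfsg.Agent.Omega.Lie.End
open scoped commutatorElement

universe u

set_option backward.isDefEq.respectTransparency false in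
/-- **`G₂(q)`** -/
theorem dRow_G2 (K : Type u) [Field K] [Finite K] [CharP K 2] : DRow ↥(chevG2.group K) := by
  have : Fact (Nat.Prime 2) := ⟨Nat.prime_two⟩
  have e0 := RowG2.vec_sr0
  have e1 := RowG2.vec_sr1
  have r0 := rep_vec RowG2.hp CoxeterMatrix.G₂.toCoxeterSystem (0 : Fin 2) (RowG2.lt (r := 6) (by norm_num))
  have r1 := rep_vec RowG2.hp CoxeterMatrix.G₂.toCoxeterSystem (1 : Fin 2) (RowG2.lt (r := 7) (by norm_num))
  rw [show chevG2.reflectRoot ((0 : Fin 2) : ℕ) 6 = 10 from RowG2.refl.1, e1] at r0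
  rw [show chevG2.reflectRoot ((1 : Fin 2) : ℕ) 7 = 8 from RowG2.refl.2, e0] at r1
  refine ⟨2, CoxeterMatrix.G₂, _, RowG2.hp.isCartan, TT chevG2 K, nc RowG2.hp K, XX chevG2 2 K,
    finite_W RowG2.hp CoxeterMatrix.G₂.toCoxeterSystem,
    rgd RowG2.hp CoxeterMatrix.G₂.toCoxeterSystem 2, G1_eq_top RowG2.hp CoxeterMatrix.G₂.toCoxeterSystem,
    ⟨0, 1, by decide⟩, conn_of_bool (by decide +kernel), Or.inr ⟨0, 1, by decide, by decide, ?_, ?_⟩⟩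
  · show NComm (XX chevG2 2 K (sr 0)) (XX chevG2 2 K (rep _ _ (CoxeterMatrix.G₂.toCoxeterSystem.simple 1) (sr 0)))
    rw [r1, ← e0]
    exact RowG2.nc01
  · show NComm (XX chevG2 2 K (sr 1)) (XX chevG2 2 K (rep _ _ (CoxeterMatrix.G₂.toCoxeterSystem.simple 0) (sr 1)))
    rw [r0, ← e1]
    exact RowG2.nc10

end G2

section D4

open CoxeterSystem Cfsg.Agent.ChevalleyStructure.CoxeterGeom Cfsg.Agent.Tits.Roots Cfsg.Agent.Tits.Core
  Cfsg.Agent.Tits.RootComb Cfsg.Agent.Nodes.Comb Cfsg.Agent.Nodes.Reps Cfsg.Agent.Nodes.BNOf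
  Cfsg.Agent.Nodes.BNOf.RGD Cfsg.Agent.Nodes.RGDChev Cfsg.Agent.Nodes.RGDFold Cfsg.Agent.Nodes.FreeTorus
  Cfsg.Agent.KFacts.RgdCharP
open Cfsg.Lie Cfsg.Agent.ChevalleyStructure
open Cfsg.Agent.ChevalleyStructure.D4U (RS)
open Cfsg.Agent.SplitTwo (kk HexPar HexRel trc crs shp nrm)
open Cfsg.Agent.Hexagon
open Cfsg.Agent.Nodes.RGDFoldSL Cfsg.Agent.Nodes.RGDTwNode.D4
open Cfsg.Agent.ChevalleyStructure.SL2Hom (up lo mem_closure_SL2)
open Cfsg.Agent.Omega.Lie.End Cfsg.Agent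
open Cfsg.Agent.ParSys.Fam
open scoped commutatorElement

universe u

/-- **`³D₄(q)`** -/
theorem dRow_D4 {K : Type u} [Field K] [Fintype K] [CharP K 2] {q : ℕ} (hq : IsPrimePow q)
    (hK : Fintype.card K = q ^ 3) : DRow ↥(twistedD4 K q) := by
  have : Fact (Nat.Prime 2) := ⟨Nat.prime_two⟩
  obtain ⟨φ, hφ⟩ := D4Fixed.exists_frob hq hK
  have hle := D4Fixed.twisted_le_fix hK hφ
  have hcard := D4H1.card_fixed hq.one_lt hK hφ
  have hbij : Function.Bijective φ := Finite.injective_iff_bijective.1 φ.injective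
  have h3 : ∀ a, φ (φ (φ a)) = a := by
    intro t
    rw [hφ, hφ, hφ, ← pow_mul, ← pow_mul]
    have : q * (q * q) = q ^ 3 := by ring
    rw [this, ← hK]
    exact FiniteField.pow_card t
  have hne : ∃ d, φ d ≠ d := by
    by_contra hcon
    push Not at hcon
    have h5 : Nat.card {b : Kˣ // φ b = b} = Nat.card Kˣ :=
      Nat.card_congr (Equiv.subtypeUnivEquiv fun b : Kˣ => hcon b)
    rw [hcard, Nat.card_units, Nat.card_eq_fintype_card, hK] at h5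
    have h7 := hq.one_lt
    have h6 : q < q ^ 3 := by nlinarith [Nat.pow_le_pow_left h7.le 2, h7]
    omega
  have hfin := Nodes.RGDChev.finite_W RowG2.hp D4.cs
  have R := Nodes.RGDTwD4.rgd (K := K) D4.cs hK hφ 2
  have H := TwD4Par.hexPar hφ hle (σ := RingEquiv.ofBijective φ hbij) (fun _ => rfl) h3
  have hn := RowD4.hex_ne (σ := RingEquiv.ofBijective φ hbij) hne H.rel H.inj2 H.inj4
  have c1 := D4.mem_iff (q := q) hle (k := 1) Nodes.RGDTwD4.cls1 (by decide +kernel) D4.L_eqs.1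
  have c2 := D4.mem_iff (q := q) hle (k := 2) D4.cls2 (by decide +kernel) D4.L_eqs.2.1
  have c5 := D4.mem_iff (q := q) hle (k := 5) D4.cls5 (by decide +kernel) D4.L_eqs.2.2.2.2.1
  have c6 := D4.mem_iff (q := q) hle (k := 6) Nodes.RGDTwD4.cls0 (by decide +kernel) D4.L_eqs.2.2.2.2.2
  refine ⟨2, CoxeterMatrix.G₂, _, Nodes.RGDTwD4.isCartan, Nodes.RGDTwD4.T K q, Nodes.RGDTwD4.n hφ, Nodes.RGDTwD4.X φ q,
    hfin, R, Nodes.RGDTwD4.G1_eq_top D4.cs hK hφ, ⟨0, 1, by decide⟩, conn_G2,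
    Or.inr ⟨0, 1, by decide, by decide, ?_, ?_⟩⟩
  · show NComm (Nodes.RGDTwD4.X φ q (sr 0)) (Nodes.RGDTwD4.X φ q
      (rep CoxeterMatrix.G₂.toCoxeterSystem Nodes.RGDTwD4.isCartan (CoxeterMatrix.G₂.toCoxeterSystem.simple 1) (sr 0)))
    rw [KTorus.rep_sr_sr, ← RowD4.V22]
    refine ⟨_, (c6 _).2 ((H.mem6 _).2 ⟨1, map_one _, rfl⟩), _, (c2 _).2 ((H.mem2 _).2 ⟨1, map_one _, rfl⟩),
      fun h0 => hn.2 (RowD4.kk_iff.2 h0.symm)⟩
  · show NComm (Nodes.RGDTwD4.X φ q (sr 1)) (Nodes.RGDTwD4.X φ q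
      (rep CoxeterMatrix.G₂.toCoxeterSystem Nodes.RGDTwD4.isCartan (CoxeterMatrix.G₂.toCoxeterSystem.simple 0) (sr 1)))
    rw [KTorus.rep_sr_sr, ← RowD4.V19]
    obtain ⟨b, hb⟩ := hn.1
    exact ⟨_, (c1 _).2 ((H.mem1 _).2 ⟨1, rfl⟩), _, (c5 _).2 ((H.mem5 _).2 ⟨b, rfl⟩), fun h0 => hb (RowD4.kk_iff.2 h0)⟩

end D4

section SL

open CoxeterSystem Cfsg.Agent.ChevalleyStructure.CoxeterGeom Cfsg.Agent.Tits.Roots Cfsg.Agent.Tits.Core
  Cfsg.Agent.Tits.RootComb Cfsg.Agent.Nodes.Comb Cfsg.Agent.Nodes.Reps Cfsg.Agent.Nodes.BNOf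
  Cfsg.Agent.Nodes.RGDLib Cfsg.Agent.KFacts.RgdCharP Cfsg.Agent.KFacts.SLRow
open Matrix Cfsg.Agent.Nodes.RootsA Cfsg.Agent.Nodes.RGDTypeA Cfsg.Agent.FixBN.PslGood
open Cfsg.Agent.LieRecognition.BNCox (cA)
open Cfsg.Agent.LieClassical.SLGen
open Cfsg.Agent.TitsThree.KSideA (tv tv_of_ne tv_add tv_zero tv_neg)
open Cfsg.Agent.Omega.Lie.End

/-- **`L_{n+1}(2)`, `n ≥ 2`** -/
theorem dRow_SL {F : Type*} [Field F] [Finite F] [CharP F 2] (hF : Nat.card F = 2) {n : ℕ} (hn : 2 ≤ n) :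
    DRow (ProjectiveSpecialLinearGroup (Fin (n + 1)) F) := by
  have : Fact (Nat.Prime 2) := ⟨Nat.prime_two⟩
  have hW : Finite (cA n).Group := finite_W (cA n).toCoxeterSystem (isCartan n)
  have R := rgd_psl (F := F) (p := 2) (cA n).toCoxeterSystem (isCartan n)
  refine ⟨n, cA n, AA n, isCartan n, _, _, _, hW, R, G1_psl_eq_top _ _, ?_, conn_of_def Psl.conn_cA,
    Or.inl ⟨⟨0, by omega⟩, ?_⟩⟩
  · exact ⟨⟨0, by omega⟩, ⟨1, by omega⟩, fun e => by simpa using congrArg Fin.val e⟩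
  set i : Fin n := ⟨0, by omega⟩
  have hr : ∀ y, y ∈ (X F (sr i)).map (pr n F) ↔ ∃ a, pr n F (tv i.castSucc i.succ a) = y := by
    intro y
    rw [X_sr, Subgroup.mem_map]
    constructor
    · rintro ⟨_, ⟨a, rfl⟩, rfl⟩
      exact ⟨a, rfl⟩
    · rintro ⟨a, rfl⟩
      exact ⟨_, ⟨a, rfl⟩, rfl⟩
  have h1 : Nat.card ↥((X F (sr i)).map (pr n F)) ≤ Nat.card F :=
    Nat.card_le_card_of_surjective
      (fun a : F => (⟨pr n F (tv i.castSucc i.succ a), (hr _).2 ⟨a, rfl⟩⟩ : ↥((X F (sr i)).map (pr n F)))) (by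
        rintro ⟨y, hy⟩
        obtain ⟨a, rfl⟩ := (hr y).1 hy
        exact ⟨a, rfl⟩)
  rw [hF] at h1
  change Nat.card ↥((X F (sr i)).map (pr n F)) < 4
  omega

end SL

end Cfsg.Agent.Omega.SQEnd.Dead
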