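import Cfsg.Agent.Omega.SQEnd.CfgOf

/-!
# `PLoc` from `BTC`, `Coord`, `KD`, `C(W) ≤ R` and `N_{N(R)}(W A) ≤ N(V)`
-/

set_option autoImplicit false

universe u v w z

namespace Cfsg.Agent.Omega.SQEnd

open Subgroup Cfsg.Agent.Omega.BTwo Cfsg.Agent.Lib.SL2Mat Cfsg.Agent.Omega.Hex

variable {G : Type u} [Group G] [Finite G] {ι : Type v} {V : Subgroup G} {R : ι → Subgroup G} {i j : ι} {k : Type w}
  [Field k] {K : Subgroup G} {φ : K →* Matrix.SpecialLinearGroup (Fin 2) k} {F : Type z} [Field F] [Finite F]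
  [CharP F 2] {v : F → F → G} {w1 w2 : F → G}

theorem four_le_card (b : BTC V R) (c : Coord V R i j v w1 w2) (kd : KD V R i j K φ)
    (NAe : ∀ g ∈ normalizer (R i : Set G), cj g (WW V (R i) ⊔ UU V R j) = WW V (R i) ⊔ UU V R j → cj g V = V)
    (hF : 4 ≤ Nat.card F) : 4 ≤ Nat.card k := by
  have := kd.finite
  have := kd.charP b
  obtain ⟨s, hs, hs1⟩ := exists_ne_one hF
  obtain ⟨l, hl, hl1⟩ := exists_ne_k b c kd NAe hs hs1
  have h1 := odd_units k
  have h2 : 2 ≤ Nat.card kˣ := by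
    have h3 : Nontrivial kˣ := ⟨⟨Units.mk0 l hl, 1, fun h => hl1 (congrArg Units.val h)⟩⟩
    exact Finite.one_lt_card
  rw [Nat.card_units] at h1 h2
  rcases h1 with ⟨m, hm⟩
  omega

/-- **`PLoc`** -/
theorem ploc (b : BTC V R) (c : Coord V R i j v w1 w2) (kd : KD V R i j K φ)
    (hC : centralizer (WW V (R i) : Set G) ≤ R i)
    (NAe : ∀ g ∈ normalizer (R i : Set G), cj g (WW V (R i) ⊔ UU V R j) = WW V (R i) ⊔ UU V R j → cj g V = V)
    (hF : 4 ≤ Nat.card F) : PLoc V R i K (Nat.card k) := by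
  have := kd.finite
  have := kd.charP b
  obtain ⟨L, w, h, hwV, -⟩ := exists_cfgI b c kd hC NAe hF
  exact KIn.ploc (n := { kd := kd, NA := NAe }) b.toBT c hF (four_le_card b c kd NAe hF) h.wK hwV h.toCfg.E2
    fun u hu => h.toCfg.E4 h.hV h.hU hu

end Cfsg.Agent.Omega.SQEnd
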